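import Cfsg.Agent.S3072
import Cfsg.Agent.Coprime.Basic
import Cfsg.Prelude.Def_TwoFusion
import Mathlib

/-!
Finite groups in which two distinct Sylow 2-subgroups meet in an abelian group: first consequences, and fusion
as generated by the normalisers of the Sylow subgroup and of its abelian self-centralising subgroups.
-/

set_option autoImplicit false
set_option linter.unusedSectionVars false
set_option linter.style.haveILetI false

namespace Cfsg.Lib.AbelianMeet

open Subgroup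
open scoped commutatorElement
open Cfsg.Lib.Coprime (conjMap mem_conjMap conjMap_eq_self conjMap_eq_self_iff)

/-- elementwise commutativity of a subgroup -/
def Ab {G : Type*} [Group G] (U : Subgroup G) : Prop := ∀ x ∈ U, ∀ y ∈ U, x * y = y * x

/-- the hypothesis: distinct Sylow 2-subgroups meet in an abelian group, and the fixed one has class above two -/
structure Hyp (G : Type*) [Group G] (S : Sylow 2 G) : Prop where
  meet : ∀ P Q : Sylow 2 G, P ≠ Q → Ab ((P : Subgroup G) ⊓ (Q : Subgroup G))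
  big : ¬ ∀ a ∈ (S : Subgroup G), ∀ b ∈ (S : Subgroup G), ∀ c ∈ (S : Subgroup G),
    a * b * a⁻¹ * b⁻¹ * c = c * (a * b * a⁻¹ * b⁻¹)

variable {G : Type*} [Group G]

theorem Ab.mono {U V : Subgroup G} (h : Ab V) (hUV : U ≤ V) : Ab U :=
  fun x hx y hy => h x (hUV hx) y (hUV hy)

theorem Ab.le_centralizer {U : Subgroup G} (h : Ab U) : U ≤ centralizer (U : Set G) :=
  fun x hx => mem_centralizer_iff.2 fun y hy => h y hy x hx

theorem ab_conj {U : Subgroup G} (h : Ab U) (g : G) : Ab (conjMap g U) := by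
  rintro _ ⟨x, hx, rfl⟩ _ ⟨y, hy, rfl⟩
  rw [← map_mul, ← map_mul, h x hx y hy]

theorem mem_cent_iff {x v : G} : x ∈ centralizer ({v} : Set G) ↔ x * v = v * x :=
  mem_centralizer_singleton_iff

theorem mem_conj_of_mem {U : Subgroup G} {g x : G} (hx : x ∈ U) : g * x * g⁻¹ ∈ conjMap g U := by
  rw [mem_conjMap]; simpa [mul_assoc] using hx

theorem mem_normalizer_of_conj_le {U : Subgroup G} [Finite G] {g : G} (h : ∀ x ∈ U, g * x * g⁻¹ ∈ U) :
    g ∈ normalizer (U : Set G) := by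
  refine conjMap_eq_self_iff.1 (eq_of_le_of_card_ge ?_ (Cfsg.Lib.Coprime.card_conjMap g U).ge)
  rintro _ ⟨x, hx, rfl⟩
  exact h x hx

theorem conj_mem_of_normalizer {U : Subgroup G} {g x : G} (hg : g ∈ normalizer (U : Set G)) (hx : x ∈ U) :
    g * x * g⁻¹ ∈ U :=
  (mem_normalizer_iff.1 hg x).1 hx

theorem conj_mem_of_normalizer' {U : Subgroup G} {g x : G} (hg : g ∈ normalizer (U : Set G)) (hx : x ∈ U) :
    g⁻¹ * x * g ∈ U := by
  simpa using conj_mem_of_normalizer (inv_mem hg) hx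

theorem smul_coe (g : G) (P : Sylow 2 G) : ((g • P : Sylow 2 G) : Subgroup G) = conjMap g P := rfl

variable [Finite G]

theorem smul_eq_self {g : G} {P : Sylow 2 G} : g • P = P ↔ g ∈ normalizer ((P : Subgroup G) : Set G) := by
  rw [← conjMap_eq_self_iff]
  exact ⟨fun h => by rw [← smul_coe, h], fun h => Sylow.ext (by rw [smul_coe, h])⟩

theorem conj_mem_smul {g x : G} {P : Sylow 2 G} (hx : x ∈ (P : Subgroup G)) :
    g * x * g⁻¹ ∈ ((g • P : Sylow 2 G) : Subgroup G) := mem_conj_of_mem hx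

/-- in a subgroup of a finite 2-group a proper subgroup is properly contained in its normaliser -/
theorem exists_norm_not_mem {P K U : Subgroup G} (hP : IsPGroup 2 P) (hK : K ≤ P) (hU : U ≤ K) {k : G}
    (hk : k ∈ K) (hkU : k ∉ U) : ∃ e ∈ K, e ∉ U ∧ e ∈ normalizer (U : Set G) := by
  haveI : Fact (Nat.Prime 2) := ⟨Nat.prime_two⟩
  haveI : Group.IsNilpotent K := (hP.to_le hK).isNilpotent
  have hlt : U.subgroupOf K < ⊤ := lt_top_iff_ne_top.2 fun h => hkU (subgroupOf_eq_top.1 h hk)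
  obtain ⟨x, hx, hxU⟩ := SetLike.exists_of_lt (Group.normalizerCondition_of_isNilpotent (U.subgroupOf K) hlt)
  refine ⟨x, x.2, hxU, mem_normalizer_of_conj_le fun y hy => ?_⟩
  exact (mem_normalizer_iff.1 hx ⟨y, hU hy⟩).1 hy

variable {S : Sylow 2 G}

namespace Hyp

variable (h : Hyp G S)

include h

theorem not_ab : ¬ Ab (S : Subgroup G) := fun hab => h.big fun a ha b hb c hc =>
  hab _ (mul_mem (mul_mem (mul_mem ha hb) (inv_mem ha)) (inv_mem hb)) c hc

theorem eq_of_le {P Q : Sylow 2 G} {U : Subgroup G} (hU : ¬ Ab U) (hP : U ≤ (P : Subgroup G))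
    (hQ : U ≤ (Q : Subgroup G)) : P = Q := by
  by_contra hne
  exact hU ((h.meet P Q hne).mono (le_inf hP hQ))

/-- a nonabelian subgroup lies in a unique Sylow subgroup -/
theorem normalizes {P : Sylow 2 G} {U : Subgroup G} (hU : ¬ Ab U) (hUP : U ≤ (P : Subgroup G)) {g : G}
    (hg : ∀ x ∈ U, g * x * g⁻¹ ∈ (P : Subgroup G)) : g ∈ normalizer ((P : Subgroup G) : Set G) := by
  have hle : U ≤ ((g⁻¹ • P : Sylow 2 G) : Subgroup G) := fun x hx => by
    rw [smul_coe, mem_conjMap, inv_inv]; exact hg x hx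
  have := smul_eq_self.1 (h.eq_of_le hU hle hUP)
  exact inv_mem_iff.1 this

theorem normalizes_of_normalizer {P : Sylow 2 G} {U : Subgroup G} (hU : ¬ Ab U) (hUP : U ≤ (P : Subgroup G))
    {g : G} (hg : g ∈ normalizer (U : Set G)) : g ∈ normalizer ((P : Subgroup G) : Set G) :=
  h.normalizes hU hUP fun _ hx => hUP (conj_mem_of_normalizer hg hx)

/-- a nonabelian subgroup of `S` is enlarged by a Sylow subgroup of any overgroup only inside `S` -/
theorem le_of_pgroup {U X : Subgroup G} (hU : ¬ Ab U) (hUS : U ≤ (S : Subgroup G)) (hX : IsPGroup 2 X)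
    (hUX : U ≤ X) : X ≤ (S : Subgroup G) := by
  obtain ⟨Q, hQ⟩ := hX.exists_le_sylow
  rwa [h.eq_of_le hU hUS (hUX.trans hQ)]

/-- two elements of `S` with nonabelian centralisers in `S` that are conjugate are conjugate under `N(S)` -/
theorem conj_by_normalizer {x y g : G}
    (hx : ¬ Ab ((S : Subgroup G) ⊓ centralizer ({x} : Set G)))
    (hy : ¬ Ab ((S : Subgroup G) ⊓ centralizer ({y} : Set G))) (hg : g * x * g⁻¹ = y) :
    ∃ n ∈ normalizer ((S : Subgroup G) : Set G), n * x * n⁻¹ = y := by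
  haveI : Fact (Nat.Prime 2) := ⟨Nat.prime_two⟩
  set Cy := centralizer ({y} : Set G)
  -- a Sylow subgroup of `C(y)` through `S ∩ C(y)`
  obtain ⟨R, hR⟩ := (S.isPGroup'.to_le (inf_le_left : (S : Subgroup G) ⊓ Cy ≤ S)).comap_of_injective Cy.subtype
    Cy.subtype_injective |>.exists_le_sylow
  obtain ⟨R', hR'⟩ := ((S.isPGroup'.to_le
    (inf_le_left : (S : Subgroup G) ⊓ centralizer ({x} : Set G) ≤ S)).map (MulAut.conj g).toMonoidHom).comap_of_injective
      Cy.subtype Cy.subtype_injective |>.exists_le_sylow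
  obtain ⟨c, hc⟩ := MulAction.exists_smul_eq Cy R' R
  have hRS : (R : Subgroup Cy).map Cy.subtype ≤ (S : Subgroup G) := by
    refine h.le_of_pgroup hy inf_le_left (R.isPGroup'.map _) fun z hz => ⟨⟨z, hz.2⟩, hR hz, rfl⟩
  have key : ∀ z ∈ (S : Subgroup G) ⊓ centralizer ({x} : Set G),
      (c : G) * g * z * ((c : G) * g)⁻¹ ∈ (S : Subgroup G) := by
    intro z hz
    have hzC : g * z * g⁻¹ ∈ Cy := mem_cent_iff.2 (by
      rw [← hg]
      calc g * z * g⁻¹ * (g * x * g⁻¹) = g * (z * x) * g⁻¹ := by group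
        _ = g * (x * z) * g⁻¹ := by rw [mem_cent_iff.1 hz.2]
        _ = _ := by group)
    have h1 : (⟨_, hzC⟩ : Cy) ∈ (R' : Subgroup Cy) := hR' ⟨z, hz, rfl⟩
    have h2 : c * ⟨_, hzC⟩ * c⁻¹ ∈ (R : Subgroup Cy) := by
      rw [← hc]; exact mem_conj_of_mem h1
    have h3 : (c : G) * (g * z * g⁻¹) * (c : G)⁻¹ ∈ (S : Subgroup G) := hRS ⟨_, h2, rfl⟩
    convert h3 using 1
    group
  refine ⟨c * g, h.normalizes hx inf_le_left key, ?_⟩
  calc (c : G) * g * x * ((c : G) * g)⁻¹ = (c : G) * (g * x * g⁻¹) * (c : G)⁻¹ := by group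
    _ = y := by rw [hg, mem_cent_iff.1 c.2]; group

theorem cent_center_not_ab {x : G} (hx : x ∈ centralizer ((S : Subgroup G) : Set G)) :
    ¬ Ab ((S : Subgroup G) ⊓ centralizer ({x} : Set G)) := fun hab =>
  h.not_ab (hab.mono (le_inf le_rfl fun s hs => mem_cent_iff.2 (mem_centralizer_iff.1 hx s hs)))

/-- a conjugate of a central element is central or has an abelian centraliser -/
theorem central_or_ab {x g : G} (hxc : x ∈ centralizer ((S : Subgroup G) : Set G))
    (hg : g * x * g⁻¹ ∉ centralizer ((S : Subgroup G) : Set G)) :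
    Ab ((S : Subgroup G) ⊓ centralizer ({g * x * g⁻¹} : Set G)) := by
  by_contra hv
  obtain ⟨n, hn, e⟩ := h.conj_by_normalizer (h.cent_center_not_ab hxc) hv rfl
  refine hg (mem_centralizer_iff.2 fun s hs => ?_)
  have h1 := mem_centralizer_iff.1 hxc _ (conj_mem_of_normalizer' hn hs)
  rw [← e]
  calc s * (n * x * n⁻¹) = n * (n⁻¹ * s * n * x) * n⁻¹ := by group
    _ = n * (x * (n⁻¹ * s * n)) * n⁻¹ := by rw [h1]
    _ = _ := by group

end Hyp

/-- the abelian self-centralising subgroups of `S` -/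
structure Self (S : Sylow 2 G) (U : Subgroup G) : Prop where
  le : U ≤ (S : Subgroup G)
  ab : Ab U
  cent : (S : Subgroup G) ⊓ centralizer (U : Set G) ≤ U

namespace Self

variable (h : Hyp G S) {U : Subgroup G} (hU : Self S U)

include h hU

theorem exists_out : ∃ e ∈ (S : Subgroup G), e ∉ U ∧ e ∈ normalizer (U : Set G) := by
  have hne : ¬ (S : Subgroup G) ≤ U := fun hle => h.not_ab (hU.ab.mono hle)
  obtain ⟨k, hk, hkU⟩ := SetLike.not_le_iff_exists.1 hne
  exact exists_norm_not_mem S.isPGroup' le_rfl hU.le hk hkU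

omit h in
theorem not_ab_of_lt {X : Subgroup G} (hXS : X ≤ (S : Subgroup G)) (hUX : U ≤ X) (hne : ¬ X ≤ U) : ¬ Ab X :=
  fun hab => hne fun x hx => hU.cent ⟨hXS hx, mem_centralizer_iff.2 fun u hu => hab u (hUX hu) x hx⟩

theorem norm_not_ab : ¬ Ab ((S : Subgroup G) ⊓ normalizer (U : Set G)) := by
  obtain ⟨e, heS, heU, hen⟩ := Self.exists_out h hU
  exact hU.not_ab_of_lt inf_le_left (le_inf hU.le le_normalizer) fun hle => heU (hle ⟨heS, hen⟩)

/-- `N_S(U)` is a Sylow subgroup of `N(U)` -/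
theorem pgroup_le {X : Subgroup G} (hX : IsPGroup 2 X)
    (hRX : (S : Subgroup G) ⊓ normalizer (U : Set G) ≤ X) : X ≤ (S : Subgroup G) :=
  h.le_of_pgroup (Self.norm_not_ab h hU) inf_le_left hX hRX

end Self

/-- fusion is generated by the normalisers of `S` and of the abelian self-centralising subgroups -/
theorem Hyp.fusion (h : Hyp G S) (Rel : G → G → Prop) (hrefl : ∀ x ∈ (S : Subgroup G), Rel x x)
    (htrans : ∀ a b c, Rel a b → Rel b c → Rel a c)
    (hN : ∀ n ∈ normalizer ((S : Subgroup G) : Set G), ∀ x ∈ (S : Subgroup G), Rel x (n * x * n⁻¹))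
    (hU : ∀ U : Subgroup G, Self S U → ∀ m ∈ normalizer (U : Set G), ∀ x ∈ U, Rel x (m * x * m⁻¹))
    {x g : G} (hx : x ∈ (S : Subgroup G)) (hgx : g * x * g⁻¹ ∈ (S : Subgroup G)) : Rel x (g * x * g⁻¹) := by
  haveI : Fact (Nat.Prime 2) := ⟨Nat.prime_two⟩
  rcases eq_or_ne x 1 with rfl | hx1
  · simpa using hrefl 1 (one_mem _)
  obtain ⟨n, U, X, f, c, y, hc, hy, hg, hf⟩ := Cfsg.Agent.S3072.result S ({x} : Set G)
    (Set.singleton_subset_iff.2 hx) ⟨x, rfl, hx1⟩ g⁻¹ (by
      rintro _ ⟨a, rfl, rfl⟩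
      show g⁻¹⁻¹ * a * g⁻¹ ∈ (S : Subgroup G)
      rwa [inv_inv])
  set p : ℕ → G := fun i => ((List.ofFn f).take i).prod with hp
  have hstep : ∀ i ≤ n, (p i)⁻¹ * x * p i ∈ (S : Subgroup G) ∧ Rel x ((p i)⁻¹ * x * p i) := by
    intro i hi
    induction i with
    | zero => simpa [hp] using ⟨hx, hrefl x hx⟩
    | succ j ih =>
      obtain ⟨hS', hrel⟩ := ih (by omega)
      obtain ⟨hle, -, hcent, -, -, ⟨-, hXn, -⟩, hfj, hA⟩ := hf ⟨j, by omega⟩
      have hmem : (p j)⁻¹ * x * p j ∈ U ⟨j, by omega⟩ := hA ⟨x, rfl, rfl⟩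
      have hfN : (f ⟨j, by omega⟩)⁻¹ ∈ normalizer (U ⟨j, by omega⟩ : Set G) :=
        inv_mem (hXn (map_subtype_le _ hfj))
      have hsucc : (p (j + 1))⁻¹ * x * p (j + 1) =
          (f ⟨j, by omega⟩)⁻¹ * ((p j)⁻¹ * x * p j) * (f ⟨j, by omega⟩)⁻¹⁻¹ := by
        have : p (j + 1) = p j * f ⟨j, by omega⟩ := by
          simp only [hp]
          rw [List.prod_take_succ _ _ (by simpa using show j < n by omega)]
          simp
        rw [this]; group
      rw [hsucc]
      refine ⟨hle (conj_mem_of_normalizer hfN hmem), htrans _ _ _ hrel ?_⟩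
      by_cases hab : Ab (U ⟨j, by omega⟩)
      · exact hU _ ⟨hle, hab, hcent⟩ _ hfN _ hmem
      · exact hN _ (h.normalizes_of_normalizer hab hle hfN) _ hS'
  obtain ⟨hS', hrel⟩ := hstep n le_rfl
  have hpn : p n = (List.ofFn f).prod := by
    simp only [hp]; rw [List.take_of_length_le (by simp)]
  have hcx : x * c = c * x := hc x rfl
  have e : g * x * g⁻¹ = y⁻¹ * ((p n)⁻¹ * x * p n) * y⁻¹⁻¹ := by
    have hg' : g = y⁻¹ * (p n)⁻¹ * c⁻¹ := by rw [← inv_inv g, hg, hpn]; group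
    rw [hg']
    calc y⁻¹ * (p n)⁻¹ * c⁻¹ * x * (y⁻¹ * (p n)⁻¹ * c⁻¹)⁻¹ = y⁻¹ * (p n)⁻¹ * (c⁻¹ * (x * c)) * p n * y := by group
      _ = _ := by rw [hcx]; group
  rw [e]
  exact htrans _ _ _ hrel (hN _ (inv_mem hy) _ hS')

/-- the focal subgroup of a simple group is the whole Sylow subgroup -/
theorem focal_top [IsSimpleGroup G] (hG : ¬ IsMulCommutative G) {D : Subgroup G}
    (hD : ∀ a ∈ (S : Subgroup G), ∀ u : G, u * a * u⁻¹ ∈ (S : Subgroup G) → a⁻¹ * (u * a * u⁻¹) ∈ D) :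
    (S : Subgroup G) ≤ D := by
  haveI : Fact (Nat.Prime 2) := ⟨Nat.prime_two⟩
  have hc : _root_.commutator G = ⊤ :=
    (Subgroup.Normal.eq_bot_or_eq_top inferInstance).resolve_left fun hb => hG ⟨⟨fun a b => by
      refine commutatorElement_eq_one_iff_mul_comm.mp ?_
      rw [← mem_bot, ← hb]
      exact commutator_mem_commutator (mem_top a) (mem_top b)⟩⟩
  have := commutator_inf_eq_focalSubgroup S
  rw [hc, top_inf_eq] at this
  rw [this, focalSubgroup_def, closure_le]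
  rintro g ⟨hg, x, hx, u, rfl⟩
  have hu : u * x⁻¹ * u⁻¹ ∈ (S : Subgroup G) := by
    have := mul_mem (inv_mem hx) hg
    rwa [commutatorElement_def, show x⁻¹ * (x * u * x⁻¹ * u⁻¹) = u * x⁻¹ * u⁻¹ by group] at this
  have := hD x⁻¹ (inv_mem hx) u hu
  rwa [inv_inv, show x * (u * x⁻¹ * u⁻¹) = ⁅x, u⁆ by rw [commutatorElement_def]; group] at this

end Cfsg.Lib.AbelianMeet
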