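import Cfsg.Agent.AbelianMeet.Pairs

/-!
An involution interchanging two members with three independent involutions does not have an abelian centraliser
of index two over its part in the intersection.
-/

set_option autoImplicit false
set_option linter.unusedSectionVars false
set_option linter.style.haveILetI false

namespace Cfsg.Lib.AbelianMeet

open Subgroup
open Cfsg.Lib.Coprime (conjMap mem_conjMap conjMap_eq_self conjMap_eq_self_iff)

variable {G : Type*} [Group G]

/-- a central square of a product of two involutions has order at most two -/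
theorem sq_sq_of_central {x y : G} (hx : x * x = 1) (hy : y * y = 1)
    (hc : x * (x * y * (x * y)) = x * y * (x * y) * x) : x * y * (x * y) * (x * y * (x * y)) = 1 := by
  calc x * y * (x * y) * (x * y * (x * y)) = x * y * (x * y) * ((x * y * (x * y)) * (x * x)) := by
        rw [hx, mul_one]
    _ = x * y * (x * y) * (x * (x * y * (x * y)) * x) := by rw [hc]; group
    _ = x * y * (x * y) * ((x * x) * y * x * y * x) := by group
    _ = x * y * x * (y * y) * x * y * x := by rw [hx]; group
    _ = x * y * (x * x) * y * x := by rw [hy]; group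
    _ = x * (y * y) * x := by rw [hx]; group
    _ = 1 := by rw [hy, mul_one, hx]

/-- swapping two noncommuting pairs of involutions with central commutators -/
theorem four_involutions {a a' b b' v : G} (ha : a * a = 1) (ha' : a' * a' = 1) (hb : b * b = 1) (hb' : b' * b' = 1)
    (hv : v * v = 1) (hva : v * a * v = a') (hvb : v * b * v = b') (hab : a * b = b * a) (hab' : a' * b' = b' * a')
    {w : G} (hw : a * a' * (a * a') = w) (hwb : b * b' * (b * b') = w) (hwab : a * b * a' * b' * (a * b * a' * b') = w)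
    (hcent : ∀ x ∈ ({a * b' * (a * b'), b * a' * (b * a'), w} : Set G), ∀ y ∈ ({a, a', b, b'} : Set G),
      y * x = x * y)
    (hU : ∀ x, x * v = v * x → ∀ y, y * v = v * y → x ∈ ({a * a' * (a * b' * (a * b'))} : Set G) →
      y ∈ ({b * b' * (a * b' * (a * b'))} : Set G) → x * y = y * x) : w = 1 := by
  set z₀ := a * b' * (a * b') with hz₀
  set z₁ := b * a' * (b * a') with hz₁
  have c0 : ∀ {y}, y ∈ ({a, a', b, b'} : Set G) → y * z₀ = z₀ * y := fun hy => hcent _ (Or.inl rfl) _ hy
  have c1 : ∀ {y}, y ∈ ({a, a', b, b'} : Set G) → y * z₁ = z₁ * y := fun hy => hcent _ (Or.inr (Or.inl rfl)) _ hy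
  have cw : ∀ {y}, y ∈ ({a, a', b, b'} : Set G) → y * w = w * y := fun hy => hcent _ (Or.inr (Or.inr rfl)) _ hy
  have hA : a ∈ ({a, a', b, b'} : Set G) := Or.inl rfl
  have hA' : a' ∈ ({a, a', b, b'} : Set G) := Or.inr (Or.inl rfl)
  have hB : b ∈ ({a, a', b, b'} : Set G) := Or.inr (Or.inr (Or.inl rfl))
  have hB' : b' ∈ ({a, a', b, b'} : Set G) := Or.inr (Or.inr (Or.inr rfl))
  have z0sq : z₀ * z₀ = 1 := sq_sq_of_central ha hb' (c0 hA)
  have z1sq : z₁ * z₁ = 1 := sq_sq_of_central hb ha' (c1 hB)
  have wsq : w * w = 1 := by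
    rw [← hw]; exact sq_sq_of_central ha ha' (by rw [hw]; exact cw hA)
  have inv2 : ∀ {x : G}, x * x = 1 → x⁻¹ = x := fun h => inv_eq_of_mul_eq_one_right h
  -- exchange rules
  have r0 : b' * a = z₀ * (a * b') := by
    calc b' * a = (a * b' * (a * b')) * (a * b' * (a * b')) * (b' * a) := by rw [← hz₀, z0sq, one_mul]
      _ = z₀ * (a * b' * a * (b' * b') * a) := by rw [hz₀]; group
      _ = z₀ * (a * b' * (a * a)) := by rw [hb']; group
      _ = _ := by rw [ha, mul_one]
  have r1 : a' * b = z₁ * (b * a') := by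
    calc a' * b = (b * a' * (b * a')) * (b * a' * (b * a')) * (a' * b) := by rw [← hz₁, z1sq, one_mul]
      _ = z₁ * (b * a' * b * (a' * a') * b) := by rw [hz₁]; group
      _ = z₁ * (b * a' * (b * b)) := by rw [ha']; group
      _ = _ := by rw [hb, mul_one]
  have rw' : a' * a = w * (a * a') := by
    calc a' * a = (a * a' * (a * a')) * (a * a' * (a * a')) * (a' * a) := by rw [hw, wsq, one_mul]
      _ = w * (a * a' * a * (a' * a') * a) := by rw [← hw]; group
      _ = w * (a * a' * (a * a)) := by rw [ha']; group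
      _ = _ := by rw [ha, mul_one]
  have rwb : b' * b = w * (b * b') := by
    calc b' * b = (b * b' * (b * b')) * (b * b' * (b * b')) * (b' * b) := by rw [hwb, wsq, one_mul]
      _ = w * (b * b' * b * (b' * b') * b) := by rw [← hwb]; group
      _ = w * (b * b' * (b * b)) := by rw [hb']; group
      _ = _ := by rw [hb, mul_one]
  have hsum : z₀ * z₁ = w := by
    rw [← hwab]
    symm
    have k1 : b' * (a * b) = z₀ * w * (a * b * b') := by
      calc b' * (a * b) = (b' * a) * b := by group
        _ = z₀ * a * (b' * b) := by rw [r0]; group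
        _ = z₀ * (a * w) * (b * b') := by rw [rwb]; group
        _ = _ := by rw [cw hA]; group
    have k2 : a' * (a * b) = w * z₁ * (a * b * a') := by
      calc a' * (a * b) = (a' * a) * b := by group
        _ = w * a * (a' * b) := by rw [rw']; group
        _ = w * (a * z₁) * (b * a') := by rw [r1]; group
        _ = _ := by rw [c1 hA]; group
    have cz : ∀ {y}, y ∈ ({a, a', b, b'} : Set G) → y * (z₀ * w) = z₀ * w * y := fun {y} hy => by
      rw [← mul_assoc, c0 hy, mul_assoc, cw hy, ← mul_assoc]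
    have cz1 : ∀ {y}, y ∈ ({a, a', b, b'} : Set G) → y * (w * z₁) = w * z₁ * y := fun {y} hy => by
      rw [← mul_assoc, cw hy, mul_assoc, c1 hy, ← mul_assoc]
    calc a * b * a' * b' * (a * b * a' * b') = a * b * a' * (b' * (a * b)) * (a' * b') := by group
      _ = a * b * (a' * (z₀ * w)) * (a * b * b') * (a' * b') := by rw [k1]; group
      _ = a * (b * (z₀ * w)) * (a' * (a * b)) * b' * (a' * b') := by rw [cz hA']; group
      _ = (a * (z₀ * w)) * (b * (w * z₁)) * (a * b * a') * b' * (a' * b') := by rw [cz hB, k2]; group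
      _ = (z₀ * w) * (a * (w * z₁)) * b * (a * b * a') * b' * (a' * b') := by rw [cz hA, cz1 hB]; group
      _ = (z₀ * w) * (w * z₁) * (a * b * (a * b)) * (a' * b' * (a' * b')) := by rw [cz1 hA]; group
      _ = z₀ * (w * w) * z₁ * (a * (b * a) * b) * (a' * (b' * a') * b') := by group
      _ = z₀ * z₁ * ((a * a) * (b * b)) * ((a' * a') * (b' * b')) := by rw [wsq, ← hab, ← hab']; group
      _ = _ := by rw [ha, hb, ha', hb']; group
  have hwz : w * z₁ = z₀ := by rw [← hsum, mul_assoc, z1sq, mul_one]
  have hva' : v * a' * v = a := by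
    rw [← hva, show v * (v * a * v) * v = (v * v) * a * (v * v) by group, hv, one_mul, mul_one]
  have hvb' : v * b' * v = b := by
    rw [← hvb, show v * (v * b * v) * v = (v * v) * b * (v * v) by group, hv, one_mul, mul_one]
  have hvm : ∀ x y : G, v * (x * y) * v = v * x * v * (v * y * v) := fun x y => by
    rw [show v * x * v * (v * y * v) = v * x * (v * v) * y * v by group, hv]; group
  have hvz : v * z₀ * v = z₁ := by
    calc v * z₀ * v = a' * b * (a' * b) := by rw [hz₀, hvm, hvm, hva, hvb']
      _ = z₁ * (b * a') * (z₁ * (b * a')) := by rw [r1]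
      _ = z₁ * (b * (a' * z₁)) * (b * a') := by group
      _ = z₁ * (b * z₁) * a' * (b * a') := by rw [c1 hA']; group
      _ = z₁ * z₁ * (b * a' * (b * a')) := by rw [c1 hB]; group
      _ = z₁ := by rw [z1sq, one_mul]
  have fixed : ∀ {x x' : G}, v * x * v = x' → v * x' * v = x → x' * x = w * (x * x') →
      x * (x' * z₁) = x * x' * z₁ → w * x = x * w → w * x' = x' * w → (x * x' * z₀) * v = v * (x * x' * z₀) := by
    intro x x' e1 e2 e3 _ e4 e5
    have : v * (x * x' * z₀) * v = x * x' * z₀ := by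
      rw [hvm, hvm, e1, e2, hvz, e3]
      calc w * (x * x') * z₁ = (w * x) * x' * z₁ := by group
        _ = x * (w * x') * z₁ := by rw [e4]; group
        _ = x * x' * (w * z₁) := by rw [e5]; group
        _ = _ := by rw [hwz]
    calc x * x' * z₀ * v = v * (x * x' * z₀) * v * v := by rw [this]
      _ = v * (x * x' * z₀) := by rw [mul_assoc _ v v, hv, mul_one]
  have hfa := fixed hva hva' rw' (by group) (cw hA).symm (cw hA').symm
  have hfb := fixed hvb hvb' rwb (by group) (cw hB).symm (cw hB').symm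
  have hcomm := hU _ hfa _ hfb rfl rfl
  have g1 : a * a' * z₀ * (b * b' * z₀) = z₁ * (a * b * (a' * b')) := by
    calc a * a' * z₀ * (b * b' * z₀) = a * a' * (z₀ * b) * b' * z₀ := by group
      _ = a * a' * b * (z₀ * b') * z₀ := by rw [← c0 hB]; group
      _ = a * (a' * b) * b' * (z₀ * z₀) := by rw [← c0 hB']; group
      _ = (a * z₁) * b * a' * b' := by rw [r1, z0sq]; group
      _ = _ := by rw [c1 hA]; group
  have g2 : b * b' * z₀ * (a * a' * z₀) = z₀ * (a * b * (a' * b')) := by
    calc b * b' * z₀ * (a * a' * z₀) = b * b' * (z₀ * a) * a' * z₀ := by group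
      _ = b * b' * a * (z₀ * a') * z₀ := by rw [← c0 hA]; group
      _ = b * (b' * a) * a' * (z₀ * z₀) := by rw [← c0 hA']; group
      _ = (b * z₀) * a * b' * a' := by rw [r0, z0sq]; group
      _ = z₀ * (b * a) * (b' * a') := by rw [c0 hB]; group
      _ = _ := by rw [← hab, ← hab']; group
  have heq : z₁ = z₀ := mul_right_cancel (g1.symm.trans (hcomm.trans g2))
  rw [← hsum, heq, z0sq]

variable [Finite G] {S : Sylow 2 G}

namespace Hyp

variable (h : Hyp G S)

include h

/-- the commutator of an involution of one member and its image in the other -/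
theorem outer_facts {D D' : Subgroup G} (p : Part S D D') {v : G} (hv : v * v = 1)
    (hswap : ∀ x ∈ D, v * x * v ∈ D') {a : G} (ha : a ∈ omG D) (ha' : a ∉ D') :
    v * a * v * (v * a * v) = 1 ∧ a * (v * a * v) * (a * (v * a * v)) ∈ D ⊓ D' ∧
      a * (v * a * v) * (a * (v * a * v)) ≠ 1 := by
  have hs := h.self_mem p.left
  have ha2 := sq_of_mem_omG hs.ab ha
  have hy := hswap a (omG_le D ha)
  set y := v * a * v with hydef
  have hy2 : y * y = 1 := by
    rw [hydef, show v * a * v * (v * a * v) = v * a * (v * v) * a * v by group, hv, mul_one,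
      mul_assoc v a a, ha2, mul_one, hv]
  refine ⟨hy2, ?_, fun hc => ha' (h.mem_of_comm p (omG_le D ha) hy (fun hyD => ha' ?_) ?_)⟩
  · have h1 := inv_mem (h.comm_mem_inf p (omG_le D ha) hy)
    rw [show (y * a * y⁻¹ * a⁻¹)⁻¹ = a * y * (a⁻¹ * y⁻¹) by group, inv_eq_of_mul_eq_one_right hy2,
      inv_eq_of_mul_eq_one_right ha2] at h1
    exact h1
  · have := hswap _ hyD
    rwa [hydef, show v * (v * a * v) * v = (v * v) * a * (v * v) by group, hv, one_mul, mul_one] at this
  · calc y * a = (a * y * (a * y)) * (y * a) := by rw [hc, one_mul]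
      _ = a * y * a * (y * y) * a := by group
      _ = a * y * (a * a) := by rw [hy2]; group
      _ = a * y := by rw [ha2, mul_one]

theorem outer_false {D D' : Subgroup G} (p : Part S D D') {v : G} (hv : v * v = 1) (hvS : v ∈ (S : Subgroup G))
    (hswap : ∀ x ∈ D, v * x * v ∈ D') {U : Subgroup G} (hUv : U = (S : Subgroup G) ⊓ centralizer {v}) (hUab : Ab U)
    (hidx : ∀ {x y : G}, x ∈ (S : Subgroup G) → x ∈ normalizer (U : Set G) → x ∉ U → y ∈ (S : Subgroup G) →
      y ∈ normalizer (U : Set G) → y ∉ U → x * y ∈ U)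
    (hcentral : ∀ z ∈ D ⊓ D', z * z = 1 → v * z = z * v → Zc S z)
    {a b : G} (ha : a ∈ omG D) (ha' : a ∉ D') (hb : b ∈ omG D) (hb' : b ∉ D') (hab' : a * b ∉ D') : False := by
  have hs := h.self_mem p.left
  have hs' := h.self_mem p.right
  have hvinv : v⁻¹ = v := inv_eq_of_mul_eq_one_right hv
  have hinf : ∀ {z t : G}, z ∈ D ⊓ D' → t ∈ D ∨ t ∈ D' → t * z = z * t := fun hz ht => h.inf_commute p hz ht
  -- `c = v x v x` normalises `U` and lies outside it
  have hc : ∀ x ∈ omG D, x ∉ D' → (v * x * v * x) ∈ (S : Subgroup G) ∧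
      (v * x * v * x) ∈ normalizer (U : Set G) ∧ (v * x * v * x) ∉ U := by
    intro x hx hx'
    obtain ⟨hy2, hwZ, hw1⟩ := h.outer_facts p hv hswap hx hx'
    have hx2 := sq_of_mem_omG hs.ab hx
    set y := v * x * v with hy
    set w := x * y * (x * y) with hw
    have hcS : y * x ∈ (S : Subgroup G) :=
      mul_mem (mul_mem (mul_mem hvS (hs.le (omG_le D hx))) hvS) (hs.le (omG_le D hx))
    have hci : v * (y * x) * v = (y * x)⁻¹ := by
      rw [mul_inv_rev, inv_eq_of_mul_eq_one_right hy2, inv_eq_of_mul_eq_one_right hx2, hy,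
        show v * (v * x * v * x) * v = (v * v) * (x * (v * x * v)) by group, hv, one_mul]
    have hw2 : w * w = 1 := sq_sq_of_central hx2 hy2 (hinf hwZ (Or.inl (omG_le D hx)))
    have hcc : y * x * (y * x) = w := by
      calc y * x * (y * x) = w⁻¹ := by
            rw [hw, mul_inv_rev, mul_inv_rev, inv_eq_of_mul_eq_one_right hy2, inv_eq_of_mul_eq_one_right hx2]
        _ = w := inv_eq_of_mul_eq_one_right hw2
    have hvw : v * w = w * v := by
      have e : v * w * v = w := by
        calc v * w * v = v * (y * x) * v * (v * (y * x) * v) := by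
              rw [← hcc, show v * (y * x) * v * (v * (y * x) * v) = v * (y * x) * (v * v) * (y * x) * v by group, hv]
              group
          _ = (y * x * (y * x))⁻¹ := by rw [hci, ← mul_inv_rev]
          _ = w := by rw [hcc, inv_eq_of_mul_eq_one_right hw2]
      calc v * w = v * w * (v * v) := by rw [hv, mul_one]
        _ = v * w * v * v := by group
        _ = w * v := by rw [e]
    have hzc := hcentral w hwZ hw2 hvw
    refine ⟨hcS, mem_normalizer_of_conj_le fun u hu => ?_, fun hcU => hw1 ?_⟩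
    · rw [hUv] at hu ⊢
      refine mem_inf.2 ⟨mul_mem (mul_mem hcS (mem_inf.1 hu).1) (inv_mem hcS), mem_cent_iff.2 ?_⟩
      have huv := mem_cent_iff.1 hu.2
      have huw := mem_centralizer_iff.1 hzc.2.1 u hu.1
      set c := y * x with hcdef
      have e3 : v * c = c⁻¹ * v := by
        rw [← hci, mul_assoc, mul_assoc, hv, mul_one]
      have e4 : c⁻¹ * v * c = v * w := by
        rw [← e3, mul_assoc, hcc]
      calc c * u * c⁻¹ * v = c * (u * (c⁻¹ * v * c)) * c⁻¹ := by group
        _ = c * (u * v * w) * c⁻¹ := by rw [e4, mul_assoc u v w]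
        _ = c * (v * (u * w)) * c⁻¹ := by rw [huv, mul_assoc v u w]
        _ = c * (v * w) * u * c⁻¹ := by rw [huw]; group
        _ = v * (c * u * c⁻¹) := by rw [← e4]; group
    · have h1 : (y * x) * v = v * (y * x) := by
        have := hUv ▸ hcU
        exact mem_cent_iff.1 this.2
      have : (y * x)⁻¹ = y * x := by rw [← hci, ← h1, mul_assoc, hv, mul_one]
      rw [← hcc]
      calc y * x * (y * x) = y * x * (y * x)⁻¹ := by rw [this]
        _ = 1 := mul_inv_cancel _
  have hsame : ∀ x ∈ omG D, x ∉ D' → ∀ y ∈ omG D, y ∉ D' →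
      x * (v * x * v) * (x * (v * x * v)) = y * (v * y * v) * (y * (v * y * v)) := by
    intro x hx hx' y hy hy'
    obtain ⟨hcS, hcN, hcU⟩ := hc x hx hx'
    obtain ⟨hdS, hdN, hdU⟩ := hc y hy hy'
    obtain ⟨hx'2, hxZ, -⟩ := h.outer_facts p hv hswap hx hx'
    obtain ⟨hy'2, hyZ, -⟩ := h.outer_facts p hv hswap hy hy'
    have hx2 := sq_of_mem_omG hs.ab hx
    have hy2 := sq_of_mem_omG hs.ab hy
    set c := v * x * v * x with hcdef
    set d := v * y * v * y with hddef
    have h1 := hidx hcS hcN hcU hdS hdN hdU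
    have hv1 : (c * d) * v = v * (c * d) := by
      have h2 := h1
      rw [hUv] at h2
      exact mem_cent_iff.1 h2.2
    have hci : ∀ {u : G}, u * u = 1 → v * u * v * (v * u * v) = 1 → v * (v * u * v * u) * v = (v * u * v * u)⁻¹ := by
      intro u hu hu'
      rw [mul_inv_rev (v * u * v) u, inv_eq_of_mul_eq_one_right hu, inv_eq_of_mul_eq_one_right hu',
        show v * (v * u * v * u) * v = (v * v) * (u * (v * u * v)) by group, hv, one_mul]
    have e : c * d = c⁻¹ * d⁻¹ := by
      rw [← hci hx2 hx'2, ← hci hy2 hy'2]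
      calc c * d = v * (c * d) * v := by rw [← hv1, mul_assoc (c * d) v v, hv, mul_one]
        _ = v * c * (v * v) * d * v := by rw [hv]; group
        _ = _ := by rw [hcdef, hddef]; group
    have e2 : c * c = (d * d)⁻¹ := by
      calc c * c = c * (c * d) * d⁻¹ := by group
        _ = c * (c⁻¹ * d⁻¹) * d⁻¹ := by rw [e]
        _ = _ := by group
    have ex : x * (v * x * v) * (x * (v * x * v)) = (c * c)⁻¹ := by
      rw [mul_inv_rev, hcdef, mul_inv_rev (v * x * v) x, inv_eq_of_mul_eq_one_right hx2,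
        inv_eq_of_mul_eq_one_right hx'2]
    have ey : y * (v * y * v) * (y * (v * y * v)) = (d * d)⁻¹ := by
      rw [mul_inv_rev, hddef, mul_inv_rev (v * y * v) y, inv_eq_of_mul_eq_one_right hy2,
        inv_eq_of_mul_eq_one_right hy'2]
    have hd2 := sq_sq_of_central hy2 hy'2 (hinf hyZ (Or.inl (omG_le D hy)))
    rw [ey] at hd2
    rw [ex, ey, e2, inv_inv]
    exact (inv_eq_of_mul_eq_one_right (by rw [← inv_inj, mul_inv_rev, inv_one]; exact hd2)).symm
  obtain ⟨ha'2, haZ, haw⟩ := h.outer_facts p hv hswap ha ha'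
  obtain ⟨hb'2, hbZ, -⟩ := h.outer_facts p hv hswap hb hb'
  have ha2 := sq_of_mem_omG hs.ab ha
  have hb2 := sq_of_mem_omG hs.ab hb
  have hamem := hswap a (omG_le D ha)
  have hbmem := hswap b (omG_le D hb)
  refine haw (four_involutions ha2 ha'2 hb2 hb'2 hv rfl rfl (hs.ab _ (omG_le D ha) _ (omG_le D hb))
    (hs'.ab _ hamem _ hbmem) rfl (hsame b hb hb' a ha ha') ?_ ?_ ?_)
  · have := hsame (a * b) (mul_mem ha hb) hab' a ha ha'
    have e : v * (a * b) * v = v * a * v * (v * b * v) := by
      rw [show v * a * v * (v * b * v) = v * a * (v * v) * b * v by group, hv]; group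
    rw [e] at this
    convert this using 1
    group
  · have hz : ∀ {x x' : G}, x ∈ omG D → x' ∈ D' → x' * x' = 1 → x * x' * (x * x') ∈ D ⊓ D' := by
      intro x x' hx hx' hx'2
      have h1 := inv_mem (h.comm_mem_inf p (omG_le D hx) hx')
      rw [show (x' * x * x'⁻¹ * x⁻¹)⁻¹ = x * x' * (x⁻¹ * x'⁻¹) by group, inv_eq_of_mul_eq_one_right hx'2,
        inv_eq_of_mul_eq_one_right (sq_of_mem_omG hs.ab hx)] at h1
      exact h1
    rintro x hx y hy
    refine hinf ?_ ?_
    · rcases hx with rfl | rfl | rfl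
      · exact hz ha hbmem hb'2
      · exact hz hb hamem ha'2
      · exact haZ
    · rcases hy with rfl | rfl | rfl | rfl
      · exact Or.inl (omG_le D ha)
      · exact Or.inr hamem
      · exact Or.inl (omG_le D hb)
      · exact Or.inr hbmem
  · intro x hxv y hyv hx hy
    have hb'S : ∀ {u : G}, u ∈ D' → u ∈ (S : Subgroup G) := fun hu => hs'.le hu
    have haS := hs.le (omG_le D ha)
    have hbS := hs.le (omG_le D hb)
    have hxS : x ∈ (S : Subgroup G) := by
      rw [Set.mem_singleton_iff] at hx; rw [hx]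
      exact mul_mem (mul_mem haS (hb'S hamem)) (mul_mem (mul_mem haS (hb'S hbmem)) (mul_mem haS (hb'S hbmem)))
    have hyS : y ∈ (S : Subgroup G) := by
      rw [Set.mem_singleton_iff] at hy; rw [hy]
      exact mul_mem (mul_mem hbS (hb'S hbmem)) (mul_mem (mul_mem haS (hb'S hbmem)) (mul_mem haS (hb'S hbmem)))
    exact hUab x (hUv ▸ ⟨hxS, mem_cent_iff.2 hxv⟩) y (hUv ▸ ⟨hyS, mem_cent_iff.2 hyv⟩)

end Hyp

end Cfsg.Lib.AbelianMeet
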