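import Cfsg.Agent.AbelianMeet.Loc
import Cfsg.Agent.PGroups.Basic

/-!
A single member makes its involutions strongly closed, so there are at least two.
-/

set_option autoImplicit false
set_option linter.unusedSectionVars false
set_option linter.style.haveILetI false

namespace Cfsg.Lib.AbelianMeet

open Subgroup
open Cfsg.Lib.Coprime (conjMap mem_conjMap conjMap_eq_self conjMap_eq_self_iff)

variable {G : Type*} [Group G] [Finite G]

/-- between two normal subgroups of a 2-group some element is central modulo the smaller -/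
theorem exists_central_step {S C D : Subgroup G} (hS : IsPGroup 2 S) (hCS : C ≤ S) (hDS : D ≤ S)
    (hC : S ≤ normalizer (C : Set G)) (hD : S ≤ normalizer (D : Set G)) (hne : ¬ D ≤ C) :
    ∃ d ∈ D, d ∉ C ∧ ∀ s ∈ S, s * d * s⁻¹ * d⁻¹ ∈ C := by
  haveI : Fact (Nat.Prime 2) := ⟨Nat.prime_two⟩
  haveI := normal_subgroupOf_of_le_normalizer hC
  haveI := normal_subgroupOf_of_le_normalizer hD
  set π := QuotientGroup.mk' (C.subgroupOf S)
  haveI : ((D.subgroupOf S).map π).Normal := Subgroup.Normal.map inferInstance π (QuotientGroup.mk'_surjective _)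
  obtain ⟨z, hz, hzc, hzo⟩ := Cfsg.Lib.PGroups.exists_mem_center_of_normal_ne_bot
    (hS.to_quotient (C.subgroupOf S)) (N := (D.subgroupOf S).map π) (fun e => hne fun x hx => by
      have : π ⟨x, hDS hx⟩ ∈ (D.subgroupOf S).map π := ⟨_, hx, rfl⟩
      rw [e, mem_bot, QuotientGroup.mk'_apply, QuotientGroup.eq_one_iff] at this
      exact this)
  obtain ⟨⟨d, hdS⟩, hdD, rfl⟩ := hz
  refine ⟨d, hdD, fun hdC => ?_, fun s hs => ?_⟩
  · rw [show π ⟨d, hdS⟩ = 1 from (QuotientGroup.eq_one_iff _).2 hdC, orderOf_one] at hzo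
    omega
  · have h1 := mem_center_iff.1 hzc (π ⟨s, hs⟩)
    have h2 : π (⟨s, hs⟩ * ⟨d, hdS⟩ * ⟨s, hs⟩⁻¹ * ⟨d, hdS⟩⁻¹) = 1 := by
      rw [map_mul, map_mul, map_mul, map_inv, map_inv, h1]; group
    have h3 := (QuotientGroup.eq_one_iff _).1 h2
    exact h3

variable {S : Sylow 2 G}

namespace Hyp

variable (h : Hyp G S)

include h

/-- some conjugate of an involution of a member lands in a member, unless all land in the centre -/
theorem weakly_closed {D : Subgroup G} (hD : Mem S D) (huniq : ∀ D', Mem S D' → D' = D) {g : G}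
    (hg : ∀ x ∈ D, g * x * g⁻¹ ∈ (S : Subgroup G)) : conjMap g D = D := by
  classical
  have hself := h.self_mem hD
  refine eq_of_le_of_card_ge ?_ (Cfsg.Lib.Coprime.card_conjMap g D).ge
  by_cases hall : ∀ x ∈ D, Sig S x → g * x * g⁻¹ ∈ centralizer ((S : Subgroup G) : Set G)
  · exfalso
    obtain ⟨v, hv, hvc, hDv, hvD⟩ := h.v_spec hD
    let f : {x // x ∈ D ∧ Sig S x} → {x // x ∈ D ∧ Sig S x ∧ x ∈ centralizer ((S : Subgroup G) : Set G)} :=
      fun x => ⟨g * x.1 * g⁻¹,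
        h.zc_mem hself ⟨hg _ x.2.1, hall _ x.2.1 x.2.2, (x.2.2.conj (hg _ x.2.1)).sq⟩,
        x.2.2.conj (hg _ x.2.1), hall _ x.2.1 x.2.2⟩
    have hf : Function.Injective f := fun a b e => Subtype.ext (by
      have := congrArg Subtype.val e
      simpa [f] using this)
    let i : {x // x ∈ D ∧ Sig S x ∧ x ∈ centralizer ((S : Subgroup G) : Set G)} → {x // x ∈ D ∧ Sig S x} :=
      fun x => ⟨x.1, x.2.1, x.2.2.1⟩
    have hi : Function.Injective i := fun a b e => by
      have := congrArg Subtype.val e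
      exact Subtype.ext this
    obtain ⟨y, hy⟩ := (Finite.injective_iff_surjective.1 (hi.comp hf)) ⟨v, omG_le D hvD, hv⟩
    have e : ((f y).1 : G) = v := congrArg Subtype.val hy
    rw [← e] at hvc
    exact hvc (f y).2.2.2
  · push Not at hall
    obtain ⟨x, hxD, hx, hxc⟩ := hall
    have hm := h.mem_of_sig (hx.conj (hg x hxD)) hxc
    rintro _ ⟨y, hy, rfl⟩
    have : g * y * g⁻¹ ∈ (S : Subgroup G) ⊓ centralizer {g * x * g⁻¹} := ⟨hg y hy, mem_cent_iff.2 (by
      calc g * y * g⁻¹ * (g * x * g⁻¹) = g * (y * x) * g⁻¹ := by group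
        _ = g * (x * y) * g⁻¹ := by rw [hself.ab y hy x hxD]
        _ = _ := by group)⟩
    rwa [huniq _ hm] at this

theorem omG_stronglyClosed {D : Subgroup G} (hD : Mem S D) (huniq : ∀ D', Mem S D' → D' = D) :
    Cfsg.IsStronglyClosed (omG D) (S : Subgroup G) := by
  haveI : Fact (Nat.Prime 2) := ⟨Nat.prime_two⟩
  have hself := h.self_mem hD
  refine ⟨(omG_le D).trans hself.le, fun x hx g hgS => ?_⟩
  by_contra hy
  set y := g * x * g⁻¹ with hydef
  have hy2 : y * y = 1 := by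
    rw [hydef, show g * x * g⁻¹ * (g * x * g⁻¹) = g * (x * x) * g⁻¹ by group, sq_of_mem_omG hself.ab hx]; group
  have hyD : y ∉ D := fun hc => hy (mem_omG_of hc hy2)
  set P := (S : Subgroup G) ⊓ centralizer {y} with hP
  set C := centralizer ({y} : Set G)
  have hgC : ∀ d ∈ D, g * d * g⁻¹ ∈ C := fun d hd => mem_cent_iff.2 (by
    rw [hydef]
    calc g * d * g⁻¹ * (g * x * g⁻¹) = g * (d * x) * g⁻¹ := by group
      _ = g * (x * d) * g⁻¹ := by rw [hself.ab d hd x (omG_le D hx)]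
      _ = _ := by group)
  -- one Sylow subgroup of `C(y)` through `P` and a conjugate of `D`
  obtain ⟨R, hR⟩ := ((S.isPGroup'.to_le (inf_le_left : P ≤ S)).comap_of_injective C.subtype
    C.subtype_injective).exists_le_sylow
  obtain ⟨R', hR'⟩ := (((S.isPGroup'.to_le hself.le).map (MulAut.conj g).toMonoidHom).comap_of_injective C.subtype
    C.subtype_injective).exists_le_sylow
  obtain ⟨c, hc⟩ := MulAction.exists_smul_eq C R' R
  obtain ⟨S₂, hS₂⟩ := (R.isPGroup'.map C.subtype).exists_le_sylow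
  have hk : ∀ d ∈ D, (c : G) * g * d * ((c : G) * g)⁻¹ ∈ (S₂ : Subgroup G) := fun d hd => by
    have h1 : (⟨_, hgC d hd⟩ : C) ∈ (R' : Subgroup C) := hR' (mem_conj_of_mem hd)
    have h2 : c * ⟨_, hgC d hd⟩ * c⁻¹ ∈ (R : Subgroup C) := by rw [← hc]; exact mem_conj_of_mem h1
    have h3 := hS₂ ⟨_, h2, rfl⟩
    simpa [mul_assoc] using h3
  set k := (c : G) * g with hkdef
  have hky : k * x * k⁻¹ = y := by
    rw [hkdef]
    calc (c : G) * g * x * ((c : G) * g)⁻¹ = (c : G) * y * (c : G)⁻¹ := by rw [hydef]; group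
      _ = y := by rw [mem_cent_iff.1 c.2, mul_inv_cancel_right]
  obtain ⟨l, rfl⟩ := MulAction.exists_smul_eq G S S₂
  have hweak : conjMap (l⁻¹ * k) D = D := h.weakly_closed hD huniq fun d hd => by
    have h1 := hk d hd
    rw [smul_coe, mem_conjMap] at h1
    simpa [mul_assoc] using h1
  have hyl : l⁻¹ * y * l ∈ D := by
    rw [← hky, ← hweak]
    have := mem_conj_of_mem (g := l⁻¹ * k) (omG_le D hx)
    simpa [mul_assoc] using this
  have hne : l • S ≠ S := fun e => hyD (by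
    have hl : conjMap l D = D := h.weakly_closed hD huniq fun d hd =>
      conj_mem_of_normalizer (smul_eq_self.1 e) (hself.le hd)
    rw [← hl, mem_conjMap]; exact hyl)
  have hPS₂ : P ≤ ((l • S : Sylow 2 G) : Subgroup G) := fun z hz => hS₂ ⟨⟨z, hz.2⟩, hR hz, rfl⟩
  have hPab : Ab P := (h.meet S (l • S) (Ne.symm hne)).mono (le_inf inf_le_left hPS₂)
  have hyP : y ∈ P := ⟨hgS, mem_cent_iff.2 rfl⟩
  have hPself : Self S P := ⟨inf_le_left, hPab, fun z hz =>
    ⟨hz.1, mem_cent_iff.2 (mem_centralizer_iff.1 hz.2 y hyP).symm⟩⟩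
  have hPnm : ¬ Mem S P := fun hm => hyD (huniq P hm ▸ hyP)
  -- `N(P)` contains an element moving `S` to `l • S`
  obtain ⟨e₂, he₂, he₂P, he₂N⟩ : ∃ e ∈ ((l • S : Sylow 2 G) : Subgroup G), e ∉ P ∧ e ∈ normalizer (P : Set G) := by
    obtain ⟨z, hz, hzP⟩ : ∃ z ∈ ((l • S : Sylow 2 G) : Subgroup G), z ∉ P := by
      by_contra hno
      push Not at hno
      refine h.not_ab fun a ha b hb => ?_
      have hcomm := hPab _ (hno _ (conj_mem_smul (g := l) ha)) _ (hno _ (conj_mem_smul (g := l) hb))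
      calc a * b = l⁻¹ * (l * a * l⁻¹ * (l * b * l⁻¹)) * l := by group
        _ = l⁻¹ * (l * b * l⁻¹ * (l * a * l⁻¹)) * l := by rw [hcomm]
        _ = _ := by group
    exact exists_norm_not_mem (l • S : Sylow 2 G).isPGroup' le_rfl hPS₂ hz hzP
  set N := normalizer (P : Set G)
  obtain ⟨P₀, hP₀⟩ := (S.isPGroup'.comap_of_injective N.subtype N.subtype_injective).exists_le_sylow
  obtain ⟨R₀, hR₀⟩ := (((l • S : Sylow 2 G).isPGroup'.to_le
    (sup_le hPS₂ (zpowers_le.2 he₂))).comap_of_injective N.subtype N.subtype_injective).exists_le_sylow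
  obtain ⟨m, hm⟩ := MulAction.exists_smul_eq N P₀ R₀
  have hP₀S : (P₀ : Subgroup N).map N.subtype ≤ (S : Subgroup G) :=
    hPself.pgroup_le h (P₀.isPGroup'.map _) fun z hz => ⟨⟨z, hz.2⟩, hP₀ hz.1, rfl⟩
  have hml : l • S = (m : G) • S := by
    refine h.eq_of_le (U := P ⊔ zpowers e₂) (fun hab => he₂P ?_) (sup_le hPS₂ (zpowers_le.2 he₂)) fun z hz => ?_
    · have he₂C : e₂ ∈ centralizer (P : Set G) := mem_centralizer_iff.2 fun u hu =>
        hab u (mem_sup_left hu) e₂ (mem_sup_right (mem_zpowers e₂))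
      obtain ⟨PC, hPC⟩ := ((S.isPGroup'.comap_of_injective (centralizer (P : Set G)).subtype
        (Subgroup.subtype_injective _))).exists_le_sylow
      -- the centraliser of `P` has `P` as a Sylow subgroup
      have hmem : (m : G)⁻¹ * e₂ * (m : G) ∈ (S : Subgroup G) := by
        have h1 : (⟨e₂, he₂N⟩ : N) ∈ (R₀ : Subgroup N) := hR₀ (mem_sup_right (mem_zpowers e₂))
        rw [← hm, smul_coe, mem_conjMap] at h1
        exact hP₀S ⟨_, h1, rfl⟩
      have hmC : (m : G)⁻¹ * e₂ * (m : G) ∈ P := hPself.cent ⟨hmem, mem_centralizer_iff.2 fun u hu => by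
        have h2 := mem_centralizer_iff.1 he₂C _ (conj_mem_of_normalizer m.2 hu)
        calc u * ((m : G)⁻¹ * e₂ * m) = (m : G)⁻¹ * ((m : G) * u * (m : G)⁻¹ * e₂) * m := by group
          _ = (m : G)⁻¹ * (e₂ * ((m : G) * u * (m : G)⁻¹)) * m := by rw [h2]
          _ = _ := by group⟩
      have := conj_mem_of_normalizer m.2 hmC
      simpa [mul_assoc] using this
    · have hzN : z ∈ N := sup_le (le_normalizer) (zpowers_le.2 he₂N) hz
      have h1 : (⟨z, hzN⟩ : N) ∈ (R₀ : Subgroup N) := hR₀ hz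
      rw [← hm, smul_coe, mem_conjMap] at h1
      rw [smul_coe, mem_conjMap]
      exact hP₀S ⟨_, h1, rfl⟩
  -- an element of `D` moving the involutions of `P` by central ones
  have hSD : (S : Subgroup G) ≤ normalizer (D : Set G) := fun s hs =>
    conjMap_eq_self_iff.1 (huniq _ (h.mem_conj hD (le_normalizer hs)))
  set C₀ := D ⊓ centralizer (omG P : Set G)
  have hC₀S : (S : Subgroup G) ≤ normalizer (C₀ : Set G) := fun s hs => by
    refine mem_normalizer_of_conj_le fun d hd => ⟨conj_mem_of_normalizer (hSD hs) hd.1, ?_⟩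
    refine mem_centralizer_iff.2 fun u hu => ?_
    have hu2 := sq_of_mem_omG hPab hu
    have hd' : u * s⁻¹ * u⁻¹ * s⁻¹⁻¹ ∈ D := h.comm_mem hD (hPself.le (omG_le P hu))
      (hSD (hPself.le (omG_le P hu))) (by rw [hu2]; exact one_mem D) (inv_mem hs) (hSD (inv_mem hs))
    set w := u * s⁻¹ * u⁻¹ * s⁻¹⁻¹ with hw
    have h1 := mem_centralizer_iff.1 hd.2 u hu
    have h2 := hself.ab d hd.1 w hd'
    have e1 : s⁻¹ * u * s = w⁻¹ * u := by rw [hw]; group
    calc u * (s * d * s⁻¹) = s * ((s⁻¹ * u * s) * d) * s⁻¹ := by group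
      _ = s * (w⁻¹ * (u * d)) * s⁻¹ := by rw [e1]; group
      _ = s * (w⁻¹ * (d * u)) * s⁻¹ := by rw [h1]
      _ = s * (w⁻¹ * (d * w) * w⁻¹ * u) * s⁻¹ := by group
      _ = s * (d * (s⁻¹ * u * s)) * s⁻¹ := by rw [h2, e1]; group
      _ = _ := by group
  have hDC₀ : ¬ D ≤ C₀ := fun hle => hyD (hself.cent ⟨hgS, mem_centralizer_iff.2 fun d hd =>
    (mem_centralizer_iff.1 (hle hd).2 y (mem_omG_of hyP hy2)).symm⟩)
  obtain ⟨e, heD, heC, hestep⟩ := exists_central_step S.isPGroup' (inf_le_left.trans hself.le) hself.le hC₀S hSD hDC₀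
  have heS := hself.le heD
  have hshift : ∀ u ∈ omG P, Zc S (e * u * e⁻¹ * u⁻¹) := by
    intro u hu
    have huS := hPself.le (omG_le P hu)
    have hu2 := sq_of_mem_omG hPab hu
    have hui : u⁻¹ = u := inv_eq_of_mul_eq_one_right hu2
    set d := e * u * e⁻¹ * u⁻¹ with hd
    have hdD : d ∈ D := by
      have h1 : e * (u * e⁻¹ * u⁻¹) ∈ D := mul_mem heD (conj_mem_of_normalizer (hSD huS) (inv_mem heD))
      rwa [hd, show e * u * e⁻¹ * u⁻¹ = e * (u * e⁻¹ * u⁻¹) by group]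
    have hfix : ∀ s ∈ (S : Subgroup G), s * d * s⁻¹ = d := by
      intro s hs
      set c' := s * e * s⁻¹ * e⁻¹ with hc'
      have hc'C := hestep s hs
      set w := u * s * u⁻¹ * s⁻¹
      have hwD : w ∈ D := h.comm_mem hD huS (hSD huS) (by rw [hu2]; exact one_mem D) hs (hSD hs)
      have e1 : s * e * s⁻¹ = c' * e := by rw [hc']; group
      have e2 : s * u * s⁻¹ = u⁻¹⁻¹ * (u⁻¹ * w⁻¹ * u) := by
        simp only [w]; group
      set w' := u⁻¹ * w⁻¹ * u
      have hw'D : w' ∈ D := conj_mem_of_normalizer' (hSD huS) (inv_mem hwD)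
      have hcu := mem_centralizer_iff.1 hc'C.2 u hu
      have hce : (c' * e) * w' = w' * (c' * e) := hself.ab _ (mul_mem hc'C.1 heD) _ hw'D
      calc s * d * s⁻¹ = s * e * s⁻¹ * (s * u * s⁻¹) * (s * e * s⁻¹)⁻¹ * (s * u * s⁻¹)⁻¹ := by rw [hd]; group
        _ = c' * e * (u * w') * (c' * e)⁻¹ * (u * w')⁻¹ := by rw [e1, e2, inv_inv]
        _ = c' * e * u * ((c' * e)⁻¹ * ((c' * e) * w')) * (c' * e)⁻¹ * w'⁻¹ * u⁻¹ := by group
        _ = c' * e * u * ((c' * e)⁻¹ * (w' * (c' * e))) * (c' * e)⁻¹ * w'⁻¹ * u⁻¹ := by rw [hce]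
        _ = c' * (e * u * e⁻¹ * u⁻¹) * (u * c'⁻¹) * u⁻¹ := by group
        _ = c' * (e * u * e⁻¹ * u⁻¹) * (c'⁻¹ * u) * u⁻¹ := by
          have : u * c'⁻¹ = c'⁻¹ * u := by
            calc u * c'⁻¹ = c'⁻¹ * (c' * u) * c'⁻¹ := by group
              _ = c'⁻¹ * (u * c') * c'⁻¹ := by rw [hcu]
              _ = _ := by group
          rw [this]
        _ = c' * d * c'⁻¹ := by rw [hd]; group
        _ = d := by rw [hself.ab _ hc'C.1 _ hdD, mul_inv_cancel_right]
    refine ⟨hself.le hdD, mem_centralizer_iff.2 fun s hs => ?_, ?_⟩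
    · calc s * d = s * d * s⁻¹ * s := by group
        _ = d * s := by rw [hfix s hs]
    · have h1 := hfix u huS
      calc d * d = d * (u * d * u⁻¹) := by rw [h1]
        _ = e * (u * u) * e⁻¹ * (u * u)⁻¹ := by rw [hd]; group
        _ = 1 := by rw [hu2]; group
  have heP : e ∉ P := fun hc => heC ⟨heD, mem_centralizer_iff.2 fun u hu => hPab u (omG_le P hu) e hc⟩
  have heN : e ∈ normalizer (P : Set G) := by
    refine mem_normalizer_of_conj_le fun z hz =>
      mem_inf.2 ⟨mul_mem (mul_mem heS (mem_inf.1 hz).1) (inv_mem heS), mem_cent_iff.2 ?_⟩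
    obtain ⟨-, hdc, -⟩ := hshift y (mem_omG_of hyP hy2)
    set d := e * y * e⁻¹ * y⁻¹ with hd
    have hdz := mem_centralizer_iff.1 hdc
    have e1 : y = d⁻¹ * (e * y * e⁻¹) := by rw [hd]; group
    have e2 : d⁻¹ * (e * z * e⁻¹) = e * z * e⁻¹ * d⁻¹ := by
      have := hdz _ (mul_mem (mul_mem heS hz.1) (inv_mem heS))
      calc d⁻¹ * (e * z * e⁻¹) = d⁻¹ * ((e * z * e⁻¹) * d) * d⁻¹ := by group
        _ = d⁻¹ * (d * (e * z * e⁻¹)) * d⁻¹ := by rw [this]
        _ = _ := by group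
    calc e * z * e⁻¹ * y = e * z * e⁻¹ * d⁻¹ * (e * y * e⁻¹) := by rw [mul_assoc (e * z * e⁻¹) d⁻¹, ← e1]
      _ = d⁻¹ * (e * (z * y) * e⁻¹) := by rw [← e2]; group
      _ = d⁻¹ * (e * (y * z) * e⁻¹) := by rw [mem_cent_iff.1 hz.2]
      _ = d⁻¹ * (e * y * e⁻¹) * (e * z * e⁻¹) := by group
      _ = _ := by rw [← e1]
  obtain ⟨cc, hcc, hn⟩ := h.inessential hPself (fun m hm z hz => h.zc_fix hPself hPnm hm hz) heS heN heP hshift m.2
  -- so the conjugate of `D` through `y` is fixed by an element centralising `y`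
  have hS' : l • S = ((m : G) * cc * (m : G)⁻¹)⁻¹ • S := by
    have h1 : ((m : G) * cc) • S = S := smul_eq_self.2 hn
    calc l • S = ((m : G) * cc * (m : G)⁻¹)⁻¹ • (((m : G) * cc) • S) := by
          rw [hml, ← mul_smul]; congr 1; group
      _ = _ := by rw [h1]
  set q := ((m : G) * cc * (m : G)⁻¹)⁻¹ with hq
  have hqy : q * y * q⁻¹ = y := by
    have h1 := mem_centralizer_iff.1 hcc _ (conj_mem_of_normalizer' m.2 hyP)
    have h3 : (m : G) * cc * (m : G)⁻¹ * y = y * ((m : G) * cc * (m : G)⁻¹) := by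
      calc (m : G) * cc * (m : G)⁻¹ * y = m * (cc * ((m : G)⁻¹ * y * m)) * (m : G)⁻¹ := by group
        _ = m * ((m : G)⁻¹ * y * m * cc) * (m : G)⁻¹ := by rw [h1]
        _ = _ := by group
    rw [hq, inv_inv]
    calc ((m : G) * cc * (m : G)⁻¹)⁻¹ * y * ((m : G) * cc * (m : G)⁻¹) =
        ((m : G) * cc * (m : G)⁻¹)⁻¹ * ((m : G) * cc * (m : G)⁻¹ * y) := by rw [h3]; group
      _ = y := by group
  have hlq : conjMap (q⁻¹ * l) D = D := h.weakly_closed hD huniq fun d hd => by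
    refine conj_mem_of_normalizer ?_ (hself.le hd)
    refine smul_eq_self.1 ?_
    rw [mul_smul, hS', inv_smul_smul]
  refine hyD ?_
  have h1 := mem_conj_of_mem (g := q⁻¹ * l) hyl
  rw [hlq] at h1
  convert h1 using 1
  calc y = q⁻¹ * (q * y * q⁻¹) * q := by group
    _ = q⁻¹ * y * q := by rw [hqy]
    _ = _ := by group

theorem exists_two [IsSimpleGroup G] (hG : ¬ IsMulCommutative G) {D : Subgroup G} (hD : Mem S D) :
    ∃ D', Mem S D' ∧ D' ≠ D := by
  by_contra hno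
  push Not at hno
  obtain ⟨v, hv, hvc, -, hvD⟩ := h.v_spec hD
  refine h.not_stronglyClosed hG (fun e => hvc ?_) ((h.self_mem hD).ab.mono (omG_le D))
    (h.omG_stronglyClosed hD hno)
  rw [e, mem_bot] at hvD
  rw [hvD]; exact one_mem _

end Hyp

end Cfsg.Lib.AbelianMeet
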