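import Cfsg.Agent.AbelianMeet.Pairs
import Cfsg.Agent.AbelianMeet.Outer
import Cfsg.Agent.AbelianMeet.Single

/-!
The members are not normal in `S` and their partners have index two over the intersection.
-/

set_option autoImplicit false
set_option linter.unusedSectionVars false
set_option linter.style.haveILetI false

namespace Cfsg.Lib.AbelianMeet

open Subgroup
open Cfsg.Lib.Coprime (conjMap mem_conjMap conjMap_eq_self conjMap_eq_self_iff)

variable {G : Type*} [Group G] [Finite G] {S : Sylow 2 G}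

namespace Hyp

variable (h : Hyp G S)

include h

theorem exists_partner {D : Subgroup G} (hD : Mem S D) (hn : ¬ (S : Subgroup G) ≤ normalizer (D : Set G)) :
    ∃ s ∈ (S : Subgroup G), s ∉ normalizer (D : Set G) ∧
      s ∈ normalizer (((S : Subgroup G) ⊓ normalizer (D : Set G) : Subgroup G) : Set G) ∧
      Part S D (conjMap s D) := by
  set T := (S : Subgroup G) ⊓ normalizer (D : Set G) with hT
  obtain ⟨k, hk, hkT⟩ := SetLike.not_le_iff_exists.1 hn
  obtain ⟨s, hs, hsT, hsN⟩ := exists_norm_not_mem S.isPGroup' le_rfl (inf_le_left : T ≤ S) hk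
    (fun hc => hkT hc.2)
  have hsD : s ∉ normalizer (D : Set G) := fun hc => hsT ⟨hs, hc⟩
  refine ⟨s, hs, hsD, hsN, hD, h.mem_conj hD (le_normalizer hs), fun e => hsD (conjMap_eq_self_iff.1 e),
    fun t ht => ?_⟩
  rw [Cfsg.Lib.Coprime.normalizer_conjMap, mem_conjMap]
  constructor
  · intro h1
    exact (conj_mem_of_normalizer' hsN (mem_inf.2 ⟨ht, h1⟩)).2
  · intro h1
    have h2 : s⁻¹ * t * s ∈ T := mem_inf.2 ⟨mul_mem (mul_mem (inv_mem hs) ht) hs, h1⟩
    have h3 := conj_mem_of_normalizer hsN h2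
    rw [show s * (s⁻¹ * t * s) * s⁻¹ = t by group] at h3
    exact h3.2

theorem part_of_normal {D D' : Subgroup G} (hD : Mem S D) (hD' : Mem S D') (hne : D' ≠ D)
    (hn : (S : Subgroup G) ≤ normalizer (D : Set G)) (hn' : (S : Subgroup G) ≤ normalizer (D' : Set G)) :
    Part S D D' :=
  ⟨hD, hD', hne, fun _ ht => ⟨fun _ => hn' ht, fun _ => hn ht⟩⟩

theorem eq_of_comm {D E : Subgroup G} (hD : Self S D) (hE : Self S E) (hDE : D ≤ E) : D = E :=
  le_antisymm hDE fun x hx => hD.cent ⟨hE.le hx, mem_centralizer_iff.2 fun y hy => hE.ab y (hDE hy) x hx⟩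

/-- commutators of two members with the same normaliser -/
theorem comm_central {D D' : Subgroup G} (p : Part S D D') {a b : G} (ha : a ∈ (S : Subgroup G))
    (haN : a ∈ normalizer (D : Set G)) (hb : b ∈ (S : Subgroup G)) (hbN : b ∈ normalizer (D : Set G)) :
    a * b * a⁻¹ * b⁻¹ ∈ D ⊓ D' := by
  have hs := h.self_mem p.left
  have hs' := h.self_mem p.right
  obtain ⟨a', ha', hda⟩ := h.product p ha haN
  obtain ⟨b', hb', hdb⟩ := h.product p hb hbN
  set d := a * a'⁻¹ with hd
  set e := b * b'⁻¹ with he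
  have hab : a = d * a' := by rw [hd]; group
  have hbb : b = e * b' := by rw [he]; group
  set x := a' * e * a'⁻¹ * e⁻¹ with hx
  set y := b' * d * b'⁻¹ * d⁻¹ with hy
  have hxZ := h.comm_mem_inf p hdb ha'
  have hyZ := h.comm_mem_inf p hda hb'
  have e1 : d * e = e * d := hs.ab _ hda _ hdb
  have e2 : a' * b' = b' * a' := hs'.ab _ ha' _ hb'
  have c1 : ∀ z ∈ D ⊓ D', ∀ q ∈ D, q * z = z * q := fun z hz q hq => h.inf_commute p hz (Or.inl hq)
  have hab' : a * b = x * (d * e * (a' * b')) := by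
    calc a * b = d * x * (e * a') * b' := by rw [hab, hbb, hx]; group
      _ = x * d * (e * a') * b' := by rw [c1 x hxZ d hda]
      _ = _ := by group
  have hba' : b * a = y * (d * e * (a' * b')) := by
    calc b * a = e * y * (d * b') * a' := by rw [hab, hbb, hy]; group
      _ = y * e * (d * b') * a' := by rw [c1 y hyZ e hdb]
      _ = y * (e * d * (b' * a')) := by group
      _ = _ := by rw [← e1, ← e2]
  have : a * b * a⁻¹ * b⁻¹ = x * y⁻¹ := by
    rw [show a * b * a⁻¹ * b⁻¹ = a * b * (b * a)⁻¹ by group, hab', hba']; group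
  rw [this]
  exact mul_mem hxZ (inv_mem hyZ)

theorem not_all_normal [IsSimpleGroup G] (hG : ¬ IsMulCommutative G) :
    ∃ D, Mem S D ∧ ¬ (S : Subgroup G) ≤ normalizer (D : Set G) := by
  by_contra hno
  push Not at hno
  obtain ⟨D, hD⟩ := h.exists_mem hG
  obtain ⟨D', hD', hne⟩ := h.exists_two hG hD
  have p := h.part_of_normal hD hD' hne (hno D hD) (hno D' hD')
  refine h.big fun a ha b hb c hc => ?_
  obtain ⟨c', hc', hd⟩ := h.product p hc (hno D hD hc)
  have hz := h.comm_central p ha (hno D hD ha) hb (hno D hD hb)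
  set z := a * b * a⁻¹ * b⁻¹
  calc z * c = z * (c * c'⁻¹) * c' := by group
    _ = (c * c'⁻¹) * z * c' := by rw [h.inf_commute p hz (Or.inl hd)]
    _ = (c * c'⁻¹) * (c' * z) := by rw [mul_assoc, h.inf_commute p hz (Or.inr hc')]
    _ = c * z := by group

/-- one nonnormal member forbids normal ones -/
theorem no_normal {D : Subgroup G} (hD : Mem S D) (hn : (S : Subgroup G) ≤ normalizer (D : Set G))
    {D₁ : Subgroup G} (hD₁ : Mem S D₁) (hn₁ : ¬ (S : Subgroup G) ≤ normalizer (D₁ : Set G)) : False := by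
  obtain ⟨s, hs, -, -, p⟩ := h.exists_partner hD₁ hn₁
  set D₂ := conjMap s D₁ with hD₂
  have hself := h.self_mem hD
  set T := (S : Subgroup G) ⊓ normalizer (D₁ : Set G) with hT
  set V := omG D
  have hVS : V ≤ (S : Subgroup G) := (omG_le D).trans hself.le
  have hSV : (S : Subgroup G) ≤ normalizer (V : Set G) := hn.trans (normalizer_le_omG D)
  -- the involutions of `D` in `T` are in both members
  have key : ∀ u ∈ V, u ∈ T → u ∈ D₁ ⊓ D₂ := by
    have bad : ∀ {E E' : Subgroup G}, Part S E E' → ∀ u ∈ V, u ∈ E → u ∉ E' → E = D := by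
      intro E E' q u hu huE huE'
      have hle : D ≤ E := by
        rw [← h.centralizer_eq q (mem_omG_of huE (sq_of_mem_omG hself.ab hu)) huE']
        exact le_inf hself.le fun x hx => mem_cent_iff.2 (hself.ab x hx u (omG_le D hu))
      exact (h.eq_of_comm hself (h.self_mem q.left) hle).symm
    intro u hu huT
    have hD₁' : D₁ ≠ D := fun e => hn₁ (e ▸ hn)
    have hD₂' : D₂ ≠ D := fun e => hn₁ (by
      have e' : D₁ = D := by
        rw [← Cfsg.Lib.Coprime.conjMap_inv_conjMap s D₁, ← hD₂, e, conjMap_eq_self (inv_mem (hn hs))]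
      rw [e']; exact hn)
    rcases h.involution_mem p huT.1 huT.2 (sq_of_mem_omG hself.ab hu) with h1 | h1
    · by_contra hnot
      exact hD₁' (bad p u hu h1 fun h2 => hnot ⟨h1, h2⟩)
    · by_contra hnot
      exact hD₂' (bad p.symm u hu h1 fun h2 => hnot ⟨h2, h1⟩)
  obtain ⟨v, hv, hvc, hDv, hvV⟩ := h.v_spec hD
  have hVT : V ≤ T := by
    by_contra hnot
    obtain ⟨k, hk, hkT⟩ := SetLike.not_le_iff_exists.1 hnot
    obtain ⟨e, he, heT, heN⟩ := exists_norm_not_mem S.isPGroup'
      (sup_le hVS inf_le_left : V ⊔ T ≤ (S : Subgroup G)) le_sup_right (mem_sup_left hk) hkT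
    obtain ⟨u, hu, t, ht, rfl⟩ :=
      (Cfsg.Lib.Coprime.mem_sup_of_le_normalizer (inf_le_left.trans hSV : T ≤ normalizer (V : Set G))).1 he
    have huN : u ∈ normalizer (T : Set G) := by
      have := mul_mem heN (inv_mem (le_normalizer ht))
      rwa [mul_inv_cancel_right] at this
    have huT : u ∉ T := fun hc => heT (mul_mem hc ht)
    refine huT ⟨hVS hu, mem_normalizer_of_conj_le fun d hd => ?_⟩
    have hdT : d ∈ T := ⟨(h.self_mem hD₁).le hd, le_normalizer hd⟩
    have h1 : u * d * u⁻¹ * d⁻¹ ∈ V := by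
      rw [show u * d * u⁻¹ * d⁻¹ = u * (d * u⁻¹ * d⁻¹) by group]
      exact mul_mem hu (conj_mem_of_normalizer (hSV hdT.1) (inv_mem hu))
    have h2 := (key _ h1 (mul_mem (conj_mem_of_normalizer huN hdT) (inv_mem hdT))).1
    have := mul_mem h2 hd
    rwa [inv_mul_cancel_right] at this
  have hv1 := key v hvV (hVT hvV)
  have hle : D₁ ≤ D := by
    rw [hDv]
    exact le_inf (h.self_mem hD₁).le fun x hx => mem_cent_iff.2 ((h.self_mem hD₁).ab x hx v hv1.1)
  exact hn₁ (h.eq_of_comm (h.self_mem hD₁) hself hle ▸ hn)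

theorem nonnormal [IsSimpleGroup G] (hG : ¬ IsMulCommutative G) {D : Subgroup G} (hD : Mem S D) :
    ¬ (S : Subgroup G) ≤ normalizer (D : Set G) := fun hn => by
  obtain ⟨D₁, hD₁, hn₁⟩ := h.not_all_normal hG
  exact h.no_normal hD hn hD₁ hn₁

/-- an involution of `N_S(D)` outside the intersection has one of the two members as its centraliser -/
theorem centralizer_cases {D D' : Subgroup G} (p : Part S D D') {u : G} (hu : u ∈ (S : Subgroup G))
    (huN : u ∈ normalizer (D : Set G)) (hu2 : u * u = 1) (hnZ : u ∉ D ⊓ D') :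
    (S : Subgroup G) ⊓ centralizer {u} = D ∨ (S : Subgroup G) ⊓ centralizer {u} = D' := by
  rcases h.involution_mem p hu huN hu2 with h1 | h1
  · exact Or.inl (h.centralizer_eq p (mem_omG_of h1 hu2) fun h2 => hnZ ⟨h1, h2⟩)
  · exact Or.inr (h.centralizer_eq p.symm (mem_omG_of h1 hu2) fun h2 => hnZ ⟨h2, h1⟩)

theorem not_mem_inf_of_ab {D D' : Subgroup G} (p : Part S D D') {u : G}
    (hab : Ab ((S : Subgroup G) ⊓ centralizer {u})) : u ∉ D ⊓ D' := fun hu => by
  refine h.not_le_of_part p fun y hy => (h.self_mem p.left).cent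
    ⟨(h.self_mem p.right).le hy, mem_centralizer_iff.2 fun x hx => ?_⟩
  exact hab x ⟨(h.self_mem p.left).le hx, mem_cent_iff.2 (h.inf_commute p hu (Or.inl hx))⟩
    y ⟨(h.self_mem p.right).le hy, mem_cent_iff.2 (h.inf_commute p hu (Or.inr hy))⟩

/-- two independent involutions when the intersection has index above two -/
theorem exists_two_indep {D D' : Subgroup G} (p : Part S D D') (hq : 2 * Nat.card ↥(D ⊓ D') < Nat.card D) :
    ∃ a ∈ omG D, ∃ b ∈ omG D, a ∉ D' ∧ b ∉ D' ∧ a * b ∉ D' := by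
  obtain ⟨a, ha, ha'⟩ : ∃ a ∈ omG D, a ∉ D' := by
    by_contra hno
    push Not at hno
    have : D ≤ D ⊓ D' := fun d hd => by
      obtain ⟨v, hv, z, hz, rfl⟩ := h.split p hd
      exact mul_mem ⟨omG_le D hv, hno v hv⟩ hz
    have := Subgroup.card_le_of_le this
    have h0 : 0 < Nat.card ↥(D ⊓ D') := Nat.card_pos
    omega
  refine ⟨a, ha, ?_⟩
  by_contra hno
  simp only [not_exists, not_and, not_not] at hno
  have hcov : (D : Set G) ⊆ ((D ⊓ D' : Subgroup G) : Set G) ∪ (a * ·) '' ((D ⊓ D' : Subgroup G) : Set G) := by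
    intro d hd
    obtain ⟨v, hv, z, hz, rfl⟩ := h.split p hd
    by_cases hv' : v ∈ D'
    · exact Or.inl (mul_mem ⟨omG_le D hv, hv'⟩ hz)
    · refine Or.inr ⟨a * v * z, mul_mem ⟨mul_mem (omG_le D ha) (omG_le D hv), hno v hv ha' hv'⟩ hz, ?_⟩
      show a * (a * v * z) = v * z
      rw [← mul_assoc, ← mul_assoc, sq_of_mem_omG (h.ab_mem p.left) ha, one_mul]
  have h1 := (Set.ncard_le_ncard hcov).trans (Set.ncard_union_le _ _)
  rw [Set.ncard_image_of_injective _ (mul_right_injective a), ← Nat.card_coe_set_eq, ← Nat.card_coe_set_eq] at h1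
  simp only [SetLike.coe_sort_coe] at h1
  omega

theorem large_false [IsSimpleGroup G] (hG : ¬ IsMulCommutative G) {D : Subgroup G} (hD : Mem S D) {s : G}
    (hs : s ∈ (S : Subgroup G)) (hsD : s ∉ normalizer (D : Set G))
    (hsT : s ∈ normalizer (((S : Subgroup G) ⊓ normalizer (D : Set G) : Subgroup G) : Set G))
    (p : Part S D (conjMap s D)) (hq : 2 * Nat.card ↥(D ⊓ conjMap s D) < Nat.card D) : False := by
  set D' := conjMap s D with hD'
  set T := (S : Subgroup G) ⊓ normalizer (D : Set G) with hT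
  have hself := h.self_mem hD
  have hDT : D ≤ T := le_inf hself.le le_normalizer
  have hD'T : D' ≤ T := fun x hx => ⟨(h.self_mem p.right).le hx, h.left_le_norm p.symm hx⟩
  have hTn : ∀ {x : G}, x ∈ T ↔ x ∈ (S : Subgroup G) ∧ x ∈ normalizer (D : Set G) := Iff.rfl
  obtain ⟨a, ha, b, hb, ha', hb', hab'⟩ := h.exists_two_indep p hq
  -- a conjugation mapping some involution of `D` outside `D'` into `T` maps `D` to `D` or `D'`
  have move : ∀ {n v : G}, n ∈ normalizer ((S : Subgroup G) : Set G) → v ∈ omG D → v ∉ D' → n * v * n⁻¹ ∈ T →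
      conjMap n D = D ∨ conjMap n D = D' := by
    intro n v hn hv hv' hvT
    have hCn : (S : Subgroup G) ⊓ centralizer {n * v * n⁻¹} = conjMap n D := by
      rw [← h.centralizer_eq p hv hv', Cfsg.Lib.Coprime.conjMap_inf, conjMap_eq_self hn]
      congr 1
      ext x
      rw [mem_conjMap, mem_cent_iff, mem_cent_iff]
      constructor
      · intro e
        calc n⁻¹ * x * n * v = n⁻¹ * (x * (n * v * n⁻¹)) * n := by group
          _ = n⁻¹ * (n * v * n⁻¹ * x) * n := by rw [e]
          _ = _ := by group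
      · intro e
        calc x * (n * v * n⁻¹) = n * (n⁻¹ * x * n * v) * n⁻¹ := by group
          _ = n * (v * (n⁻¹ * x * n)) * n⁻¹ := by rw [e]
          _ = _ := by group
    have hsq : n * v * n⁻¹ * (n * v * n⁻¹) = 1 := by
      rw [show n * v * n⁻¹ * (n * v * n⁻¹) = n * (v * v) * n⁻¹ by group, sq_of_mem_omG hself.ab hv]; group
    have hnZ := h.not_mem_inf_of_ab p (u := n * v * n⁻¹) (by rw [hCn]; exact ab_conj hself.ab n)
    rcases h.centralizer_cases p hvT.1 hvT.2 hsq hnZ with e | e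
    · exact Or.inl (hCn ▸ e)
    · exact Or.inr (hCn ▸ e)
  -- the stabiliser of `{D, D'}`
  have hswap : ∀ u ∈ (S : Subgroup G), conjMap u D = D ∨ conjMap u D = D' → u ∈ T ∨ s⁻¹ * u ∈ T := by
    intro u hu hc
    rcases hc with e | e
    · exact Or.inl ⟨hu, conjMap_eq_self_iff.1 e⟩
    · refine Or.inr (mem_inf.2 ⟨mul_mem (inv_mem hs) hu, conjMap_eq_self_iff.1 ?_⟩)
      rw [← Cfsg.Lib.Coprime.conjMap_mul, e, hD', Cfsg.Lib.Coprime.conjMap_inv_conjMap]
  set R := (S : Subgroup G) ⊓ normalizer (T : Set G) with hR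
  have hTR : T ≤ R := le_inf inf_le_left le_normalizer
  have hRcases : ∀ x ∈ R, x ∈ T ∨ s⁻¹ * x ∈ T := fun x hx => hswap x hx.1
    (move (le_normalizer hx.1) ha ha' (conj_mem_of_normalizer hx.2 (hDT (omG_le D ha))))
  have hsT' : s ∉ T := fun hc => hsD hc.2
  have hss : s * s ∈ T := by
    rcases hRcases (s * s) ⟨mul_mem hs hs, mul_mem hsT hsT⟩ with hc | hc
    · exact hc
    · rw [inv_mul_cancel_left] at hc; exact absurd hc hsT'
  have hS : (S : Subgroup G) ≤ R := by
    by_contra hnot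
    obtain ⟨k, hk, hkR⟩ := SetLike.not_le_iff_exists.1 hnot
    obtain ⟨u, hu, huR, huN⟩ := exists_norm_not_mem S.isPGroup' le_rfl (inf_le_left : R ≤ S) hk hkR
    -- one of `a, b, a b` is moved into `T`
    have hin : ∀ v ∈ omG D, u * v * u⁻¹ ∈ R := fun v hv => conj_mem_of_normalizer huN (hTR (hDT (omG_le D hv)))
    obtain ⟨v, hv, hv', hvT⟩ : ∃ v ∈ omG D, v ∉ D' ∧ u * v * u⁻¹ ∈ T := by
      by_cases h1 : u * a * u⁻¹ ∈ T
      · exact ⟨a, ha, ha', h1⟩
      by_cases h2 : u * b * u⁻¹ ∈ T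
      · exact ⟨b, hb, hb', h2⟩
      refine ⟨a * b, mul_mem ha hb, hab', ?_⟩
      have e1 := (hRcases _ (hin a ha)).resolve_left h1
      have e2 := (hRcases _ (hin b hb)).resolve_left h2
      have e3 := mul_mem (mul_mem hss (conj_mem_of_normalizer' hsT e1)) e2
      convert e3 using 1
      group
    rcases hswap u hu (move (le_normalizer hu) hv hv' hvT) with hc | hc
    · exact huR (hTR hc)
    · refine huR ?_
      have := mul_mem (show s ∈ R from ⟨hs, hsT⟩) (hTR hc)
      rwa [mul_inv_cancel_left] at this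
  have hcases : ∀ x ∈ (S : Subgroup G), x ∈ T ∨ s⁻¹ * x ∈ T := fun x hx => hRcases x (hS hx)
  have hTnorm : (S : Subgroup G) ≤ normalizer (T : Set G) := fun x hx => (hS hx).2
  have hout2 : ∀ {x y : G}, x ∈ (S : Subgroup G) → x ∉ T → y ∈ (S : Subgroup G) → y ∉ T → x * y ∈ T := by
    intro x y hx hxT hy hyT
    have e1 := (hcases x hx).resolve_left hxT
    have e2 := (hcases y hy).resolve_left hyT
    have e3 := mul_mem (mul_mem hss (conj_mem_of_normalizer' hsT e1)) e2
    convert e3 using 1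
    group
  -- an outside element swaps the members
  have hswap' : ∀ x ∈ (S : Subgroup G), x ∉ T → conjMap x D = D' ∧ conjMap x D' = D := by
    intro x hx hxT
    have e1 := (hcases x hx).resolve_left hxT
    have hxD : conjMap x D = D' := by
      have : conjMap x D = conjMap s (conjMap (s⁻¹ * x) D) := by
        rw [Cfsg.Lib.Coprime.conjMap_mul, mul_inv_cancel_left]
      rw [this, conjMap_eq_self e1.2]
    refine ⟨hxD, ?_⟩
    rw [← hxD, Cfsg.Lib.Coprime.conjMap_mul, conjMap_eq_self (hout2 hx hxT hx hxT).2]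
  -- involutions of `T` commuting with an outside element are central
  have hcentral : ∀ {u σ : G}, u ∈ T → u * u = 1 → σ ∈ (S : Subgroup G) → σ ∉ T → σ * u = u * σ → Zc S u := by
    intro u σ hu hu2 hσ hσT hc
    have hfix : σ * u * σ⁻¹ = u := by rw [hc, mul_inv_cancel_right]
    obtain ⟨e1, e2⟩ := hswap' σ hσ hσT
    have hZ : u ∈ D ⊓ D' := by
      rcases h.involution_mem p hu.1 hu.2 hu2 with h1 | h1
      · exact ⟨h1, e1 ▸ hfix ▸ mem_conj_of_mem (g := σ) h1⟩
      · exact ⟨e2 ▸ hfix ▸ mem_conj_of_mem (g := σ) h1, h1⟩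
    have hcT : ∀ t ∈ T, t * u = u * t := fun t ht => by
      obtain ⟨d', hd', hd⟩ := h.product p ht.1 ht.2
      calc t * u = (t * d'⁻¹) * (d' * u) := by group
        _ = (t * d'⁻¹) * u * d' := by rw [h.inf_commute p hZ (Or.inr hd')]; group
        _ = u * (t * d'⁻¹) * d' := by rw [h.inf_commute p hZ (Or.inl hd)]
        _ = u * t := by group
    refine ⟨hu.1, mem_centralizer_iff.2 fun x hx => ?_, hu2⟩
    by_cases hxT : x ∈ T
    · exact hcT x hxT
    · have := hcT _ (hout2 hx hxT (inv_mem hσ) fun hc' => hσT (by simpa using inv_mem hc'))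
      calc x * u = x * σ⁻¹ * (σ * u) := by group
        _ = x * σ⁻¹ * u * σ := by rw [hc]; group
        _ = u * (x * σ⁻¹) * σ := by rw [this]
        _ = _ := by group
  -- members lie in `T`
  have hmemT : ∀ U : Subgroup G, Mem S U → U ≤ T := by
    intro U hU
    obtain ⟨v, hv, hvc, hUv, hvV⟩ := h.v_spec hU
    have hUs := h.self_mem hU
    by_cases hvT : v ∈ T
    · have hnZ := h.not_mem_inf_of_ab p (u := v) (hUv ▸ hUs.ab)
      rcases h.centralizer_cases p hvT.1 hvT.2 hv.sq hnZ with e | e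
      · rw [hUv, e]; exact hDT
      · rw [hUv, e]; exact hD'T
    exfalso
    -- `U` has a partner with index two
    obtain ⟨s', -, -, -, pU⟩ := h.exists_partner hU (h.nonnormal hG hU)
    set U' := conjMap s' U
    have hUom : ∀ x ∈ omG U, x ∈ U ⊓ U' ∨ x * v ∈ U ⊓ U' := by
      intro x hx
      have hx2 := sq_of_mem_omG hUs.ab hx
      have hxS := hUs.le (omG_le U hx)
      have hz : ∀ y : G, y ∈ T → y * y = 1 → y ∈ U → y ∈ U ⊓ U' := fun y hy hy2 hyU =>
        ⟨hyU, h.zc_mem (h.self_mem pU.right) (hcentral hy hy2 hv.1 hvT (hUs.ab v (omG_le U hvV) y hyU))⟩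
      by_cases hxT : x ∈ T
      · exact Or.inl (hz x hxT hx2 (omG_le U hx))
      · exact Or.inr (hz _ (hout2 hxS hxT hv.1 hvT) (sq_of_mem_omG hUs.ab (mul_mem hx hvV))
          (mul_mem (omG_le U hx) (omG_le U hvV)))
    have hUcov : ∀ x ∈ U, x ∈ U ⊓ U' ∨ x * v ∈ U ⊓ U' := by
      intro x hx
      obtain ⟨y, hy, z, hz, rfl⟩ := h.split pU hx
      rcases hUom y hy with h1 | h1
      · exact Or.inl (mul_mem h1 hz)
      · refine Or.inr ?_
        rw [mul_assoc, hUs.ab z hz.1 v (omG_le U hvV), ← mul_assoc]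
        exact mul_mem h1 hz
    have hvinv : v⁻¹ = v := inv_eq_of_mul_eq_one_right hv.sq
    have hvnot : v ∉ U ⊓ U' := h.not_mem_inf_of_ab pU (hUv ▸ hUs.ab)
    have hcard : Nat.card U' ≤ 2 * Nat.card ↥(U ⊓ U') := by
      rw [← h.card_eq_of_part pU]
      have hcov : (U : Set G) ⊆ ((U ⊓ U' : Subgroup G) : Set G) ∪ (· * v) '' ((U ⊓ U' : Subgroup G) : Set G) := by
        intro x hx
        rcases hUcov x hx with h1 | h1
        · exact Or.inl h1
        · refine Or.inr ⟨x * v, h1, ?_⟩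
          show x * v * v = x
          rw [mul_assoc, hv.sq, mul_one]
      have h1 := (Set.ncard_le_ncard hcov).trans (Set.ncard_union_le _ _)
      rw [Set.ncard_image_of_injective _ (mul_left_injective v), ← Nat.card_coe_set_eq,
        ← Nat.card_coe_set_eq] at h1
      simp only [SetLike.coe_sort_coe] at h1
      omega
    have hUU : ∀ x' ∈ U', x' ∉ U → ∀ y' ∈ U', y' ∉ U → x' * y' ∈ U := by
      intro x' hx' hxU y' hy' hyU
      have h1 := (U.subgroupOf U').card_mul_index
      have h2 : Nat.card (U.subgroupOf U') = Nat.card ↥(U ⊓ U') := by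
        rw [← inf_subgroupOf_right U U']
        exact Nat.card_congr (subgroupOfEquivOfLe (inf_le_right : U ⊓ U' ≤ U')).toEquiv
      rw [h2] at h1
      have hne1 : (U.subgroupOf U').index ≠ 1 := fun e => hxU (by
        have := index_eq_one.1 e ▸ mem_top (⟨x', hx'⟩ : U')
        exact this)
      have hidx : (U.subgroupOf U').index = 2 := by
        have hle : (U.subgroupOf U').index ≤ 2 := Nat.le_of_mul_le_mul_left (h1.le.trans (by linarith)) Nat.card_pos
        have h0 : (U.subgroupOf U').index ≠ 0 := index_ne_zero_of_finite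
        omega
      have := (mul_mem_iff_of_index_two hidx (a := ⟨x', hx'⟩) (b := (⟨y', hy'⟩ : U'))).2
        ⟨fun h0 => absurd h0 hxU, fun h0 => absurd h0 hyU⟩
      exact this
    have hTU : ∀ {x : G}, x ∈ U' → x ∈ normalizer (U : Set G) := fun hx => h.left_le_norm pU.symm hx
    refine h.outer_false p hv.sq hv.1 (fun x hx => ?_) hUv hUs.ab ?_ ?_ ha ha' hb hb' hab'
    · have h1 := mem_conj_of_mem (g := v) hx
      rwa [(hswap' v hv.1 hvT).1, hvinv] at h1
    · intro x y hx hxN hxU hy hyN hyU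
      obtain ⟨x', hx', hdx⟩ := h.product pU hx hxN
      obtain ⟨y', hy', hdy⟩ := h.product pU hy hyN
      have hxU' : x' ∉ U := fun hc => hxU (by simpa using mul_mem hdx hc)
      have hyU' : y' ∉ U := fun hc => hyU (by simpa using mul_mem hdy hc)
      rw [show x * y = x * x'⁻¹ * (x' * (y * y'⁻¹) * x'⁻¹) * (x' * y') by group]
      exact mul_mem (mul_mem hdx (conj_mem_of_normalizer (hTU hx') hdy)) (hUU x' hx' hxU' y' hy' hyU')
    · exact fun z hz hz2 hvz => hcentral (hDT hz.1) hz2 hv.1 hvT hvz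
  -- `N(S)` normalises `T`
  have hNT : ∀ n ∈ normalizer ((S : Subgroup G) : Set G), ∀ x ∈ T, n * x * n⁻¹ ∈ T := by
    intro n hn x hx
    obtain ⟨v, hv, hv', hvT⟩ : ∃ v ∈ omG D, v ∉ D' ∧ n * v * n⁻¹ ∈ T := by
      have hin : ∀ v ∈ omG D, n * v * n⁻¹ ∈ (S : Subgroup G) := fun v hv =>
        conj_mem_of_normalizer hn (hself.le (omG_le D hv))
      by_cases h1 : n * a * n⁻¹ ∈ T
      · exact ⟨a, ha, ha', h1⟩
      by_cases h2 : n * b * n⁻¹ ∈ T
      · exact ⟨b, hb, hb', h2⟩
      refine ⟨a * b, mul_mem ha hb, hab', ?_⟩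
      have := hout2 (hin a ha) h1 (hin b hb) h2
      convert this using 1
      group
    refine ⟨conj_mem_of_normalizer hn hx.1, ?_⟩
    have hxn : n * x * n⁻¹ ∈ normalizer (conjMap n D : Set G) := by
      rw [Cfsg.Lib.Coprime.normalizer_conjMap]; exact mem_conj_of_mem hx.2
    rcases move hn hv hv' hvT with e | e <;> rw [e] at hxn
    · exact hxn
    · exact (p.norm _ (conj_mem_of_normalizer hn hx.1)).2 hxn
  have hNT' : ∀ n ∈ normalizer ((S : Subgroup G) : Set G), ∀ x ∈ (S : Subgroup G),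
      (x ∈ T ↔ n * x * n⁻¹ ∈ T) := fun n hn x _ => ⟨hNT n hn x, fun h1 => by
    have := hNT n⁻¹ (inv_mem hn) _ h1
    simpa [mul_assoc] using this⟩
  have hfus : ∀ x ∈ (S : Subgroup G), ∀ u : G, u * x * u⁻¹ ∈ (S : Subgroup G) → (x ∈ T ↔ u * x * u⁻¹ ∈ T) := by
    intro x hx u hu
    refine h.fusion (fun x y => x ∈ T ↔ y ∈ T) (fun _ _ => Iff.rfl) (fun _ _ _ h1 h2 => h1.trans h2) hNT'
      (fun U hU m hm x hx => ?_) hx hu
    by_cases hUT : U ≤ T
    · exact ⟨fun _ => hUT (conj_mem_of_normalizer hm hx), fun _ => hUT hx⟩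
    have hnm : ¬ Mem S U := fun hm' => hUT (hmemT U hm')
    obtain ⟨σ, hσ, hσT⟩ := SetLike.not_le_iff_exists.1 hUT
    obtain ⟨e, heS, heU, heN⟩ := hU.exists_out h
    obtain ⟨c, hc, hn⟩ := h.inessential hU (fun m hm z hz => h.zc_fix hU hnm hm hz) heS heN heU (fun w hw => by
      have hw' := omG_conj (fun y hy => conj_mem_of_normalizer heN hy) hw
      have hmem : e * w * e⁻¹ * w⁻¹ ∈ omG U := mul_mem hw' (inv_mem hw)
      refine hcentral ?_ (sq_of_mem_omG hU.ab hmem) (hU.le hσ) hσT (hU.ab σ hσ _ (omG_le U hmem))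
      by_cases hwT : w ∈ T
      · exact mul_mem (conj_mem_of_normalizer (hTnorm heS) hwT) (inv_mem hwT)
      · have h1 : e * w * e⁻¹ ∉ T := fun h1 => hwT (by
          have := conj_mem_of_normalizer' (hTnorm heS) h1
          simpa [mul_assoc] using this)
        exact hout2 (mul_mem (mul_mem heS (hU.le (omG_le U hw))) (inv_mem heS)) h1
          (inv_mem (hU.le (omG_le U hw))) fun h2 => hwT (by simpa using inv_mem h2)) hm
    have e1 : m * x * m⁻¹ = m * c * x * (m * c)⁻¹ := by
      have := mem_centralizer_iff.1 hc x hx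
      calc m * x * m⁻¹ = m * (x * c) * c⁻¹ * m⁻¹ := by group
        _ = m * (c * x) * c⁻¹ * m⁻¹ := by rw [this]
        _ = _ := by group
    rw [e1]
    exact hNT' _ hn x (hU.le hx)
  have hle : (S : Subgroup G) ≤ T := focal_top hG fun x hx u hu => by
    by_cases hxT : x ∈ T
    · exact mul_mem (inv_mem hxT) ((hfus x hx u hu).1 hxT)
    · exact hout2 (inv_mem hx) (fun h1 => hxT (by simpa using inv_mem h1)) hu fun h1 => hxT ((hfus x hx u hu).2 h1)
  exact hsT' (hle hs)

end Hyp

end Cfsg.Lib.AbelianMeet
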