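import Cfsg.Agent.AbelianMeet.Uniform
import Cfsg.Agent.PGroups.Basic

/-!
The special involutions generate the Sylow subgroup, which is therefore dihedral.
-/

set_option autoImplicit false
set_option linter.unusedSectionVars false
set_option linter.style.haveILetI false

namespace Cfsg.Lib.AbelianMeet

open Subgroup Cfsg.Lib.InvolCalc
open scoped commutatorElement
open Cfsg.Lib.Coprime (conjMap mem_conjMap conjMap_eq_self conjMap_eq_self_iff)

variable {G : Type*} [Group G] [Finite G] {S : Sylow 2 G}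

/-- an element of odd order shifting `x` by a fixed 2-element fixes it -/
theorem eq_one_of_shift {n x q : G} (hn : Odd (orderOf n)) {N : ℕ} (hq : q ^ 2 ^ N = 1)
    (hxq : n * x * n⁻¹ = q * x) (hnq : n * q * n⁻¹ = q) : q = 1 := by
  have h1 : ∀ j : ℕ, n ^ j * x * (n ^ j)⁻¹ = q ^ j * x := by
    intro j
    induction j with
    | zero => simp
    | succ j ih =>
      have e : n * q ^ j * n⁻¹ = q ^ j := by
        have := map_pow (MulAut.conj n) q j
        simp only [MulAut.conj_apply] at this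
        rw [this, hnq]
      calc n ^ (j + 1) * x * (n ^ (j + 1))⁻¹ = n * (n ^ j * x * (n ^ j)⁻¹) * n⁻¹ := by
            rw [pow_succ' n j]; group
        _ = n * q ^ j * n⁻¹ * (n * x * n⁻¹) := by rw [ih]; group
        _ = _ := by rw [e, hxq, ← mul_assoc, pow_succ]
  have h2 := h1 (orderOf n)
  rw [pow_orderOf_eq_one] at h2
  simp only [one_mul, inv_one, mul_one] at h2
  have h3 : q ^ orderOf n = 1 := mul_eq_right.1 h2.symm
  have h4 := pow_gcd_eq_one.2 ⟨h3, hq⟩
  rwa [((Nat.coprime_two_right.2 hn).pow_right N).gcd_eq_one, pow_one] at h4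

theorem KD_map {D : Subgroup G} {n k : G} (hn : n ∈ normalizer ((S : Subgroup G) : Set G)) (hk : k ∈ KD S D) :
    n * k * n⁻¹ ∈ KD S (conjMap n D) := by
  refine mem_inf.2 ⟨mem_conj_of_mem hk.1, mem_centralizer_iff.2 fun x hx => ?_⟩
  have hx' := conjT_map (inv_mem hn) hx
  rw [Cfsg.Lib.Coprime.conjMap_inv_conjMap] at hx'
  have h1 := mem_centralizer_iff.1 hk.2 _ hx'
  calc x * (n * k * n⁻¹) = n * (n⁻¹ * x * n⁻¹⁻¹ * k) * n⁻¹ := by group
    _ = n * (k * (n⁻¹ * x * n⁻¹⁻¹)) * n⁻¹ := by rw [h1]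
    _ = _ := by group

/-- the part of `S` fixed in every member -/
def Qc (S : Sylow 2 G) : Subgroup G where
  carrier := {x | x ∈ (S : Subgroup G) ∧ ∀ D, Mem S D → x ∈ KD S D}
  one_mem' := ⟨one_mem _, fun _ _ => one_mem _⟩
  mul_mem' := fun ha hb => ⟨mul_mem ha.1 hb.1, fun D hD => mul_mem (ha.2 D hD) (hb.2 D hD)⟩
  inv_mem' := fun ha => ⟨inv_mem ha.1, fun D hD => inv_mem (ha.2 D hD)⟩

theorem Qc_conj (h : Hyp G S) {n x : G} (hn : n ∈ normalizer ((S : Subgroup G) : Set G)) (hx : x ∈ Qc S) :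
    n * x * n⁻¹ ∈ Qc S := by
  refine ⟨conj_mem_of_normalizer hn hx.1, fun D hD => ?_⟩
  have h1 := KD_map hn (hx.2 _ (h.mem_conj hD (inv_mem hn)))
  rwa [Cfsg.Lib.Coprime.conjMap_mul, mul_inv_cancel, Cfsg.Lib.Coprime.conjMap_one] at h1

/-- the common data -/
structure Frame (S : Sylow 2 G) (w a b : G) : Prop where
  inv : InvSet (S : Subgroup G) {e | Spec S e} w
  w_one : w ≠ 1
  zc : Zc S w
  w_fix : ∀ n ∈ normalizer ((S : Subgroup G) : Set G), n * w * n⁻¹ = w
  data : ∀ D, Mem S D → ∃ D' c, SmallData S D D' w c ∧ Spec S c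
  a_spec : Spec S a
  b_spec : Spec S b
  ncomm : a * b ≠ b * a
  gen : closure {e | Spec S e} = closure {a, b}

namespace Frame

variable {w a b : G} (F : Frame S w a b)

include F

theorem oa : orderOf a = 2 := F.inv.order_two_of_noncomm F.a_spec F.ncomm

theorem ob : orderOf b = 2 := F.inv.order_two_of_noncomm F.b_spec (Ne.symm F.ncomm)

theorem ne : a ≠ b := fun e => F.ncomm (by rw [e])

theorem w_mem : w ∈ zpowers (a * b) := F.inv.rot a F.a_spec b F.b_spec F.ncomm

theorem rho_mem : a * b ∈ (S : Subgroup G) := mul_mem (F.inv.sub a F.a_spec) (F.inv.sub b F.b_spec)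

theorem mem_closure {e : G} (he : Spec S e) : e ∈ closure ({a, b} : Set G) :=
  F.gen ▸ subset_closure he

theorem refl_form {e : G} (he : Spec S e) : ∃ i : ℤ, e = a * (a * b) ^ i := by
  rcases mem_closure_pair F.oa F.ob (F.mem_closure he) with ⟨i, hi⟩ | ⟨i, hi⟩
  · exfalso
    have hxρ : e ∈ zpowers (a * b) := ⟨i, hi.symm⟩
    have h2 : (a * b) ^ i * (a * b) ^ i = 1 := by rw [← hi]; exact F.inv.sq e he
    have hc : a * e = e * a := by
      rw [hi, flip_zpow F.oa F.ob, zpow_neg, inv_eq_of_mul_eq_one_right h2]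
    refine not_mem_zpowers F.oa F.ob F.ne ?_
    rcases F.inv.comm a F.a_spec e he hc with e1 | e1
    · rwa [e1] at hxρ
    · have h3 := mul_mem hxρ (inv_mem F.w_mem)
      rwa [e1, mul_inv_cancel_right] at h3
  · exact ⟨i, hi⟩

theorem rho_norm (h : Hyp G S) {n : G} (hn : n ∈ normalizer ((S : Subgroup G) : Set G)) :
    n ∈ normalizer (zpowers (a * b) : Set G) := by
  obtain ⟨i, hi⟩ := F.refl_form (F.a_spec.conj_normalizer h hn)
  obtain ⟨j, hj⟩ := F.refl_form (F.b_spec.conj_normalizer h hn)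
  have hab : n * (a * b) * n⁻¹ ∈ zpowers (a * b) := by
    refine ⟨-i + j, ?_⟩
    show (a * b) ^ (-i + j) = _
    rw [show n * (a * b) * n⁻¹ = n * a * n⁻¹ * (n * b * n⁻¹) by group, hi, hj, flip_zpow F.oa F.ob i,
      zpow_add, mul_assoc, ← mul_assoc a a, sq_of_order_two F.oa, one_mul]
  refine mem_normalizer_of_conj_le ?_
  rintro _ ⟨k, rfl⟩
  show n * (a * b) ^ k * n⁻¹ ∈ _
  rw [← conj_zpow]
  exact zpow_mem hab k

/-- the steps outside the members are realised in `N(S)` -/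
theorem nonmember (h : Hyp G S) {U : Subgroup G} (hU : Self S U) (hnm : ¬ Mem S U) {m : G}
    (hm : m ∈ normalizer (U : Set G)) :
    ∃ c ∈ centralizer (U : Set G), m * c ∈ normalizer ((S : Subgroup G) : Set G) := by
  by_cases hC : (S : Subgroup G) ⊓ centralizer (omG U : Set G) ≤ U
  swap
  · exact h.inessential_of_cent hU hnm hC hm
  have hUC : ∀ x ∈ U, x ∈ centralizer (omG U : Set G) := fun x hx =>
    mem_centralizer_iff.2 fun u hu => hU.ab u (omG_le U hu) x hx
  -- normalising the involutions suffices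
  have hnorm : ∀ e ∈ (S : Subgroup G), (∀ u ∈ omG U, e * u * e⁻¹ ∈ omG U) → e ∈ normalizer (U : Set G) := by
    intro e he hom
    have heN : e ∈ normalizer (omG U : Set G) := mem_normalizer_of_conj_le hom
    refine mem_normalizer_of_conj_le fun x hx => hC (mem_inf.2 ⟨mul_mem (mul_mem he (hU.le hx)) (inv_mem he),
      mem_centralizer_iff.2 fun u hu => ?_⟩)
    have h1 := mem_centralizer_iff.1 (hUC x hx) _ (conj_mem_of_normalizer' heN hu)
    calc u * (e * x * e⁻¹) = e * (e⁻¹ * u * e * x) * e⁻¹ := by group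
      _ = e * (x * (e⁻¹ * u * e)) * e⁻¹ := by rw [h1]
      _ = _ := by group
  have hwU : w ∈ omG U := mem_omG_of (h.zc_mem hU F.zc) F.zc.2.2
  have hZ : ∀ f : G, f ∈ zpowers (a * b) → f * f = 1 → f ∈ zcSub S := fun f hf hf2 => by
    rcases zpow_sq_cases hf hf2 F.w_mem F.zc.2.2 F.w_one with rfl | rfl
    · exact one_mem _
    · exact F.zc
  have hZU : ∀ f, f ∈ zcSub S → f ∈ omG U := fun f hf => mem_omG_of (h.zc_mem hU hf) hf.2.2
  suffices ∃ e ∈ (S : Subgroup G), e ∉ U ∧ ∀ u ∈ omG U, Zc S (e * u * e⁻¹ * u⁻¹) by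
    obtain ⟨e, heS, heU, hf⟩ := this
    refine h.inessential hU (fun m hm z hz => h.zc_fix hU hnm hm hz) heS (hnorm e heS fun u hu => ?_) heU hf hm
    have := mul_mem (hZU _ (hf u hu)) hu
    rwa [inv_mul_cancel_right] at this
  have hsq : ∀ {u : G}, u ∈ omG U → u⁻¹ = u := fun hu => inv_eq_of_mul_eq_one_right (sq_of_mem_omG hU.ab hu)
  have huN : ∀ {u : G}, u ∈ omG U → u ∈ normalizer (zpowers (a * b) : Set G) := fun hu =>
    F.rho_norm h (le_normalizer (hU.le (omG_le U hu)))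
  by_cases hρ : a * b ∈ centralizer (omG U : Set G)
  · have hρU : a * b ∈ U := hC ⟨F.rho_mem, hρ⟩
    refine ⟨a, F.inv.sub a F.a_spec, fun haU => F.ncomm ?_, fun u hu => ?_⟩
    · have h1 := hU.ab a haU (a * b) hρU
      rw [← mul_assoc, sq_of_order_two F.oa, one_mul] at h1
      calc a * b = a * (a * b * a) := by rw [← h1]
        _ = (a * a) * b * a := by group
        _ = b * a := by rw [sq_of_order_two F.oa, one_mul]
    · obtain ⟨i, hi⟩ := F.refl_form (F.a_spec.conj_normalizer h (le_normalizer (hU.le (omG_le U hu))))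
      have hcu : u * (a * b) ^ i = (a * b) ^ i * u :=
        (Commute.zpow_right (show Commute u (a * b) from mem_centralizer_iff.1 hρ u hu) i).eq
      have hf : a * u * a⁻¹ * u⁻¹ = (a * b) ^ i := by
        rw [inv_of_order_two F.oa]
        calc a * u * a * u⁻¹ = a * (u * a * u⁻¹) := by group
          _ = (a * b) ^ i := by rw [hi, ← mul_assoc, sq_of_order_two F.oa, one_mul]
      rw [hf]
      refine hZ _ ⟨i, rfl⟩ ?_
      have h2 : a = a * (a * b) ^ i * (a * b) ^ i := by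
        calc a = u * (u * a * u⁻¹) * u⁻¹ := by
              rw [hsq hu, show u * (u * a * u) * u = (u * u) * a * (u * u) by group,
                sq_of_mem_omG hU.ab hu, one_mul, mul_one]
          _ = u * a * ((a * b) ^ i * u⁻¹) := by rw [hi]; group
          _ = u * a * u⁻¹ * (a * b) ^ i := by
            rw [hsq hu, ← hcu]; group
          _ = _ := by rw [hi]
      exact (left_eq_mul.1 (h2.trans (mul_assoc _ _ _)))
  · classical
    obtain ⟨N, hN⟩ := S.isPGroup' ⟨a * b, F.rho_mem⟩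
    have hN : (a * b) ^ 2 ^ N = 1 := congrArg Subtype.val hN
    have hex : ∃ i : ℕ, (a * b) ^ 2 ^ i ∈ centralizer (omG U : Set G) := ⟨N, by rw [hN]; exact one_mem _⟩
    obtain ⟨i, hi⟩ : ∃ i, Nat.find hex = i + 1 := Nat.exists_eq_succ_of_ne_zero fun e0 => hρ (by
      have := Nat.find_spec hex
      rwa [e0, pow_zero, pow_one] at this)
    set e := (a * b) ^ 2 ^ i with he
    have he2 : e * e ∈ centralizer (omG U : Set G) := by
      have := Nat.find_spec hex
      rwa [hi, pow_succ, pow_mul, pow_two, ← he] at this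
    have hnot : e ∉ centralizer (omG U : Set G) := Nat.find_min hex (by omega)
    refine ⟨e, pow_mem F.rho_mem _, fun heU => hnot (hUC e heU), fun u hu => ?_⟩
    have heρ : e ∈ zpowers (a * b) := pow_mem (mem_zpowers _) _
    have hg : u * e⁻¹ * u⁻¹ ∈ zpowers (a * b) := conj_mem_of_normalizer (huN hu) (inv_mem heρ)
    rw [show e * u * e⁻¹ * u⁻¹ = e * (u * e⁻¹ * u⁻¹) by group]
    set g := u * e⁻¹ * u⁻¹ with hgdef
    have hcomm : Commute e g := by
      obtain ⟨k, hk⟩ := heρ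
      obtain ⟨l, hl⟩ := hg
      rw [← show (a * b) ^ k = e from hk, ← show (a * b) ^ l = g from hl]
      exact Commute.zpow_zpow_self _ k l
    refine hZ _ (mul_mem heρ hg) ?_
    have h1 := mem_centralizer_iff.1 he2 u hu
    calc e * g * (e * g) = e * (g * e) * g := by group
      _ = e * (e * g) * g := by rw [hcomm.eq]
      _ = e * e * u * (e * e)⁻¹ * u⁻¹ := by rw [hgdef]; group
      _ = 1 := by rw [← h1]; group

theorem Qc_eq_bot [IsSimpleGroup G] (h : Hyp G S) (hG : ¬ IsMulCommutative G) : Qc S = ⊥ := by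
  haveI : Fact (Nat.Prime 2) := ⟨Nat.prime_two⟩
  set A := Qc S ⊓ zcSub S with hA
  have hAN : ∀ n ∈ normalizer ((S : Subgroup G) : Set G), ∀ x ∈ A, n * x * n⁻¹ ∈ A := fun n hn x hx =>
    mem_inf.2 ⟨Qc_conj h hn hx.1, hx.2.conj_normalizer hn⟩
  have hAbot : A = ⊥ := by
    by_contra hne
    refine h.not_stronglyClosed hG hne (fun x hx y hy => ?_) ⟨fun x hx => hx.1.1, fun x hx g hg => ?_⟩
    · exact mem_centralizer_iff.1 hy.2.2.1 x hx.1.1
    refine h.fusion (fun x y => x ∈ A → y ∈ A) (fun _ _ => id) (fun _ _ _ h1 h2 hx => h2 (h1 hx))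
      (fun n hn x _ => hAN n hn x) (fun U hU m hm x hxU hxA => ?_) hx.1.1 hg hx
    by_cases hmem : Mem S U
    · obtain ⟨U', c, d, -⟩ := F.data U hmem
      obtain ⟨t, ht, k, hk, n, hnU, hnS, rfl⟩ := d.fact m hm
      have hy := hAN n hnS x hxA
      have h1 := mem_centralizer_iff.1 hk _ (conj_mem_of_normalizer hnU hxU)
      have h2 := mem_centralizer_iff.1 ((hy.1.2 U hmem).2) t ht
      have e : t * k * n * x * (t * k * n)⁻¹ = n * x * n⁻¹ := by
        calc t * k * n * x * (t * k * n)⁻¹ = t * (k * (n * x * n⁻¹)) * k⁻¹ * t⁻¹ := by group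
          _ = t * (n * x * n⁻¹ * k) * k⁻¹ * t⁻¹ := by rw [h1]
          _ = (t * (n * x * n⁻¹)) * t⁻¹ := by group
          _ = n * x * n⁻¹ := by rw [h2, mul_inv_cancel_right]
      rwa [e]
    · obtain ⟨c, hc, hn⟩ := F.nonmember h hU hmem hm
      have h1 := mem_centralizer_iff.1 hc x hxU
      have e : m * x * m⁻¹ = m * c * x * (m * c)⁻¹ := by
        calc m * x * m⁻¹ = m * (x * c) * c⁻¹ * m⁻¹ := by group
          _ = m * (c * x) * c⁻¹ * m⁻¹ := by rw [h1]
          _ = _ := by group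
      rw [e]
      exact hAN _ hn x hxA
  by_contra hne
  haveI : ((Qc S).subgroupOf (S : Subgroup G)).Normal :=
    ⟨fun x hx g => Qc_conj h (le_normalizer g.2) hx⟩
  obtain ⟨z, hz, hzc, hzo⟩ := Cfsg.Lib.PGroups.exists_mem_center_of_normal_ne_bot S.isPGroup'
    (N := (Qc S).subgroupOf (S : Subgroup G)) (fun e => hne (eq_bot_iff.2 fun x hx => by
      have : (⟨x, hx.1⟩ : (S : Subgroup G)) ∈ (Qc S).subgroupOf (S : Subgroup G) := hx
      rw [e, mem_bot] at this
      exact congrArg Subtype.val this))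
  have hz2 : (z : G) * z = 1 := by
    have := pow_orderOf_eq_one z
    rw [hzo, pow_two] at this
    exact congrArg Subtype.val this
  have hzA : (z : G) ∈ A := mem_inf.2 ⟨hz, z.2,
    mem_centralizer_iff.2 fun s hs => congrArg Subtype.val (mem_center_iff.1 hzc ⟨s, hs⟩), hz2⟩
  rw [hAbot, mem_bot] at hzA
  rw [show z = 1 from Subtype.ext hzA, orderOf_one] at hzo
  omega

theorem odd_centralizes [IsSimpleGroup G] (h : Hyp G S) (hG : ¬ IsMulCommutative G) {n : G}
    (hn : n ∈ normalizer ((S : Subgroup G) : Set G)) (ho : Odd (orderOf n)) :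
    n ∈ centralizer ((S : Subgroup G) : Set G) := by
  have hρ : ∀ {u : G}, u ∈ zpowers (a * b) → n * u * n⁻¹ = u := by
    have habz : Ab (zpowers (a * b)) := by
      rintro _ ⟨i, rfl⟩ _ ⟨j, rfl⟩
      exact (Commute.zpow_zpow_self _ i j).eq
    have hc := centralizes_of_omG (S.isPGroup'.to_le (zpowers_le.2 F.rho_mem)) habz (F.rho_norm h hn) ho
      fun u hu => by
        rcases zpow_sq_cases (omG_le _ hu) (sq_of_mem_omG habz hu) F.w_mem F.zc.2.2 F.w_one with rfl | rfl
        · group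
        · exact F.w_fix n hn
    intro u hu
    rw [← mem_centralizer_iff.1 hc u hu, mul_inv_cancel_right]
  have ha : n * a * n⁻¹ = a := by
    obtain ⟨i, hi⟩ := F.refl_form (F.a_spec.conj_normalizer h hn)
    rw [flip_zpow F.oa F.ob] at hi
    obtain ⟨N, hN⟩ := S.isPGroup' ⟨(a * b) ^ (-i), zpow_mem F.rho_mem _⟩
    have h1 := eq_one_of_shift (q := (a * b) ^ (-i)) ho (congrArg Subtype.val hN) hi (hρ ⟨-i, rfl⟩)
    rwa [h1, one_mul] at hi
  have hb : n * b * n⁻¹ = b := by
    calc n * b * n⁻¹ = n * a⁻¹ * n⁻¹ * (n * (a * b) * n⁻¹) := by group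
      _ = a⁻¹ * (a * b) := by rw [hρ (mem_zpowers _), inv_of_order_two F.oa, ha]
      _ = b := by group
  have hspec : ∀ e, Spec S e → n * e * n⁻¹ = e := by
    intro e he
    have h1 : closure ({a, b} : Set G) ≤ centralizer ({n} : Set G) := (closure_le _).2 (by
      rintro x (rfl | rfl) <;> rw [SetLike.mem_coe, mem_cent_iff]
      · nth_rw 1 [← ha]; group
      · nth_rw 1 [← hb]; group)
    rw [← mem_cent_iff.1 (h1 (F.mem_closure he)), mul_inv_cancel_right]
  have hkey : ∀ x ∈ (S : Subgroup G), (∀ e, Spec S e → x * e = e * x) → n * x * n⁻¹ = x := by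
    intro x hx hxe
    have hq : n * x * n⁻¹ * x⁻¹ ∈ Qc S := by
      refine ⟨mul_mem (conj_mem_of_normalizer hn hx) (inv_mem hx), fun D hD => ?_⟩
      obtain ⟨D', c, d, hc⟩ := F.data D hD
      have hxD : x ∈ D := d.a_cent ▸ ⟨hx, mem_cent_iff.2 (hxe c hc)⟩
      obtain ⟨u, hu, k, hk, rfl⟩ := d.split x hxD
      have hab := h.ab_mem hD
      have hfu : n * u * n⁻¹ = u := by
        rcases d.cover u hu with rfl | rfl | rfl | rfl
        · group
        · exact F.w_fix n hn
        · exact hspec _ hc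
        · rw [show n * (c * w) * n⁻¹ = n * c * n⁻¹ * (n * w * n⁻¹) by group, hspec c hc, F.w_fix n hn]
      have hnD : conjMap n D = D := by
        rw [← d.a_cent, Cfsg.Lib.Coprime.conjMap_inf, conjMap_eq_self hn]
        congr 1
        ext y
        rw [mem_conjMap, mem_cent_iff, mem_cent_iff]
        constructor
        · intro e0
          calc y * c = n * (n⁻¹ * y * n) * n⁻¹ * (n * c * n⁻¹) := by rw [hspec c hc]; group
            _ = n * (n⁻¹ * y * n * c) * n⁻¹ := by group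
            _ = n * (c * (n⁻¹ * y * n)) * n⁻¹ := by rw [e0]
            _ = n * c * n⁻¹ * y := by group
            _ = _ := by rw [hspec c hc]
        · intro e0
          calc n⁻¹ * y * n * c = n⁻¹ * (y * (n * c * n⁻¹)) * n := by group
            _ = n⁻¹ * (n * c * n⁻¹ * y) * n := by rw [hspec c hc, e0]
            _ = _ := by group
      have hk' : n * k * n⁻¹ ∈ KD S D := by
        have := KD_map hn hk
        rwa [hnD] at this
      have e : n * (u * k) * n⁻¹ * (u * k)⁻¹ = n * k * n⁻¹ * k⁻¹ := by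
        calc n * (u * k) * n⁻¹ * (u * k)⁻¹ = n * u * n⁻¹ * (n * k * n⁻¹ * k⁻¹) * u⁻¹ := by group
          _ = n * k * n⁻¹ * k⁻¹ := by
            rw [hfu, hab u (d.le_member hu) _ (mul_mem hk'.1 (inv_mem hk.1)), mul_inv_cancel_right]
      rw [e]
      exact mul_mem hk' (inv_mem hk)
    rw [F.Qc_eq_bot h hG, mem_bot] at hq
    exact mul_inv_eq_one.1 hq
  refine mem_centralizer_iff.2 fun s hs => ?_
  set q := n * s * n⁻¹ * s⁻¹ with hqdef
  have hqS : q ∈ (S : Subgroup G) := mul_mem (conj_mem_of_normalizer hn hs) (inv_mem hs)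
  have hqe : ∀ e, Spec S e → q * e = e * q := by
    intro e he
    have h0 : n * (s⁻¹ * e * s) * n⁻¹ = s⁻¹ * e * s := hspec _ (by
      have := he.conj_normalizer h (le_normalizer (inv_mem hs))
      rwa [inv_inv] at this)
    calc q * e = n * s * n⁻¹ * (s⁻¹ * e * s) * s⁻¹ := by rw [hqdef]; group
      _ = n * s * n⁻¹ * (n * (s⁻¹ * e * s) * n⁻¹) * s⁻¹ := by rw [h0]
      _ = (n * e * n⁻¹) * q := by rw [hqdef]; group
      _ = e * q := by rw [hspec e he]
  obtain ⟨N, hN⟩ := S.isPGroup' ⟨q, hqS⟩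
  have hN' : q ^ 2 ^ N = 1 := congrArg Subtype.val hN
  have hxq : n * s * n⁻¹ = q * s := by rw [hqdef, inv_mul_cancel_right]
  have hq1 : q = 1 := eq_one_of_shift ho hN' hxq (hkey q hqS hqe)
  rw [hqdef, mul_inv_eq_one, mul_inv_eq_iff_eq_mul] at hq1
  exact hq1.symm

/-- `N(S)` induces inner automorphisms on `S` -/
theorem norm_inner [IsSimpleGroup G] (h : Hyp G S) (hG : ¬ IsMulCommutative G) {n : G}
    (hn : n ∈ normalizer ((S : Subgroup G) : Set G)) :
    ∃ s ∈ (S : Subgroup G), ∀ x ∈ (S : Subgroup G), n * x * n⁻¹ = s * x * s⁻¹ := by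
  obtain ⟨i, o, ho, hio⟩ := Nat.exists_eq_two_pow_mul_odd (orderOf_pos n).ne'
  have h1 : n ^ 2 ^ i ∈ centralizer ((S : Subgroup G) : Set G) := by
    refine F.odd_centralizes h hG (pow_mem hn _) ?_
    rw [orderOf_pow_of_dvd (by positivity) (hio ▸ dvd_mul_right _ _), hio,
      Nat.mul_div_cancel_left _ (by positivity)]
    exact ho
  have h2 : n ^ o ∈ (S : Subgroup G) := by
    refine mem_sylow_of_normalizes (IsPGroup.of_card_dvd_pow (n := i) ?_) (pow_mem hn _)
    rw [Nat.card_zpowers, orderOf_dvd_iff_pow_eq_one, ← pow_mul, mul_comm, ← hio, pow_orderOf_eq_one]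
  have hco : Nat.Coprime (2 ^ i) o := (Nat.coprime_two_left.2 ho).pow_left i
  have hbez := Nat.gcd_eq_gcd_ab (2 ^ i) o
  rw [hco.gcd_eq_one] at hbez
  set A := Nat.gcdA (2 ^ i) o
  set B := Nat.gcdB (2 ^ i) o
  have hn' : n = (n ^ o) ^ B * (n ^ 2 ^ i) ^ A := by
    rw [← zpow_natCast n (2 ^ i), ← zpow_natCast n o, ← zpow_mul, ← zpow_mul, ← zpow_add, add_comm, ← hbez,
      Nat.cast_one, zpow_one]
  refine ⟨(n ^ o) ^ B, zpow_mem h2 _, fun x hx => ?_⟩
  have hc := mem_centralizer_iff.1 (zpow_mem h1 A) x hx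
  conv_lhs => rw [hn']
  rw [mul_inv_rev, show (n ^ o) ^ B * (n ^ 2 ^ i) ^ A * x * (((n ^ 2 ^ i) ^ A)⁻¹ * ((n ^ o) ^ B)⁻¹) =
    (n ^ o) ^ B * ((n ^ 2 ^ i) ^ A * x) * ((n ^ 2 ^ i) ^ A)⁻¹ * ((n ^ o) ^ B)⁻¹ by group, ← hc]
  group

theorem le_closure [IsSimpleGroup G] (h : Hyp G S) (hG : ¬ IsMulCommutative G) :
    (S : Subgroup G) = closure ({a, b} : Set G) := by
  haveI : Fact (Nat.Prime 2) := ⟨Nat.prime_two⟩
  set Δ := closure ({a, b} : Set G) with hΔ
  set C := (_root_.commutator (S : Subgroup G)).map (S : Subgroup G).subtype with hC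
  have hΔS : Δ ≤ (S : Subgroup G) := by
    rw [hΔ, ← F.gen]
    exact (closure_le _).2 fun e he => F.inv.sub e he
  have hWΔ : ∀ D, Mem S D → WD S D ≤ Δ := by
    intro D hD u hu
    obtain ⟨D', c, d, hc⟩ := F.data D hD
    have hwΔ : w ∈ Δ := by
      obtain ⟨i, hi⟩ := F.w_mem
      rw [← show (a * b) ^ i = w from hi]
      exact zpow_mem_closure_pair i
    rcases d.cover u hu with rfl | rfl | rfl | rfl
    · exact one_mem _
    · exact hwΔ
    · exact F.mem_closure hc
    · exact mul_mem (F.mem_closure hc) hwΔ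
  have hN : ∀ n ∈ normalizer ((S : Subgroup G) : Set G), ∀ x ∈ (S : Subgroup G),
      x⁻¹ * (n * x * n⁻¹) ∈ Δ ⊔ C := by
    intro n hn x hx
    obtain ⟨s, hs, e⟩ := F.norm_inner h hG hn
    rw [e x hx]
    refine mem_sup_right ⟨⁅(⟨x, hx⟩ : (S : Subgroup G))⁻¹, ⟨s, hs⟩⁆,
      commutator_mem_commutator (mem_top _) (mem_top _), ?_⟩
    show x⁻¹ * s * x⁻¹⁻¹ * s⁻¹ = _
    group
  have hle : (S : Subgroup G) ≤ Δ ⊔ C := focal_top hG fun x hx u hu => by
    refine h.fusion (fun x y => x⁻¹ * y ∈ Δ ⊔ C) (fun x _ => by simp) (fun x y z h1 h2 => ?_) hN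
      (fun U hU m hm x hxU => ?_) hx hu
    · have := mul_mem h1 h2
      rwa [show x⁻¹ * y * (y⁻¹ * z) = x⁻¹ * z by group] at this
    by_cases hmem : Mem S U
    · obtain ⟨U', c, d, -⟩ := F.data U hmem
      obtain ⟨t, ht, k, hk, n, hnU, hnS, rfl⟩ := d.fact m hm
      have hy : n * x * n⁻¹ ∈ U := conj_mem_of_normalizer hnU hxU
      have h1 := mem_centralizer_iff.1 hk _ hy
      set y := n * x * n⁻¹ with hydef
      have h2 : t * y * t⁻¹ * y⁻¹ ∈ Δ ⊔ C := mem_sup_left (hWΔ U hmem (subset_closure ⟨t, ht, y, hy, rfl⟩))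
      have h3 := hU.ab _ (conj_mem_of_normalizer (conjT_sub ht) hy) _ (inv_mem hy)
      have := mul_mem (hN n hnS x (hU.le hxU)) h2
      rw [← hydef, h3] at this
      convert this using 1
      calc x⁻¹ * (t * k * n * x * (t * k * n)⁻¹) = x⁻¹ * (t * (k * y) * k⁻¹ * t⁻¹) := by rw [hydef]; group
        _ = x⁻¹ * y * (y⁻¹ * (t * y * t⁻¹)) := by rw [← h1]; group
    · obtain ⟨c, hc, hn⟩ := F.nonmember h hU hmem hm
      have h1 := mem_centralizer_iff.1 hc x hxU
      have e : m * x * m⁻¹ = m * c * x * (m * c)⁻¹ := by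
        calc m * x * m⁻¹ = m * (x * c) * c⁻¹ * m⁻¹ := by group
          _ = m * (c * x) * c⁻¹ * m⁻¹ := by rw [h1]
          _ = _ := by group
      rw [e]
      exact hN _ hn x (hU.le hxU)
  have htop : Δ.subgroupOf (S : Subgroup G) = ⊤ := by
    refine frattini_nongenerating (eq_top_iff.2 ?_)
    have hCS : C ≤ (S : Subgroup G) := map_subtype_le _
    have h1 : Δ.subgroupOf (S : Subgroup G) ⊔ C.subgroupOf (S : Subgroup G) = ⊤ := by
      rw [← subgroupOf_sup hΔS hCS]
      exact subgroupOf_eq_top.2 hle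
    rw [← h1]
    refine sup_le_sup_left ?_ _
    rw [hC, subgroupOf, comap_map_eq_self_of_injective (subtype_injective _)]
    exact Cfsg.Lib.PGroups.commutator_le_frattini S.isPGroup'
  exact le_antisymm (subgroupOf_eq_top.1 htop) hΔS

end Frame

theorem Hyp.dihedral [IsSimpleGroup G] (h : Hyp G S) (hG : ¬ IsMulCommutative G) :
    ∃ m : ℕ, 2 ≤ m ∧ Nonempty (↥(S : Subgroup G) ≃* DihedralGroup m) := by
  obtain ⟨w, hinv, hw1, hzc, hfix, hdata⟩ := h.exists_invSet hG
  obtain ⟨a, ha, b, hb, hab, hgen⟩ := hinv.dihedral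
  have F : Frame S w a b := ⟨hinv, hw1, hzc, hfix, hdata, ha, hb, hab, hgen⟩
  obtain ⟨e⟩ := exists_dihedral_equiv F.oa F.ob F.ne
  refine ⟨orderOf (a * b), ?_, ⟨(MulEquiv.subgroupCongr (F.le_closure h hG)).trans e⟩⟩
  by_contra hlt
  have h1 : orderOf (a * b) = 1 := by have := orderOf_pos (a * b); omega
  refine hab ?_
  rw [orderOf_eq_one_iff] at h1
  have h2 := eq_inv_of_mul_eq_one_right h1
  rw [h2]; group

end Cfsg.Lib.AbelianMeet
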