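import Cfsg.Agent.AbelianMeet.Member

/-!
A self-centralising abelian subgroup whose normaliser fixes the central involutions, with an element of `S` moving
its involutions only by central ones, has normaliser inside `C(U)N(S)`.
-/

set_option autoImplicit false
set_option linter.unusedSectionVars false
set_option linter.style.haveILetI false

namespace Cfsg.Lib.AbelianMeet

open Subgroup
open Cfsg.Lib.Coprime (conjMap mem_conjMap conjMap_eq_self conjMap_eq_self_iff)

variable {G : Type*} [Group G] [Finite G] {S : Sylow 2 G}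

theorem mul_pow_sq_one {d : G} (hd : d * d = 1) {n : ℕ} (hn : Odd n) : d ^ n = d := by
  obtain ⟨j, rfl⟩ := hn
  rw [pow_succ, pow_mul, pow_two, hd, one_pow, one_mul]

/-- an element of odd order moving `x` by a fixed involution fixes it -/
theorem fix_of_shift {k x d : G} (hk : Odd (orderOf k)) (hd : d * d = 1) (hxd : k * x * k⁻¹ = d * x)
    (hkd : k * d * k⁻¹ = d) : k * x * k⁻¹ = x := by
  have h1 : ∀ i : ℕ, k ^ i * x * (k ^ i)⁻¹ = d ^ i * x := by
    intro i
    induction i with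
    | zero => simp
    | succ i ih =>
      have e : k * d ^ i * k⁻¹ = d ^ i := by
        have := map_pow (MulAut.conj k) d i
        simp only [MulAut.conj_apply] at this
        rw [this, hkd]
      calc k ^ (i + 1) * x * (k ^ (i + 1))⁻¹ = k * (k ^ i * x * (k ^ i)⁻¹) * k⁻¹ := by
            rw [pow_succ' k i]; group
        _ = k * d ^ i * k⁻¹ * (k * x * k⁻¹) := by rw [ih]; group
        _ = _ := by rw [e, hxd, ← mul_assoc, pow_succ]
  have h2 := h1 (orderOf k)
  rw [pow_orderOf_eq_one, mul_pow_sq_one hd hk] at h2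
  simp only [one_mul, inv_one, mul_one] at h2
  rw [hxd, ← h2]

/-- an element of odd order fixing the involutions of an abelian 2-subgroup centralises it -/
theorem centralizes_of_omG {U : Subgroup G} (hU2 : IsPGroup 2 U) (hab : Ab U) {k : G}
    (hkN : k ∈ normalizer (U : Set G)) (hk : Odd (orderOf k)) (hfix : ∀ u ∈ omG U, k * u * k⁻¹ = u) :
    k ∈ centralizer (U : Set G) := by
  suffices ∀ i : ℕ, ∀ x ∈ U, x ^ 2 ^ i = 1 → k * x * k⁻¹ = x by
    refine mem_centralizer_iff.2 fun x hx => ?_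
    obtain ⟨i, hi⟩ := hU2 ⟨x, hx⟩
    have h1 := this i x hx (congrArg Subtype.val hi)
    calc x * k = k * x * k⁻¹ * k := by rw [h1]
      _ = k * x := by group
  intro i
  induction i with
  | zero => intro x _ h; rw [pow_zero, pow_one] at h; rw [h]; group
  | succ i ih =>
    intro x hx h
    have h2 : k * (x * x) * k⁻¹ = x * x := ih (x * x) (mul_mem hx hx) (by
      rw [← pow_two, ← pow_mul, ← pow_succ']; exact h)
    set d := k * x * k⁻¹ * x⁻¹ with hd
    have hdU : d ∈ U := mul_mem (conj_mem_of_normalizer hkN hx) (inv_mem hx)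
    have hdd : d * d = 1 := by
      have hc : x⁻¹ * (k * x * k⁻¹) = k * x * k⁻¹ * x⁻¹ :=
        hab _ (inv_mem hx) _ (conj_mem_of_normalizer hkN hx)
      calc d * d = k * x * k⁻¹ * (x⁻¹ * (k * x * k⁻¹)) * x⁻¹ := by rw [hd]; group
        _ = k * x * k⁻¹ * (k * x * k⁻¹ * x⁻¹) * x⁻¹ := by rw [hc]
        _ = k * (x * x) * k⁻¹ * (x⁻¹ * x⁻¹) := by group
        _ = 1 := by rw [h2]; group
    exact fix_of_shift hk hdd (by rw [hd, inv_mul_cancel_right]) (hfix d (mem_omG_of hdU hdd))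

/-- the involutions of the centre of `S` with the identity -/
def zcSub (S : Sylow 2 G) : Subgroup G where
  carrier := {x | Zc S x}
  one_mem' := ⟨one_mem _, one_mem _, one_mul _⟩
  mul_mem' := by
    rintro a b ⟨ha, hac, ha2⟩ ⟨hb, hbc, hb2⟩
    refine ⟨mul_mem ha hb, mul_mem hac hbc, ?_⟩
    calc a * b * (a * b) = a * (b * a) * b := by group
      _ = a * (a * b) * b := by rw [mem_centralizer_iff.1 hac b hb]
      _ = (a * a) * (b * b) := by group
      _ = 1 := by rw [ha2, hb2, one_mul]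
  inv_mem' := fun {a} ha => ⟨inv_mem ha.1, inv_mem ha.2.1, by rw [← mul_inv_rev, ha.2.2, inv_one]⟩

namespace Hyp

variable (h : Hyp G S)

include h

theorem zc_fix {U : Subgroup G} (hU : Self S U) (hnm : ¬ Mem S U) {m : G} (hm : m ∈ normalizer (U : Set G))
    {z : G} (hz : Zc S z) : Zc S (m * z * m⁻¹) := by
  have hv := conj_mem_of_normalizer hm (h.zc_mem hU hz)
  by_contra hnot
  have hsig := hz.sig.conj (hU.le hv)
  by_cases hc : m * z * m⁻¹ ∈ centralizer ((S : Subgroup G) : Set G)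
  · exact hnot ⟨hU.le hv, hc, hsig.sq⟩
  · exact hnm (h.eq_of_sig hU hsig hc hv ▸ h.mem_of_sig hsig hc)

/-- the main lemma -/
theorem inessential {U : Subgroup G} (hU : Self S U) (hfix : ∀ m ∈ normalizer (U : Set G), ∀ z, Zc S z →
      Zc S (m * z * m⁻¹))
    {e : G} (heS : e ∈ (S : Subgroup G)) (heN : e ∈ normalizer (U : Set G)) (heU : e ∉ U)
    (hshift : ∀ u ∈ omG U, Zc S (e * u * e⁻¹ * u⁻¹)) {m : G} (hm : m ∈ normalizer (U : Set G)) :
    ∃ c ∈ centralizer (U : Set G), m * c ∈ normalizer ((S : Subgroup G) : Set G) := by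
  haveI : Fact (Nat.Prime 2) := ⟨Nat.prime_two⟩
  have hzc2 : ∀ {c}, Zc S c → c * c = 1 := fun hc => hc.2.2
  let K : Subgroup G :=
    { carrier := {k | k ∈ normalizer (U : Set G) ∧ (∀ z, Zc S z → k * z * k⁻¹ = z) ∧
        ∀ u ∈ omG U, k * u * k⁻¹ * u⁻¹ ∈ zcSub S}
      one_mem' := ⟨one_mem _, fun z _ => by group, fun u _ => by
        rw [show (1 : G) * u * 1⁻¹ * u⁻¹ = 1 by group]; exact one_mem _⟩
      mul_mem' := by
        rintro k l ⟨hk, hkz, hku⟩ ⟨hl, hlz, hlu⟩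
        refine ⟨mul_mem hk hl, fun z hz => ?_, fun u hu => ?_⟩
        · rw [show k * l * z * (k * l)⁻¹ = k * (l * z * l⁻¹) * k⁻¹ by group, hlz z hz, hkz z hz]
        · have e1 := hlu u hu
          rw [show k * l * u * (k * l)⁻¹ * u⁻¹ = k * (l * u * l⁻¹ * u⁻¹) * k⁻¹ * (k * u * k⁻¹ * u⁻¹) by group,
            hkz _ e1]
          exact mul_mem e1 (hku u hu)
      inv_mem' := by
        rintro k ⟨hk, hkz, hku⟩
        have hinv : ∀ z, Zc S z → k⁻¹ * z * k⁻¹⁻¹ = z := fun z hz => by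
          calc k⁻¹ * z * k⁻¹⁻¹ = k⁻¹ * (k * z * k⁻¹) * k⁻¹⁻¹ := by rw [hkz z hz]
            _ = z := by group
        refine ⟨inv_mem hk, hinv, fun u hu => ?_⟩
        have e1 : Zc S ((k * u * k⁻¹ * u⁻¹)⁻¹) := inv_mem (s := zcSub S) (hku u hu)
        rw [show k⁻¹ * u * k⁻¹⁻¹ * u⁻¹ = k⁻¹ * (k * u * k⁻¹ * u⁻¹)⁻¹ * k⁻¹⁻¹ by group, hinv _ e1]
        exact e1 }
  have hUK : U ≤ K := fun x hx => ⟨le_normalizer hx, fun z hz => by
      rw [hU.ab x hx z (h.zc_mem hU hz)]; group, fun u hu => by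
      rw [hU.ab x hx u (omG_le U hu), show u * x * x⁻¹ * u⁻¹ = 1 by group]; exact one_mem _⟩
  have heK : e ∈ K := ⟨heN, fun z hz => by
      rw [mem_centralizer_iff.1 hz.2.1 e heS]; group, fun u hu => hshift u hu⟩
  have hconj : ∀ l ∈ normalizer (U : Set G), ∀ k ∈ K, l * k * l⁻¹ ∈ K := by
    rintro l hl k ⟨hk, hkz, hku⟩
    refine ⟨mul_mem (mul_mem hl hk) (inv_mem hl), fun z hz => ?_, fun u hu => ?_⟩
    · have h1 := hkz _ (hfix l⁻¹ (inv_mem hl) z hz)
      calc l * k * l⁻¹ * z * (l * k * l⁻¹)⁻¹ = l * (k * (l⁻¹ * z * l⁻¹⁻¹) * k⁻¹) * l⁻¹ := by group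
        _ = z := by rw [h1]; group
    · have hu' : l⁻¹ * u * l⁻¹⁻¹ ∈ omG U :=
        conj_mem_of_normalizer (normalizer_le_omG U (inv_mem hl)) hu
      rw [show l * k * l⁻¹ * u * (l * k * l⁻¹)⁻¹ * u⁻¹ =
        l * (k * (l⁻¹ * u * l⁻¹⁻¹) * k⁻¹ * (l⁻¹ * u * l⁻¹⁻¹)⁻¹) * l⁻¹ by group]
      exact hfix l hl _ (hku _ hu')
  have hKN : K ≤ normalizer (U : Set G) := fun k hk => hk.1
  have hodd : ∀ k ∈ K, Odd (orderOf k) → k ∈ centralizer (U : Set G) := by
    rintro k ⟨hk, hkz, hku⟩ ho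
    refine centralizes_of_omG (S.isPGroup'.to_le hU.le) hU.ab hk ho fun u hu => ?_
    exact fix_of_shift ho (hzc2 (hku u hu)) (by rw [inv_mul_cancel_right]) (hkz _ (hku u hu))
  set ψ : K →* MulAut U := (normalizerMonoidHom U).comp (Subgroup.inclusion hKN) with hψ
  have hker : ∀ k : K, ψ k = 1 ↔ (k : G) ∈ centralizer (U : Set G) := fun k => by
    rw [← MonoidHom.mem_ker, hψ, ← MonoidHom.comap_ker, normalizerMonoidHom_ker]
    rfl
  have hrange : IsPGroup 2 ψ.range := by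
    rintro ⟨_, k, rfl⟩
    obtain ⟨i, o, ho, hio⟩ := Nat.exists_eq_two_pow_mul_odd (orderOf_pos k).ne'
    refine ⟨i, Subtype.ext ?_⟩
    show ψ k ^ 2 ^ i = 1
    rw [← map_pow, hker]
    refine hodd _ (k ^ 2 ^ i).2 ?_
    rw [Subgroup.orderOf_coe, orderOf_pow_of_dvd (by positivity) (hio ▸ dvd_mul_right _ _), hio,
      Nat.mul_div_cancel_left _ (by positivity)]
    exact ho
  -- the Sylow subgroup of `K` inside `S`
  obtain ⟨PK, hPK⟩ := (S.isPGroup'.comap_of_injective K.subtype K.subtype_injective).exists_le_sylow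
  have hnab : ¬ Ab ((S : Subgroup G) ⊓ K) := hU.not_ab_of_lt inf_le_left (le_inf hU.le hUK)
    fun hle => heU (hle ⟨heS, heK⟩)
  have hPKS : (PK : Subgroup K).map K.subtype ≤ (S : Subgroup G) :=
    h.le_of_pgroup hnab inf_le_left (PK.isPGroup'.map _) fun x hx => ⟨⟨x, hx.2⟩, hPK hx.1, rfl⟩
  obtain ⟨kr, hkr, hψr⟩ : ∃ kr : K, kr ∈ (PK : Subgroup K) ∧ ψ kr = ψ ⟨m⁻¹ * e * m⁻¹⁻¹, hconj _ (inv_mem hm) e heK⟩ := by
    have htop : (PK.mapSurjective ψ.rangeRestrict_surjective : Subgroup ψ.range) = ⊤ :=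
      ((PK.mapSurjective ψ.rangeRestrict_surjective).is_maximal' (hrange.of_equiv topEquiv.symm) le_top).symm
    have hm' : ψ.rangeRestrict ⟨m⁻¹ * e * m⁻¹⁻¹, hconj _ (inv_mem hm) e heK⟩ ∈
        (PK.mapSurjective ψ.rangeRestrict_surjective : Subgroup ψ.range) := htop ▸ mem_top _
    rw [Sylow.coe_mapSurjective] at hm'
    obtain ⟨kr, hkr, he⟩ := hm'
    exact ⟨kr, hkr, congrArg Subtype.val he⟩
  set r : G := (kr : G) with hr
  set e' : G := m⁻¹ * e * m⁻¹⁻¹ with he'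
  have hrS : r ∈ (S : Subgroup G) := hPKS ⟨kr, hkr, rfl⟩
  have hdiff : r⁻¹ * e' ∈ centralizer (U : Set G) := by
    have := (hker (kr⁻¹ * ⟨e', hconj _ (inv_mem hm) e heK⟩)).1 (by rw [map_mul, map_inv, hψr, inv_mul_cancel])
    exact this
  have he'U : e' ∉ U := fun hc => heU (by
    have := conj_mem_of_normalizer hm hc
    rwa [he', show m * (m⁻¹ * e * m⁻¹⁻¹) * m⁻¹ = e by group] at this)
  have he'm : e' ∈ ((m⁻¹ • S : Sylow 2 G) : Subgroup G) := conj_mem_smul heS
  have hUm : U ≤ ((m⁻¹ • S : Sylow 2 G) : Subgroup G) := fun x hx => by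
    rw [smul_coe, mem_conjMap, inv_inv]
    exact hU.le (conj_mem_of_normalizer hm hx)
  -- `L = ⟨r⟩ C(U)`
  have hrN : r ∈ normalizer (U : Set G) := hKN kr.2
  have hrnorm : zpowers r ≤ normalizer (centralizer (U : Set G) : Set G) := zpowers_le.2 (by
    refine mem_normalizer_of_conj_le fun c hc => mem_centralizer_iff.2 fun u hu => ?_
    have h1 := mem_centralizer_iff.1 hc _ (conj_mem_of_normalizer' hrN hu)
    calc u * (r * c * r⁻¹) = r * (r⁻¹ * u * r * c) * r⁻¹ := by group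
      _ = r * (c * (r⁻¹ * u * r)) * r⁻¹ := by rw [h1]
      _ = _ := by group)
  set L := centralizer (U : Set G) ⊔ zpowers r with hL
  have hUL : U ≤ L := hU.ab.le_centralizer.trans le_sup_left
  have he'L : e' ∈ L := by
    rw [← mul_inv_cancel_left r e']
    exact mul_mem (mem_sup_right (mem_zpowers r)) (mem_sup_left hdiff)
  have hrU : r ∉ U := fun hc => he'U (hU.ab.le_centralizer hc |> fun hrc =>
    absurd (mul_mem hrc hdiff) (fun hc' => by
      rw [mul_inv_cancel_left] at hc'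
      have := mem_centralizer_iff.1 hc'
      exact heU (hU.cent ⟨heS, mem_centralizer_iff.2 fun u hu => by
        have h1 := this _ (conj_mem_of_normalizer (inv_mem hm) hu)
        calc u * e = m * ((m⁻¹ * u * m⁻¹⁻¹) * e') * m⁻¹ := by rw [he']; group
          _ = m * (e' * (m⁻¹ * u * m⁻¹⁻¹)) * m⁻¹ := by rw [h1]
          _ = e * u := by rw [he']; group⟩)))
  obtain ⟨PL, hPL⟩ := (S.isPGroup'.comap_of_injective L.subtype L.subtype_injective).exists_le_sylow
  have hPLS : (PL : Subgroup L).map L.subtype ≤ (S : Subgroup G) :=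
    h.le_of_pgroup (U := (S : Subgroup G) ⊓ L)
      (hU.not_ab_of_lt inf_le_left (le_inf hU.le hUL) fun hle => hrU (hle ⟨hrS, mem_sup_right (mem_zpowers r)⟩))
      inf_le_left (PL.isPGroup'.map _) fun x hx => ⟨⟨x, hx.2⟩, hPL hx.1, rfl⟩
  obtain ⟨PL', hPL'⟩ :=
    ((m⁻¹ • S : Sylow 2 G).isPGroup'.comap_of_injective L.subtype L.subtype_injective).exists_le_sylow
  obtain ⟨l, hl⟩ := MulAction.exists_smul_eq L PL PL'
  obtain ⟨c, hc, w, hw, hcw⟩ := (Cfsg.Lib.Coprime.mem_sup_of_le_normalizer hrnorm).1 l.2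
  set X := ((m⁻¹ • S : Sylow 2 G) : Subgroup G) ⊓ L
  have hX : X ≤ ((c • S : Sylow 2 G) : Subgroup G) := by
    intro x hx
    have h1 : (⟨x, hx.2⟩ : L) ∈ ((l • PL : Sylow 2 L) : Subgroup L) := hl.symm ▸ hPL' hx.1
    rw [smul_coe, mem_conjMap] at h1
    have h2 : (l : G)⁻¹ * x * (l : G) ∈ (S : Subgroup G) := hPLS ⟨_, h1, rfl⟩
    rw [smul_coe, mem_conjMap]
    have hwS : w ∈ (S : Subgroup G) := zpowers_le.2 hrS hw
    have := mul_mem (mul_mem hwS h2) (inv_mem hwS)
    convert this using 1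
    rw [← hcw]; group
  have heq := h.eq_of_le (U := X) (fun hab => he'U ?_) inf_le_left hX
  · refine ⟨c, hc, ?_⟩
    have := congrArg (m • ·) heq
    simp only [← mul_smul, mul_inv_cancel, one_smul] at this
    exact smul_eq_self.1 this.symm
  · have h1 : e' ∈ centralizer (U : Set G) := mem_centralizer_iff.2 fun u hu =>
      hab u ⟨hUm hu, hUL hu⟩ e' ⟨he'm, he'L⟩
    refine absurd (hU.cent ⟨heS, mem_centralizer_iff.2 fun u hu => ?_⟩) heU
    have h2 := mem_centralizer_iff.1 h1 _ (conj_mem_of_normalizer (inv_mem hm) hu)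
    calc u * e = m * ((m⁻¹ * u * m⁻¹⁻¹) * e') * m⁻¹ := by rw [he']; group
      _ = m * (e' * (m⁻¹ * u * m⁻¹⁻¹)) * m⁻¹ := by rw [h2]
      _ = e * u := by rw [he']; group

/-- if the involutions of `U` have a larger centraliser in `S`, the main lemma applies -/
theorem inessential_of_cent {U : Subgroup G} (hU : Self S U) (hnm : ¬ Mem S U)
    (hC : ¬ (S : Subgroup G) ⊓ centralizer (omG U : Set G) ≤ U) {m : G} (hm : m ∈ normalizer (U : Set G)) :
    ∃ c ∈ centralizer (U : Set G), m * c ∈ normalizer ((S : Subgroup G) : Set G) := by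
  obtain ⟨k, hk, hkU⟩ := SetLike.not_le_iff_exists.1 hC
  obtain ⟨e, he, heU, heN⟩ := exists_norm_not_mem S.isPGroup' inf_le_left
    (le_inf hU.le fun x hx => mem_centralizer_iff.2 fun u hu => hU.ab u (omG_le U hu) x hx) hk hkU
  refine h.inessential hU (fun m hm z hz => h.zc_fix hU hnm hm hz) he.1 heN heU (fun u hu => ?_) hm
  rw [← mem_centralizer_iff.1 he.2 u hu, show u * e * e⁻¹ * u⁻¹ = 1 by group]
  exact one_mem (zcSub S)

end Hyp

end Cfsg.Lib.AbelianMeet
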