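import Cfsg.Agent.AbelianMeet.Three
import Cfsg.Agent.BenderSE.Final
import Cfsg.Agent.BenderSE.Dependents.Rows
import Cfsg.Agent.Components.Misc.Zsigmondy

/-!
Three conjugates of a quadratic subgroup holding all involutions of a Sylow subgroup: a proper enlargement would
act with a primitive prime divisor in too small a dimension.
-/

set_option autoImplicit false
set_option linter.unusedSectionVars false
set_option linter.style.haveILetI false

namespace Cfsg.Lib.AbelianMeet

open Subgroup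
open Cfsg.Lib.Coprime (conjMap mem_conjMap conjMap_mul)

universe u

variable {H : Type u} [Group H] [Finite H]

/-- with trivial intersection Sylow subgroups the normaliser of one is transitive on the others through it -/
theorem ti_transitive {P : Sylow 2 H} (hti : TI H) (hP : normalizer ((P : Subgroup H) : Set H) ≠ ⊤)
    (h2 : BenderSE.HasCommutingInvolutions H) (hPne : ∃ s ∈ (P : Subgroup H), s ≠ 1) :
    (∀ g₁ g₂ : H, g₁ ∉ normalizer ((P : Subgroup H) : Set H) → g₂ ∉ normalizer ((P : Subgroup H) : Set H) →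
      ∃ p ∈ (P : Subgroup H), g₂⁻¹ * (p * g₁) ∈ normalizer ((P : Subgroup H) : Set H)) := by
  haveI : Fact (Nat.Prime 2) := ⟨Nat.prime_two⟩
  obtain ⟨s, hs, hs1⟩ := hPne
  set M := normalizer ((P : Subgroup H) : Set H) with hM
  have hH := hti.stronglyEmbedded hs hs1 hP
  have hO := BenderSE.oddCore_le hH h2
  set π := QuotientGroup.mk' (Cfsg.oddCore H)
  have hπ : Function.Surjective π := QuotientGroup.mk'_surjective _
  obtain ⟨L, Q, F⟩ := BenderSE.exists_frame BenderSE.regProp (BenderSE.setting_oddCore hH h2)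
  have hpre : ∀ g : H, π g ∈ M.map π → g ∈ M := by
    rintro g ⟨k, hk, e⟩
    have := hO (QuotientGroup.eq.1 e)
    simpa using mul_mem hk this
  have hQeq : Q = (P.mapSurjective hπ : Subgroup (H ⧸ Cfsg.oddCore H)) := by
    obtain ⟨R, hR⟩ := F.sylow
    have hle : (P.mapSurjective hπ : Subgroup (H ⧸ Cfsg.oddCore H)) ≤ normalizer (Q : Set (H ⧸ Cfsg.oddCore H)) := by
      rw [Sylow.coe_mapSurjective]
      exact (Subgroup.map_mono le_normalizer).trans F.qn
    rw [← hR] at hle ⊢
    have hPR : (P.mapSurjective hπ : Subgroup (H ⧸ Cfsg.oddCore H)) ≤ (R : Subgroup (H ⧸ Cfsg.oddCore H)) :=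
      (le_inf le_rfl hle).trans (((P.mapSurjective hπ).isPGroup'.inf_normalizer_sylow R).le.trans inf_le_right)
    exact le_antisymm ((P.mapSurjective hπ).is_maximal' R.isPGroup' hPR).le hPR
  intro g₁ g₂ h₁ h₂
  obtain ⟨u, hu, he⟩ := F.trans (π g₁) (π g₂) (fun h => h₁ (hpre _ h)) (fun h => h₂ (hpre _ h))
  rw [hQeq, Sylow.coe_mapSurjective] at hu
  obtain ⟨p, hp, rfl⟩ := hu
  exact ⟨p, hp, hpre _ (by rw [map_mul, map_mul, map_inv]; exact he)⟩

variable {V : Type*} [CommGroup V] [MulDistribMulAction H V] [Finite V] {P : Sylow 2 H} {O : Set V}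

namespace Act

variable (h : Act P O) {A : Subgroup H} (hA : Quad P A V) (hJ : ∀ b ∈ (P : Subgroup H), b * b = 1 → b ∈ A)

include h hA hJ

theorem sylow_eq_of_four (hA4 : 4 ≤ Nat.card A) : (P : Subgroup H) = A := by
  haveI : Fact (Nat.Prime 2) := ⟨Nat.prime_two⟩
  refine le_antisymm (fun t ht => ?_) hA.le
  by_contra htA
  obtain ⟨g, x, hB⟩ := h.exists_base hA
  obtain ⟨⟨a, ha⟩, ha1'⟩ := ne_bot_iff_exists_ne_one.1 hA.ne
  have ha1 : a ≠ 1 := fun e => ha1' (Subtype.ext e)
  have ha2 := h.sq_one_of_quad hA ha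
  -- the three conjugates
  set M : Subgroup H := A ⊔ conjMap g A ⊔ conjMap (t * g) A with hM
  have hAM : A ≤ M := le_sup_left.trans le_sup_left
  have hgM : conjMap g A ≤ M := le_sup_right.trans le_sup_left
  have htgM : conjMap (t * g) A ≤ M := le_sup_right
  have hpP : IsPGroup 2 ((P : Subgroup H).subgroupOf M) :=
    P.isPGroup'.comap_of_injective M.subtype M.subtype_injective
  obtain ⟨P₃, hP₃⟩ := hpP.exists_le_sylow
  have hP₃eq : (P₃ : Subgroup M) = (P : Subgroup H).subgroupOf M := by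
    refine le_antisymm ?_ hP₃
    obtain ⟨R, hR⟩ := (P₃.isPGroup'.map M.subtype).exists_le_sylow
    have e := h.ti P R a (hA.le ha) (hR ⟨⟨a, hAM ha⟩, hP₃ (hA.le ha), rfl⟩) ha1
    intro z hz
    show (z : H) ∈ (P : Subgroup H)
    rw [e]; exact hR ⟨z, hz, rfl⟩
  have hmemP₃ : ∀ z : M, z ∈ (P₃ : Subgroup M) ↔ (z : H) ∈ (P : Subgroup H) := fun z => by
    rw [hP₃eq]; rfl
  -- Sylow subgroups of `M` through the conjugates
  have hpick : ∀ k : H, conjMap k A ≤ M → ∃ m : M, (m : H) • P = k • P := by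
    intro k hk
    obtain ⟨R, hR⟩ := ((P.isPGroup'.map (MulAut.conj k).toMonoidHom).comap_of_injective M.subtype
      M.subtype_injective).exists_le_sylow
    obtain ⟨m, hm⟩ := MulAction.exists_smul_eq M P₃ R
    refine ⟨m, h.ti _ _ (k * a * k⁻¹) ?_ (conj_mem_smul (hA.le ha)) fun e => ha1 (by simpa using e)⟩
    have h1 : (⟨k * a * k⁻¹, hk (mem_conj_of_mem ha)⟩ : M) ∈ (R : Subgroup M) :=
      hR (mem_conj_of_mem (hA.le ha))
    rw [← hm, smul_coe, mem_conjMap, hmemP₃] at h1
    rw [smul_coe, mem_conjMap]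
    exact h1
  obtain ⟨m₁, hm₁⟩ := hpick g hgM
  obtain ⟨m₂, hm₂⟩ := hpick (t * g) htgM
  have hgP : g • P ≠ P := fun e => hB.not_fixed fun b hb => by
    have := fixV_conj.1 hB.fixed
    have hb' : g⁻¹ * b * g ∈ (P : Subgroup H) := by
      have := hA.le hb
      rw [← e, smul_coe, mem_conjMap] at this
      exact this
    have h1 := h.stab_conj (g := g) hB.orbit (hA.le ha) ha1 (hB.fixed _ (mem_conj_of_mem ha)) hb'
    rwa [show g * (g⁻¹ * b * g) * g⁻¹ = b by group] at h1
  have hnorm : ∀ m : M, m ∈ normalizer (((P₃ : Subgroup M)) : Set M) → (m : H) • P = P := fun m hm =>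
    smul_eq_self.2 (h.ti.normalizes (hA.le ha) ha1
      ((hmemP₃ _).1 (conj_mem_of_normalizer (x := ⟨a, hAM ha⟩) hm ((hmemP₃ _).2 (hA.le ha)))))
  have hm₁N : m₁ ∉ normalizer (((P₃ : Subgroup M)) : Set M) := fun hm => hgP (hm₁ ▸ hnorm _ hm)
  have hm₂N : m₂ ∉ normalizer (((P₃ : Subgroup M)) : Set M) := fun hm => by
    have e : (t * g) • P = P := hm₂ ▸ hnorm _ hm
    rw [mul_smul, smul_eq_iff_eq_inv_smul, smul_eq_self.2 (inv_mem (le_normalizer ht))] at e
    exact hgP e
  have hN₃ : normalizer (((P₃ : Subgroup M)) : Set M) ≠ ⊤ := fun e => hm₁N (e ▸ mem_top _)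
  have hti₃ := h.ti.subgroup M
  have h2 : BenderSE.HasCommutingInvolutions M := by
    classical
    haveI : Fintype A := Fintype.ofFinite A
    obtain ⟨⟨b, hb⟩, -, hb'⟩ := Finset.exists_mem_notMem_of_card_lt_card
      (s := ({1, ⟨a, ha⟩} : Finset A)) (t := Finset.univ) (by
        rw [Finset.card_univ, ← Nat.card_eq_fintype_card]
        exact lt_of_le_of_lt Finset.card_le_two (by omega))
    simp only [Finset.mem_insert, Finset.mem_singleton, not_or] at hb'
    have ho : ∀ {z : H} (hz : z ∈ A), z ≠ 1 → orderOf (⟨z, hAM hz⟩ : M) = 2 := fun {z} hz hz1 =>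
      orderOf_eq_prime (Subtype.ext (by rw [SubgroupClass.coe_pow, pow_two]; exact h.sq_one_of_quad hA hz))
        fun e => hz1 (congrArg Subtype.val e)
    exact ⟨⟨a, hAM ha⟩, ⟨b, hAM hb⟩, ho ha ha1, ho hb (fun e => hb'.1 (Subtype.ext e)),
      fun e => hb'.2 (Subtype.ext (congrArg Subtype.val e).symm),
      Subtype.ext (h.inv_central (hA.le ha) ha2 (hA.le hb))⟩
  have htrans := ti_transitive hti₃ hN₃ h2 ⟨⟨a, hAM ha⟩, (hmemP₃ _).2 (hA.le ha),
    fun e => ha1 (congrArg Subtype.val e)⟩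
  -- the Sylow subgroup of `M` is larger than `A`
  have hbig : ∃ r ∈ (P₃ : Subgroup M), (r : H) ∉ A := by
    obtain ⟨p, hp, he⟩ := htrans m₁ m₂ hm₁N hm₂N
    refine ⟨p, hp, fun hpA => htA ?_⟩
    have e1 := hnorm _ he
    rw [Subgroup.coe_mul, Subgroup.coe_mul, Subgroup.coe_inv, mul_smul, mul_smul, hm₁, inv_smul_eq_iff,
      hm₂, mul_smul t g] at e1
    have hfix : (t⁻¹ * (p : H)) • (g • P) = g • P := by rw [mul_smul, e1, inv_smul_smul]
    have hz : t⁻¹ * (p : H) ∈ (P : Subgroup H) := mul_mem (inv_mem ht) ((hmemP₃ p).1 hp)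
    by_contra htA'
    refine hgP (h.ti (g • P) P (t⁻¹ * p) (mem_sylow_of_normalizes (zpowers_pgroup hz) (smul_eq_self.1 hfix)) hz
      fun e0 => htA' ?_)
    rw [inv_mul_eq_one.1 e0]; exact hpA
  -- every involution of `A` has a root in the Sylow subgroup outside `A`
  have hroot : ∀ j ∈ A, j ≠ 1 → ∃ r ∈ (P₃ : Subgroup M), (r : H) ∉ A ∧ (r : H) * r = j := by
    obtain ⟨r₀, hr₀, hr₀A⟩ := hbig
    obtain ⟨r, hr, hrA, hr4⟩ : ∃ r ∈ (P₃ : Subgroup M), (r : H) ∉ A ∧ (r : H) * r ∈ A := by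
      obtain ⟨k, hk⟩ := IsPGroup.iff_orderOf.1 P₃.isPGroup' ⟨r₀, hr₀⟩
      have hex : ∃ i, ((r₀ : H)) ^ 2 ^ i ∈ A := ⟨k, by
        have := pow_orderOf_eq_one (⟨r₀, hr₀⟩ : (P₃ : Subgroup M))
        rw [hk] at this
        rw [show (r₀ : H) ^ 2 ^ k = 1 from congrArg (fun z : (P₃ : Subgroup M) => ((z : M) : H)) this]
        exact one_mem A⟩
      classical
      have h0 : Nat.find hex ≠ 0 := fun e => hr₀A (by
        have := Nat.find_spec hex
        rwa [e, pow_zero, pow_one] at this)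
      refine ⟨r₀ ^ 2 ^ (Nat.find hex - 1), pow_mem hr₀ _, fun e => Nat.find_min hex (by omega : Nat.find hex - 1 < _)
        (by rwa [SubgroupClass.coe_pow] at e), ?_⟩
      rw [SubgroupClass.coe_pow, ← pow_add, ← two_mul, ← pow_succ', Nat.sub_add_cancel (by omega)]
      exact Nat.find_spec hex
    intro j hj hj1
    have hr1 : (r : H) * r ≠ 1 := fun e => hrA (hJ _ ((hmemP₃ r).1 hr) e)
    obtain ⟨d, hd, e⟩ := hti₃.transitive hN₃ (s := ⟨(r : H) * r, hAM hr4⟩) (t := ⟨j, hAM hj⟩)
      ((hmemP₃ _).2 (hA.le hr4)) (fun e => hr1 (congrArg Subtype.val e))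
      (Subtype.ext (h.sq_one_of_quad hA hr4)) ((hmemP₃ _).2 (hA.le hj)) (fun e => hj1 (congrArg Subtype.val e))
      (Subtype.ext (h.sq_one_of_quad hA hj))
    refine ⟨d * r * d⁻¹, conj_mem_of_normalizer hd hr, fun hmem => hrA (hJ _ ((hmemP₃ r).1 hr) ?_) |>.elim, ?_⟩
    · have h1 := h.sq_one_of_quad hA hmem
      simp only [Subgroup.coe_mul, Subgroup.coe_inv] at h1
      calc (r : H) * r = (d : H)⁻¹ * ((d : H) * r * (d : H)⁻¹ * ((d : H) * r * (d : H)⁻¹)) * d := by group
        _ = 1 := by rw [h1]; group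
    · rw [← show ((d * ⟨(r : H) * r, hAM hr4⟩ * d⁻¹ : M) : H) = j from congrArg Subtype.val e]
      simp only [Subgroup.coe_mul, Subgroup.coe_inv]; group
  -- so the Sylow subgroup of `M` has order at least the square of that of `A`
  have hcard : Nat.card A * Nat.card A ≤ Nat.card (P₃ : Subgroup M) := by
    classical
    set A₃ : Subgroup (P₃ : Subgroup M) := (A.subgroupOf M).subgroupOf P₃
    have hA₃ : Nat.card A₃ = Nat.card A := by
      rw [Nat.card_congr (subgroupOfEquivOfLe (fun z hz => (hmemP₃ z).2 (hA.le hz) :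
        A.subgroupOf M ≤ (P₃ : Subgroup M))).toEquiv, Nat.card_congr (subgroupOfEquivOfLe hAM).toEquiv]
    choose root hroot1 hroot2 hroot3 using hroot
    let f : A → (P₃ : Subgroup M) ⧸ A₃ := fun j =>
      if hj : (j : H) = 1 then QuotientGroup.mk 1 else QuotientGroup.mk ⟨root j j.2 hj, hroot1 j j.2 hj⟩
    have hf : Function.Injective f := by
      rintro ⟨i, hi⟩ ⟨j, hj⟩ e
      refine Subtype.ext ?_
      show i = j
      by_cases hi1 : i = 1 <;> by_cases hj1 : j = 1
      · rw [hi1, hj1]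
      · simp only [f, dif_pos hi1, dif_neg hj1] at e
        have := QuotientGroup.eq.1 e
        rw [inv_one, one_mul] at this
        exact absurd this (hroot2 j hj hj1)
      · simp only [f, dif_neg hi1, dif_pos hj1] at e
        have := QuotientGroup.eq.1 e.symm
        rw [inv_one, one_mul] at this
        exact absurd this (hroot2 i hi hi1)
      · simp only [f, dif_neg hi1, dif_neg hj1] at e
        have hz0 := QuotientGroup.eq.1 e
        have hz : (root i hi hi1 : H)⁻¹ * (root j hj hj1 : H) ∈ A := hz0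
        set ri := (root i hi hi1 : H)
        set z := ri⁻¹ * (root j hj hj1 : H)
        have hzr : z * ri = ri * z := h.inv_central (hA.le hz) (h.sq_one_of_quad hA hz)
          ((hmemP₃ _).1 (hroot1 i hi hi1))
        rw [← hroot3 i hi hi1, ← hroot3 j hj hj1, show (root j hj hj1 : H) = ri * z by
          rw [mul_inv_cancel_left]]
        calc ri * ri = ri * ri * (z * z) := by rw [h.sq_one_of_quad hA hz, mul_one]
          _ = ri * (ri * z) * z := by group
          _ = ri * (z * ri) * z := by rw [hzr]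
          _ = ri * z * (ri * z) := by group
    rw [card_eq_card_quotient_mul_card_subgroup A₃, hA₃]
    exact Nat.mul_le_mul_right _ (Nat.card_le_card_of_injective f hf)
  -- the number of Sylow subgroups of `M`
  set N₃ := normalizer (((P₃ : Subgroup M)) : Set M) with hN₃def
  have hindex : N₃.index = Nat.card (P₃ : Subgroup M) + 1 := by
    let f : Option (P₃ : Subgroup M) → M ⧸ N₃ := fun o =>
      o.elim (QuotientGroup.mk 1) fun p => QuotientGroup.mk ((p : M) * m₁)
    have hout : ∀ p : (P₃ : Subgroup M), (p : M) * m₁ ∉ N₃ := fun p hp =>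
      hm₁N ((mul_mem_cancel_left (le_normalizer p.2)).1 hp)
    have hf : Function.Bijective f := by
      constructor
      · rintro (_ | p) (_ | q) e
        · rfl
        · refine absurd ?_ (hout q)
          simpa using QuotientGroup.eq.1 e
        · refine absurd ?_ (hout p)
          simpa using QuotientGroup.eq.1 e.symm
        · refine congrArg some (Subtype.ext ?_)
          have hq : m₁⁻¹ * ((p : M)⁻¹ * q) * m₁ ∈ N₃ := by
            have := QuotientGroup.eq.1 e
            simpa [mul_assoc] using this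
          have h1 := mem_sylow_of_normalizes (P₃.isPGroup'.to_le le_rfl |> fun _ => ?_) hq
          · by_contra hne
            exact hm₁N (hti₃.normalizes h1 (fun e0 => hne (inv_mul_eq_one.1 (by
              calc (p : M)⁻¹ * q = m₁ * (m₁⁻¹ * ((p : M)⁻¹ * q) * m₁) * m₁⁻¹ := by group
                _ = 1 := by rw [e0]; group))) (by
              rw [show m₁ * (m₁⁻¹ * ((p : M)⁻¹ * q) * m₁) * m₁⁻¹ = (p : M)⁻¹ * q by group]
              exact mul_mem (inv_mem p.2) q.2))
          · refine (zpowers_pgroup (Q := m₁⁻¹ • P₃) ?_)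
            rw [smul_coe, mem_conjMap]
            simpa [mul_assoc] using mul_mem (inv_mem p.2) q.2
      · intro c
        obtain ⟨k, rfl⟩ := QuotientGroup.mk_surjective c
        by_cases hk : k ∈ N₃
        · exact ⟨none, QuotientGroup.eq.2 (by simpa using hk)⟩
        · obtain ⟨p, hp, he⟩ := htrans m₁ k hm₁N hk
          exact ⟨some ⟨p, hp⟩, (QuotientGroup.eq.2 he).symm⟩
    rw [index, ← Nat.card_congr (Equiv.ofBijective f hf), Finite.card_option]
  obtain ⟨r, hr⟩ := IsPGroup.iff_card.1 (P.isPGroup'.to_le hA.le)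
  obtain ⟨s, hs⟩ := IsPGroup.iff_card.1 P₃.isPGroup'
  have hr2 : 2 ≤ r := by
    by_contra hlt
    have : Nat.card A ≤ 2 ^ 1 := hr ▸ Nat.pow_le_pow_right two_pos (by omega)
    omega
  have hs2 : 2 * r ≤ s := by
    rw [hr, hs, ← pow_add, Nat.pow_le_pow_iff_right one_lt_two] at hcard
    omega
  obtain ⟨p, hp, hpd, hpnot⟩ := Cfsg.Lib.Zsigmondy.zsigmondy 2 (2 * s) one_lt_two (by omega) (by omega) (by omega)
  have hpne2 : p ≠ 2 := by
    rintro rfl
    have h1 : Odd (2 ^ (2 * s) - 1) :=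
      Nat.Even.sub_odd (Nat.one_le_two_pow) (Nat.even_pow.2 ⟨even_two, by omega⟩) odd_one
    exact Nat.not_even_iff_odd.2 h1 (even_iff_two_dvd.2 hpd)
  have hpN : p ∣ Nat.card M := by
    refine dvd_trans ?_ N₃.index_dvd_card
    rw [hindex, hs]
    have h1 : p ∣ (2 ^ s + 1) * (2 ^ s - 1) := by
      have := Nat.sq_sub_sq (2 ^ s) 1
      rw [one_pow, ← pow_mul, mul_comm s 2] at this
      rwa [← this]
    exact (hp.dvd_mul.1 h1).resolve_right (hpnot s (by omega) (by omega))
  haveI : Fact p.Prime := ⟨hp⟩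
  obtain ⟨k, hk⟩ := exists_prime_orderOf_dvd_card' p hpN
  -- its action on `V` is too small
  set C := fixV A V ⊓ fixV (conjMap g A) V ⊓ fixV (conjMap (t * g) A) V with hC
  have hle : M ≤ (show Subgroup H from
      { carrier := {z | ∀ v ∈ C, z • v = v}
        one_mem' := fun v _ => one_smul H v
        mul_mem' := fun hy hz v hv => by rw [mul_smul, hz v hv, hy v hv]
        inv_mem' := fun hy v hv => inv_smul_eq_iff.2 (hy v hv).symm }) :=
    sup_le (sup_le (fun z hz v hv => hv.1.1 z hz) fun z hz v hv => hv.1.2 z hz) fun z hz v hv => hv.2 z hz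
  have hkp : IsPGroup p (zpowers (k : H)) := IsPGroup.of_card (n := 1) (by
    rw [Nat.card_zpowers, Subgroup.orderOf_coe, hk, pow_one])
  set F := fix1 V (k : H)
  have hfixed : MulAction.fixedPoints (zpowers (k : H)) V = (F : Set V) := by
    ext v
    refine ⟨fun hv => hv ⟨_, mem_zpowers _⟩, fun hv z => ?_⟩
    have h1 : zpowers (k : H) ≤ MulAction.stabilizer H v := zpowers_le.2 hv
    exact h1 z.2
  have hmod := hkp.card_modEq_card_fixedPoints V
  rw [hfixed, SetLike.coe_sort_coe] at hmod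
  have hVp : IsPGroup 2 V := fun v => ⟨1, by rw [pow_one, pow_two, h.exp]⟩
  obtain ⟨nV, hnV⟩ := IsPGroup.iff_card.1 hVp
  obtain ⟨nF, hnF⟩ := IsPGroup.iff_card.1 (hVp.to_subgroup F)
  have hnlt : nF < nV := by
    have hlt : Nat.card F < Nat.card V := by
      rw [← card_top (G := V)]
      refine lt_of_le_of_ne (Subgroup.card_le_of_le le_top) fun e => ?_
      have hF : F = ⊤ := eq_top_of_card_eq _ (by rw [e, card_top])
      have hk1 : (k : H) = 1 := h.faithful _ fun v => (hF ▸ mem_top v : v ∈ F)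
      exact hp.ne_one (by rw [← hk, ← Subgroup.orderOf_coe, hk1, orderOf_one])
    rw [hnV, hnF] at hlt
    exact (Nat.pow_lt_pow_iff_right one_lt_two).1 hlt
  have hnle : nV ≤ nF + 3 * r := by
    have hCF : C ≤ F := fun v hv => hle k.2 v hv
    have h1 := Cfsg.Lib.Coprime.card_sup_mul_card_inf (N := fixV A V ⊓ fixV (conjMap g A) V)
      (H := fixV (conjMap (t * g) A) V) (fun v _ => le_normalizer_of_normal (mem_top v))
    rw [← hC, card_fixV_conj] at h1
    have h2 : Nat.card ↥(fixV A V ⊓ fixV (conjMap g A) V ⊔ fixV (conjMap (t * g) A) V) ≤ Nat.card V :=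
      Nat.card_le_card_of_injective _ Subtype.val_injective
    have h3 : Nat.card C ≤ Nat.card F := Subgroup.card_le_of_le hCF
    obtain ⟨hV, htop⟩ := h.quad_card_eq hA
    have h4 := h.card_prod hA (g := g)
    rw [htop g x hB, card_top] at h4
    set cC := Nat.card ↥(fixV A V ⊓ fixV (conjMap g A) V)
    set cA := Nat.card A
    set cF := Nat.card (fixV A V)
    have hcF : 0 < cF := Nat.card_pos
    have h5 : cF = cA * cC := Nat.eq_of_mul_eq_mul_left hcF (by rw [h4, hV]; ring)
    have h6 : cC * cF ≤ Nat.card V * Nat.card F :=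
      h1.symm.trans_le (Nat.mul_le_mul h2 h3)
    have h7 : cA * cA * cC ≤ cA * cA * cA * Nat.card F := by
      rw [hV, h5] at h6
      have h6' : cA * cC * cC ≤ cA * cC * (cA * Nat.card F) := by linarith
      have h8 : cC ≤ cA * Nat.card F :=
        Nat.le_of_mul_le_mul_left h6' (Nat.mul_pos Nat.card_pos Nat.card_pos)
      calc cA * cA * cC ≤ cA * cA * (cA * Nat.card F) := Nat.mul_le_mul_left _ h8
        _ = _ := by ring
    have h9 : Nat.card V = cA * cA * cC := by rw [hV, h5]; ring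
    rw [← h9, hnV, hnF, show cA = 2 ^ r from hr, ← pow_add, ← pow_add, ← pow_add,
      Nat.pow_le_pow_iff_right one_lt_two] at h7
    omega
  refine hpnot (nV - nF) (by omega) (by omega) ?_
  rw [hnV, hnF] at hmod
  have hd : p ∣ 2 ^ nV - 2 ^ nF := (Nat.modEq_iff_dvd' (Nat.pow_le_pow_right two_pos hnlt.le)).1 hmod.symm
  have : 2 ^ nV - 2 ^ nF = 2 ^ nF * (2 ^ (nV - nF) - 1) := by
    rw [Nat.mul_sub, mul_one, ← pow_add, Nat.add_sub_cancel' hnlt.le]
  rw [this] at hd
  exact (hp.dvd_mul.1 hd).resolve_left fun h2 => hpne2 ((Nat.prime_dvd_prime_iff_eq hp Nat.prime_two).1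
    (hp.dvd_of_dvd_pow h2))

/-- a quadratic subgroup holding all involutions is the whole Sylow subgroup -/
theorem sylow_eq : (P : Subgroup H) = A := by
  rcases le_or_gt 4 (Nat.card A) with h4 | h4
  · exact h.sylow_eq_of_four hA hJ h4
  · haveI : Fact (Nat.Prime 2) := ⟨Nat.prime_two⟩
    obtain ⟨r, hr⟩ := IsPGroup.iff_card.1 (P.isPGroup'.to_le hA.le)
    have hr1 : r ≠ 0 := by
      rintro rfl
      rw [pow_zero, Subgroup.card_eq_one] at hr
      exact hA.ne hr
    have hr2 : r < 2 := (Nat.pow_lt_pow_iff_right one_lt_two).1 (hr ▸ h4 : 2 ^ r < 2 ^ 2)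
    exact h.sylow_eq_of_two hA hJ (by rw [hr, show r = 1 by omega, pow_one])

end Act

end Cfsg.Lib.AbelianMeet
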