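import Cfsg.Agent.AbelianMeet.Inessential
import Cfsg.Agent.AbelianMeet.Triple

/-!
The action of the normaliser of a member on its involutions satisfies the abstract hypotheses.
-/

set_option autoImplicit false
set_option linter.unusedSectionVars false
set_option linter.style.haveILetI false

namespace Cfsg.Lib.AbelianMeet

open Subgroup
open scoped IsMulCommutative
open Cfsg.Lib.Coprime (conjMap mem_conjMap conjMap_eq_self conjMap_eq_self_iff)

variable {G : Type*} [Group G] [Finite G] {S : Sylow 2 G} {D : Subgroup G}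

/-- conjugation of `N(D)` on the involutions of `D` -/
def actHom (D : Subgroup G) : normalizer (D : Set G) →* MulAut ↥(omG D) :=
  (normalizerMonoidHom (omG D)).comp (Subgroup.inclusion (normalizer_le_omG D))

/-- the group it induces -/
abbrev HD (D : Subgroup G) : Subgroup (MulAut ↥(omG D)) := (actHom D).range

/-- the image in the induced group -/
def toH (D : Subgroup G) : normalizer (D : Set G) →* HD D := (actHom D).rangeRestrict

theorem toH_surjective (D : Subgroup G) : Function.Surjective (toH D) := (actHom D).rangeRestrict_surjective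

theorem coe_smul (g : normalizer (D : Set G)) (v : omG D) :
    ((toH D g • v : omG D) : G) = (g : G) * v * (g : G)⁻¹ := rfl

theorem toH_eq_one {g : normalizer (D : Set G)} :
    toH D g = 1 ↔ ∀ v ∈ omG D, (g : G) * v = v * g := by
  constructor
  · intro h v hv
    have e := coe_smul g ⟨v, hv⟩
    rw [h, one_smul] at e
    calc (g : G) * v = (g : G) * v * (g : G)⁻¹ * g := by group
      _ = v * g := by rw [← e]
  · intro h
    refine Subtype.ext (MulEquiv.ext fun v => Subtype.ext ?_)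
    show ((toH D g • v : omG D) : G) = v
    rw [coe_smul, h v v.2, mul_inv_cancel_right]

namespace Hyp

variable (h : Hyp G S)

include h

/-- two Sylow subgroups with elements congruent modulo a normalised subgroup are conjugate by it -/
theorem match_sylow {K U : Subgroup G} {t t' g : G} (ht : t ∈ (S : Subgroup G))
    (htK : t ∈ normalizer (K : Set G)) (ht' : g⁻¹ * t' * g ∈ (S : Subgroup G)) (hdiff : t⁻¹ * t' ∈ K)
    (hUK : U ≤ K) (hUS : U ≤ (S : Subgroup G)) (hUg : U ≤ ((g • S : Sylow 2 G) : Subgroup G))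
    (hnt : ∃ u ∈ U, t * u ≠ u * t) (hnt' : ∃ u ∈ U, t' * u ≠ u * t') :
    ∃ k ∈ K, g • S = k • S := by
  haveI : Fact (Nat.Prime 2) := ⟨Nat.prime_two⟩
  have hnorm : zpowers t ≤ normalizer (K : Set G) := zpowers_le.2 htK
  set L := K ⊔ zpowers t
  have hUL : U ≤ L := hUK.trans le_sup_left
  have ht'L : t' ∈ L := by
    rw [← mul_inv_cancel_left t t']
    exact mul_mem (mem_sup_right (mem_zpowers t)) (mem_sup_left hdiff)
  obtain ⟨PL, hPL⟩ := (S.isPGroup'.comap_of_injective L.subtype L.subtype_injective).exists_le_sylow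
  have hPLS : (PL : Subgroup L).map L.subtype ≤ (S : Subgroup G) := by
    obtain ⟨u, hu, hne⟩ := hnt
    refine h.le_of_pgroup (U := (S : Subgroup G) ⊓ L)
      (fun hab => hne (hab t ⟨ht, mem_sup_right (mem_zpowers t)⟩ u ⟨hUS hu, hUL hu⟩))
      inf_le_left (PL.isPGroup'.map _) fun x hx => ⟨⟨x, hx.2⟩, hPL hx.1, rfl⟩
  obtain ⟨PL', hPL'⟩ :=
    ((g • S : Sylow 2 G).isPGroup'.comap_of_injective L.subtype L.subtype_injective).exists_le_sylow
  obtain ⟨l, hl⟩ := MulAction.exists_smul_eq L PL PL'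
  obtain ⟨c, hc, w, hw, hcw⟩ := (Cfsg.Lib.Coprime.mem_sup_of_le_normalizer hnorm).1 l.2
  set X := ((g • S : Sylow 2 G) : Subgroup G) ⊓ L
  have hX : X ≤ ((c • S : Sylow 2 G) : Subgroup G) := by
    intro x hx
    have h1 : (⟨x, hx.2⟩ : L) ∈ ((l • PL : Sylow 2 L) : Subgroup L) := hl.symm ▸ hPL' hx.1
    rw [smul_coe, mem_conjMap] at h1
    have h2 : (l : G)⁻¹ * x * (l : G) ∈ (S : Subgroup G) := hPLS ⟨_, h1, rfl⟩
    rw [smul_coe, mem_conjMap]
    have hwS : w ∈ (S : Subgroup G) := zpowers_le.2 ht hw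
    have := mul_mem (mul_mem hwS h2) (inv_mem hwS)
    convert this using 1
    rw [← hcw]; group
  refine ⟨c, hc, h.eq_of_le (U := X) (fun hab => ?_) inf_le_left hX⟩
  obtain ⟨u, hu, hne⟩ := hnt'
  refine hne (hab t' ⟨?_, ht'L⟩ u ⟨hUg hu, hUL hu⟩)
  show t' ∈ conjMap g (S : Subgroup G)
  rw [mem_conjMap]; exact ht'

theorem v_spec (hD : Mem S D) : ∃ v, Sig S v ∧ v ∉ centralizer ((S : Subgroup G) : Set G) ∧
    D = (S : Subgroup G) ⊓ centralizer {v} ∧ v ∈ omG D := by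
  obtain ⟨v, hv, hvc, rfl⟩ := hD
  exact ⟨v, hv, hvc, rfl, mem_omG_of ⟨hv.1, mem_cent_iff.2 rfl⟩ hv.sq⟩

/-- an element of `S` centralising the involutions of a member lies in it -/
theorem mem_of_trivial (hD : Mem S D) {t : G} (ht : t ∈ (S : Subgroup G)) (htc : ∀ v ∈ omG D, t * v = v * t) :
    t ∈ D := by
  obtain ⟨v, -, -, hDv, hvD⟩ := h.v_spec hD
  rw [hDv]
  exact ⟨ht, mem_cent_iff.2 (htc v hvD)⟩

theorem mem_of_toH (hD : Mem S D) {t : normalizer (D : Set G)} (ht : (t : G) ∈ (S : Subgroup G))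
    (h1 : toH D t = 1) : (t : G) ∈ D := h.mem_of_trivial hD ht (toH_eq_one.1 h1)

/-- conjugates by `N(D)` of elements of `N_S(D)` outside `D` with equal action -/
theorem conj_eq_of_toH (hD : Mem S D) {t s g : normalizer (D : Set G)} (ht : (t : G) ∈ (S : Subgroup G))
    (htD : (t : G) ∉ D) (hs : (s : G) ∈ (S : Subgroup G)) (he : toH D (g * s * g⁻¹) = toH D t) :
    ∃ k : normalizer (D : Set G), toH D k = 1 ∧ (k⁻¹ * g : normalizer (D : Set G)).1 ∈
      normalizer ((S : Subgroup G) : Set G) := by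
  set K := (toH D).ker.map (normalizer (D : Set G)).subtype
  have hKmem : ∀ {x : G}, x ∈ K ↔ ∃ hx : x ∈ normalizer (D : Set G), toH D ⟨x, hx⟩ = 1 :=
    fun {x} => ⟨fun ⟨y, hy, e⟩ => e ▸ ⟨y.2, hy⟩, fun ⟨hx, e⟩ => ⟨⟨x, hx⟩, e, rfl⟩⟩
  have hDK : D ≤ K := fun x hx => hKmem.2 ⟨le_normalizer hx, toH_eq_one.2 fun v hv =>
    (h.self_mem hD).ab x hx v (omG_le D hv)⟩
  have htK : (t : G) ∈ normalizer (K : Set G) := mem_normalizer_of_conj_le fun x hx => by
    obtain ⟨hx', e⟩ := hKmem.1 hx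
    exact hKmem.2 ⟨(t * ⟨x, hx'⟩ * t⁻¹).2, show toH D (t * ⟨x, hx'⟩ * t⁻¹) = 1 by
      rw [map_mul, map_mul, e, mul_one, map_inv, mul_inv_cancel]⟩
  have hnt : ∀ {r : normalizer (D : Set G)}, toH D r ≠ 1 → ∃ u ∈ D, (r : G) * u ≠ u * r := fun {r} hr => by
    by_contra hno
    push Not at hno
    exact hr (toH_eq_one.2 fun v hv => hno v (omG_le D hv))
  have ht1 : toH D t ≠ 1 := fun e => htD (h.mem_of_toH hD ht e)
  obtain ⟨k, hk, e⟩ := h.match_sylow (K := K) (U := D) (t' := ((g * s * g⁻¹ : normalizer (D : Set G)) : G))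
    (g := (g : G)) ht htK (by simpa [mul_assoc] using hs)
    (hKmem.2 ⟨(t⁻¹ * (g * s * g⁻¹)).2, show toH D (t⁻¹ * (g * s * g⁻¹)) = 1 by
      rw [map_mul, he, map_inv, inv_mul_cancel]⟩)
    hDK (h.self_mem hD).le (fun x hx => by
      rw [smul_coe, mem_conjMap]
      exact (h.self_mem hD).le (conj_mem_of_normalizer' g.2 hx))
    (hnt ht1) (hnt (he ▸ ht1))
  obtain ⟨hkN, hk1⟩ := hKmem.1 hk
  refine ⟨⟨k, hkN⟩, hk1, smul_eq_self.1 ?_⟩
  show (k⁻¹ * (g : G)) • S = S
  rw [mul_smul, e, inv_smul_smul]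

/-- the hypotheses of the abstract theory -/
theorem exists_act (hD : Mem S D) [IsMulCommutative ↥(omG D)] :
    ∃ P : Sylow 2 (HD D), Act P {x : omG D | Sig S (x : G)} ∧
      ∀ q, q ∈ (P : Subgroup (HD D)) ↔ ∃ t : normalizer (D : Set G), (t : G) ∈ (S : Subgroup G) ∧ toH D t = q := by
  haveI : Fact (Nat.Prime 2) := ⟨Nat.prime_two⟩
  have hself := h.self_mem hD
  obtain ⟨P₀, hP₀⟩ := (S.isPGroup'.comap_of_injective (normalizer (D : Set G)).subtype
    (Subgroup.subtype_injective _)).exists_le_sylow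
  have hP₀eq : ∀ t : normalizer (D : Set G), t ∈ (P₀ : Subgroup (normalizer (D : Set G))) ↔
      (t : G) ∈ (S : Subgroup G) := fun t =>
    ⟨fun ht => hself.pgroup_le h (P₀.isPGroup'.map (normalizer (D : Set G)).subtype)
      (fun x hx => ⟨⟨x, hx.2⟩, hP₀ hx.1, rfl⟩) ⟨t, ht, rfl⟩, fun ht => hP₀ ht⟩
  set P := P₀.mapSurjective (toH_surjective D)
  have hP : ∀ q, q ∈ (P : Subgroup (HD D)) ↔
      ∃ t : normalizer (D : Set G), (t : G) ∈ (S : Subgroup G) ∧ toH D t = q := fun q => by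
    rw [Sylow.coe_mapSurjective, Subgroup.mem_map]
    exact exists_congr fun t => and_congr_left fun _ => hP₀eq t
  refine ⟨P, ⟨?_, fun v => Subtype.ext (sq_of_mem_omG hself.ab v.2), fun g hg => ?_, ?_, ?_, ?_⟩, hP⟩
  · intro Q₁ Q₂ a ha₁ ha₂ ha1
    obtain ⟨q₁, rfl⟩ := MulAction.exists_smul_eq (HD D) P Q₁
    obtain ⟨q₂, rfl⟩ := MulAction.exists_smul_eq (HD D) P Q₂
    obtain ⟨g₁, rfl⟩ := toH_surjective D q₁
    obtain ⟨g₂, rfl⟩ := toH_surjective D q₂
    rw [smul_coe, mem_conjMap] at ha₁ ha₂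
    obtain ⟨t, ht, e₁⟩ := (hP _).1 ha₁
    obtain ⟨s, hs, e₂⟩ := (hP _).1 ha₂
    have htD : (t : G) ∉ D := fun hc => ha1 (by
      have : toH D t = 1 := toH_eq_one.2 fun v hv => hself.ab _ hc v (omG_le D hv)
      rw [this] at e₁
      calc a = toH D g₁ * ((toH D g₁)⁻¹ * a * toH D g₁) * (toH D g₁)⁻¹ := by group
        _ = 1 := by rw [← e₁]; group)
    obtain ⟨k, hk, hn⟩ := h.conj_eq_of_toH hD (g := g₁⁻¹ * g₂) ht htD hs (by
      rw [map_mul, map_mul, map_inv, map_mul, map_inv, e₁, e₂]; group)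
    have hnP : toH D (g₁⁻¹ * g₂) ∈ normalizer ((P : Subgroup (HD D)) : Set (HD D)) := by
      have : toH D (g₁⁻¹ * g₂) = toH D (k⁻¹ * (g₁⁻¹ * g₂)) := by
        rw [map_mul (toH D) k⁻¹, map_inv, hk, inv_one, one_mul]
      rw [this]
      refine mem_normalizer_of_conj_le fun q hq => ?_
      obtain ⟨r, hr, rfl⟩ := (hP q).1 hq
      refine (hP _).2 ⟨k⁻¹ * (g₁⁻¹ * g₂) * r * (k⁻¹ * (g₁⁻¹ * g₂))⁻¹, ?_, ?_⟩
      · exact conj_mem_of_normalizer hn hr
      · simp only [map_mul, map_inv]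
    calc toH D g₁ • P = toH D g₁ • (toH D (g₁⁻¹ * g₂) • P) := by rw [smul_eq_self.2 hnP]
      _ = toH D g₂ • P := by rw [← mul_smul, map_mul, map_inv, mul_inv_cancel_left]
  · exact Subtype.ext (MulEquiv.ext hg)
  · intro g x hx
    obtain ⟨g', rfl⟩ := toH_surjective D g
    exact Sig.conj (v := (x : G)) (g := (g' : G)) hx
      (hself.le (omG_le D (toH D g' • x).2))
  · intro x hx a ha ha1 hax b hb
    obtain ⟨t, ht, rfl⟩ := (hP a).1 ha
    obtain ⟨s, hs, rfl⟩ := (hP b).1 hb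
    have hxc : (x : G) ∈ centralizer ((S : Subgroup G) : Set G) := by
      by_contra hxc
      have hab := h.ab_mem (h.mem_of_sig hx hxc)
      have htx : (t : G) * x = x * t := by
        have := congrArg Subtype.val hax
        rw [coe_smul] at this
        calc (t : G) * x = (t : G) * x * (t : G)⁻¹ * t := by group
          _ = x * t := by rw [this]
      refine ha1 (toH_eq_one.2 fun v hv => ?_)
      exact hab _ ⟨ht, mem_cent_iff.2 htx⟩ v
        ⟨hself.le (omG_le D hv), mem_cent_iff.2 (hself.ab v (omG_le D hv) x (omG_le D x.2))⟩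
    refine Subtype.ext ?_
    rw [coe_smul, mem_centralizer_iff.1 hxc _ hs, mul_inv_cancel_right]
  · obtain ⟨v, hv, hvc, hDv, hvD⟩ := h.v_spec hD
    obtain ⟨-, z, g₀, hz, hvz⟩ := hv
    set C := centralizer ({v} : Set G)
    have hg₀C : ((g₀ • S : Sylow 2 G) : Subgroup G) ≤ C := fun y hy => by
      rw [smul_coe, mem_conjMap] at hy
      refine mem_cent_iff.2 ?_
      have h1 := mem_centralizer_iff.1 hz.2.1 _ hy
      rw [← hvz]
      calc y * (g₀ * z * g₀⁻¹) = g₀ * (g₀⁻¹ * y * g₀ * z) * g₀⁻¹ := by group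
        _ = g₀ * (z * (g₀⁻¹ * y * g₀)) * g₀⁻¹ := by rw [h1]
        _ = _ := by group
    have hDC : D ≤ C := hDv ▸ inf_le_right
    obtain ⟨R, hR⟩ := ((S.isPGroup'.to_le hself.le).comap_of_injective C.subtype C.subtype_injective).exists_le_sylow
    obtain ⟨c, hc⟩ := MulAction.exists_smul_eq C ((g₀ • S : Sylow 2 G).subtype hg₀C) R
    set k := (c : G) * g₀
    have hDk : D ≤ ((k • S : Sylow 2 G) : Subgroup G) := fun x hx => by
      have h1 : (⟨x, hDC hx⟩ : C) ∈ (R : Subgroup C) := hR hx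
      rw [← hc, smul_coe, mem_conjMap, Sylow.coe_subtype, mem_subgroupOf, smul_coe, mem_conjMap] at h1
      rw [smul_coe, mem_conjMap]
      simpa [k, mul_assoc] using h1
    obtain ⟨y, hy, hyD⟩ : ∃ y ∈ ((k • S : Sylow 2 G) : Subgroup G), y ∉ D := by
      by_contra hno
      push Not at hno
      refine h.not_ab fun a ha b hb => ?_
      have hcomm := hself.ab _ (hno _ (conj_mem_smul (g := k) ha)) _ (hno _ (conj_mem_smul (g := k) hb))
      calc a * b = k⁻¹ * (k * a * k⁻¹ * (k * b * k⁻¹)) * k := by group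
        _ = k⁻¹ * (k * b * k⁻¹ * (k * a * k⁻¹)) * k := by rw [hcomm]
        _ = _ := by group
    obtain ⟨e, he, heD, heN⟩ := exists_norm_not_mem (k • S : Sylow 2 G).isPGroup' le_rfl hDk hy hyD
    have hev : e * v = v * e := by
      rw [smul_coe, mem_conjMap] at he
      refine mem_cent_iff.1 ?_
      have h1 := mem_cent_iff.1 (hg₀C (conj_mem_smul (g := g₀) he))
      rw [show e = (c : G) * (g₀ * (k⁻¹ * e * k) * g₀⁻¹) * (c : G)⁻¹ by simp [k, mul_assoc]]
      exact mul_mem (mul_mem c.2 (mem_cent_iff.2 h1)) (inv_mem c.2)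
    obtain ⟨R₀, hR₀⟩ := (((k • S : Sylow 2 G).isPGroup'.to_le
      (sup_le hDk (zpowers_le.2 he))).comap_of_injective (normalizer (D : Set G)).subtype
        (Subgroup.subtype_injective _)).exists_le_sylow
    obtain ⟨g, hg⟩ := MulAction.exists_smul_eq (normalizer (D : Set G)) P₀ R₀
    have heR : (⟨e, heN⟩ : normalizer (D : Set G)) ∈ (R₀ : Subgroup (normalizer (D : Set G))) :=
      hR₀ (mem_sup_right (mem_zpowers e))
    rw [← hg, smul_coe, mem_conjMap, hP₀eq] at heR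
    set r : normalizer (D : Set G) := g⁻¹ * ⟨e, heN⟩ * g with hr
    have hr1 : toH D r ≠ 1 := fun e1 => heD (by
      have := conj_mem_of_normalizer g.2 (h.mem_of_toH hD heR e1)
      simpa [hr, mul_assoc] using this)
    have hfixv : ∀ b ∈ (P : Subgroup (HD D)), b • ((toH D g)⁻¹ • (⟨v, hvD⟩ : omG D)) = (toH D g)⁻¹ • ⟨v, hvD⟩ := by
      intro b hb
      obtain ⟨s, hs, rfl⟩ := (hP b).1 hb
      have hv' : (((toH D g)⁻¹ • (⟨v, hvD⟩ : omG D) : omG D) : G) = (g : G)⁻¹ * v * g := by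
        rw [← map_inv, coe_smul]; simp
      have hsig : Sig S ((g : G)⁻¹ * v * g) := by
        have hmem : (g : G)⁻¹ * v * g ∈ (S : Subgroup G) := hv' ▸ hself.le (omG_le D (Subtype.prop _))
        refine ⟨hmem, z, (g : G)⁻¹ * g₀, hz, ?_⟩
        rw [← hvz]; group
      have hrv : (r : G) * ((g : G)⁻¹ * v * g) = (g : G)⁻¹ * v * g * r := by
        simp only [hr, Subgroup.coe_mul, Subgroup.coe_inv]
        calc (g : G)⁻¹ * e * g * ((g : G)⁻¹ * v * g) = (g : G)⁻¹ * (e * v) * g := by group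
          _ = (g : G)⁻¹ * (v * e) * g := by rw [hev]
          _ = _ := by group
      have hc : (g : G)⁻¹ * v * g ∈ centralizer ((S : Subgroup G) : Set G) := by
        by_contra hvc'
        have hab := h.ab_mem (h.mem_of_sig hsig hvc')
        refine hr1 (toH_eq_one.2 fun u hu => ?_)
        exact hab _ ⟨heR, mem_cent_iff.2 hrv⟩ u
          ⟨hself.le (omG_le D hu), mem_cent_iff.2 (hself.ab u (omG_le D hu) _ (by
            have := omG_le D (Subtype.prop ((toH D g)⁻¹ • (⟨v, hvD⟩ : omG D)))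
            rwa [hv'] at this))⟩
      refine Subtype.ext ?_
      rw [coe_smul, hv', mem_centralizer_iff.1 hc _ hs, mul_inv_cancel_right]
    refine ⟨⟨v, hvD⟩, ⟨hself.le (omG_le D hvD), z, g₀, hz, hvz⟩, toH D g, fun b hb => ?_, ?_⟩
    · have := hfixv b hb
      rw [mul_smul, mul_smul, this, smul_inv_smul]
    · obtain ⟨t, htS, htD, htN⟩ := hself.exists_out h
      refine ⟨toH D ⟨t, htN⟩, (hP _).2 ⟨_, htS, rfl⟩, fun e1 => htD ?_⟩
      rw [hDv]
      refine ⟨htS, mem_cent_iff.2 ?_⟩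
      have := congrArg Subtype.val e1
      rw [coe_smul] at this
      calc t * v = t * v * t⁻¹ * t := by group
        _ = v * t := by rw [this]

/-- elements of `N_S(D)` with square in `D` are central modulo `D` -/
theorem comm_mem (hD : Mem S D) {b t : G} (hb : b ∈ (S : Subgroup G)) (hbN : b ∈ normalizer (D : Set G))
    (hb2 : b * b ∈ D) (ht : t ∈ (S : Subgroup G)) (htN : t ∈ normalizer (D : Set G)) :
    b * t * b⁻¹ * t⁻¹ ∈ D := by
  haveI : IsMulCommutative ↥(omG D) := ⟨⟨fun x y => Subtype.ext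
    ((h.self_mem hD).ab x (omG_le D x.2) y (omG_le D y.2))⟩⟩
  obtain ⟨P, hact, hP⟩ := h.exists_act hD
  have hb' : toH D (⟨b, hbN⟩ * ⟨b, hbN⟩) = 1 :=
    toH_eq_one.2 fun v hv => (h.self_mem hD).ab _ hb2 v (omG_le D hv)
  have hc := hact.inv_central (s := toH D ⟨b, hbN⟩) ((hP _).2 ⟨_, hb, rfl⟩) (by rw [← map_mul]; exact hb')
    ((hP _).2 ⟨⟨t, htN⟩, ht, rfl⟩)
  exact h.mem_of_toH hD (t := ⟨b, hbN⟩ * ⟨t, htN⟩ * ⟨b, hbN⟩⁻¹ * ⟨t, htN⟩⁻¹)
    (mul_mem (mul_mem (mul_mem hb ht) (inv_mem hb)) (inv_mem ht))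
    (by rw [map_mul, map_mul, map_mul, map_inv, map_inv, hc, mul_inv_cancel_right, mul_inv_cancel])

end Hyp

end Cfsg.Lib.AbelianMeet
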