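import Cfsg.Agent.AbelianMeet.NoClosed

/-!
The abelian centralisers of the fused conjugates of central involutions, and the normalisers of self-centralising
abelian subgroups.
-/

set_option autoImplicit false
set_option linter.unusedSectionVars false
set_option linter.style.haveILetI false

namespace Cfsg.Lib.AbelianMeet

open Subgroup
open Cfsg.Lib.Coprime (conjMap mem_conjMap conjMap_eq_self conjMap_eq_self_iff)

variable {G : Type*} [Group G] [Finite G]

/-- the subgroup generated by the involutions of a subgroup -/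
def omG (U : Subgroup G) : Subgroup G := closure {x | x ∈ U ∧ x * x = 1}

theorem omG_le (U : Subgroup G) : omG U ≤ U := (closure_le U).2 fun _ h => h.1

theorem mem_omG_of {U : Subgroup G} {x : G} (hx : x ∈ U) (h2 : x * x = 1) : x ∈ omG U := subset_closure ⟨hx, h2⟩

theorem sq_of_mem_omG {U : Subgroup G} (hab : Ab U) {x : G} (hx : x ∈ omG U) : x * x = 1 := by
  have key : x ∈ U ∧ x * x = 1 := by
    refine closure_induction (fun y hy => hy) ⟨one_mem _, one_mul _⟩ (fun a b _ _ ha hb => ⟨mul_mem ha.1 hb.1, ?_⟩)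
      (fun a _ ha => ⟨inv_mem ha.1, by rw [← mul_inv_rev, ha.2, inv_one]⟩) hx
    calc a * b * (a * b) = a * (b * a) * b := by group
      _ = a * (a * b) * b := by rw [hab b hb.1 a ha.1]
      _ = (a * a) * (b * b) := by group
      _ = 1 := by rw [ha.2, hb.2, one_mul]
  exact key.2

theorem omG_conj {U : Subgroup G} {g x : G} (hg : ∀ y ∈ U, g * y * g⁻¹ ∈ U) (hx : x ∈ omG U) :
    g * x * g⁻¹ ∈ omG U := by
  refine closure_induction (fun y hy => mem_omG_of (hg y hy.1) ?_) ?_ (fun a b _ _ ha hb => ?_) (fun a _ ha => ?_) hx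
  · rw [show g * y * g⁻¹ * (g * y * g⁻¹) = g * (y * y) * g⁻¹ by group, hy.2]; group
  · simp
  · rw [show g * (a * b) * g⁻¹ = g * a * g⁻¹ * (g * b * g⁻¹) by group]; exact mul_mem ha hb
  · rw [show g * a⁻¹ * g⁻¹ = (g * a * g⁻¹)⁻¹ by group]; exact inv_mem ha

theorem normalizer_le_omG (U : Subgroup G) : normalizer (U : Set G) ≤ normalizer (omG U : Set G) :=
  fun _ hg => mem_normalizer_of_conj_le fun _ hx => omG_conj (fun _ hy => conj_mem_of_normalizer hg hy) hx

variable {S : Sylow 2 G}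

/-- an involution of the centre of `S`, or the identity -/
def Zc (S : Sylow 2 G) (x : G) : Prop :=
  x ∈ (S : Subgroup G) ∧ x ∈ centralizer ((S : Subgroup G) : Set G) ∧ x * x = 1

/-- an element of `S` conjugate to an element of `Zc` -/
def Sig (S : Sylow 2 G) (v : G) : Prop := v ∈ (S : Subgroup G) ∧ ∃ z g, Zc S z ∧ g * z * g⁻¹ = v

/-- the centraliser in `S` of a fused noncentral conjugate of a central involution -/
def Mem (S : Sylow 2 G) (D : Subgroup G) : Prop :=
  ∃ v, Sig S v ∧ v ∉ centralizer ((S : Subgroup G) : Set G) ∧ D = (S : Subgroup G) ⊓ centralizer {v}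

theorem Zc.sig {z : G} (hz : Zc S z) : Sig S z := ⟨hz.1, z, 1, hz, by group⟩

theorem Sig.sq {v : G} (hv : Sig S v) : v * v = 1 := by
  obtain ⟨-, z, g, hz, rfl⟩ := hv
  rw [show g * z * g⁻¹ * (g * z * g⁻¹) = g * (z * z) * g⁻¹ by group, hz.2.2]; group

theorem Sig.conj {v g : G} (hv : Sig S v) (hg : g * v * g⁻¹ ∈ (S : Subgroup G)) : Sig S (g * v * g⁻¹) := by
  obtain ⟨-, z, k, hz, rfl⟩ := hv
  exact ⟨hg, z, g * k, hz, by group⟩

theorem Zc.conj_normalizer {z n : G} (hz : Zc S z) (hn : n ∈ normalizer ((S : Subgroup G) : Set G)) :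
    Zc S (n * z * n⁻¹) := by
  refine ⟨conj_mem_of_normalizer hn hz.1, mem_centralizer_iff.2 fun s hs => ?_, ?_⟩
  · have h1 := mem_centralizer_iff.1 hz.2.1 _ (conj_mem_of_normalizer' hn hs)
    calc s * (n * z * n⁻¹) = n * (n⁻¹ * s * n * z) * n⁻¹ := by group
      _ = n * (z * (n⁻¹ * s * n)) * n⁻¹ := by rw [h1]
      _ = _ := by group
  · rw [show n * z * n⁻¹ * (n * z * n⁻¹) = n * (z * z) * n⁻¹ by group, hz.2.2]; group

namespace Hyp

variable (h : Hyp G S)

include h

theorem exists_Zc : ∃ z, Zc S z ∧ z ≠ 1 := by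
  haveI : Fact (Nat.Prime 2) := ⟨Nat.prime_two⟩
  haveI : Nontrivial (S : Subgroup G) := (Subgroup.nontrivial_iff_ne_bot _).2 fun e =>
    h.not_ab fun x hx y hy => by rw [e, mem_bot] at hx; simp [hx]
  haveI := IsPGroup.center_nontrivial S.isPGroup'
  obtain ⟨k, hk⟩ := IsPGroup.iff_card.1 (S.isPGroup'.to_subgroup (center (S : Subgroup G)))
  have hk0 : k ≠ 0 := by
    rintro rfl
    rw [pow_zero] at hk
    exact absurd hk (Finite.one_lt_card (α := center (S : Subgroup G))).ne'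
  obtain ⟨⟨c, hc⟩, hco⟩ := exists_prime_orderOf_dvd_card' (G := center (S : Subgroup G)) 2 (hk ▸ dvd_pow_self 2 hk0)
  rw [Subgroup.orderOf_mk, ← Subgroup.orderOf_coe] at hco
  refine ⟨c, ⟨c.2, mem_centralizer_iff.2 fun s hs => congrArg Subtype.val (mem_center_iff.1 hc ⟨s, hs⟩), ?_⟩,
    fun e => by rw [e, orderOf_one] at hco; omega⟩
  have := pow_orderOf_eq_one ((c : (S : Subgroup G)) : G)
  rwa [hco, pow_two] at this

theorem mem_of_sig {v : G} (hv : Sig S v) (hvc : v ∉ centralizer ((S : Subgroup G) : Set G)) :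
    Mem S ((S : Subgroup G) ⊓ centralizer {v}) := ⟨v, hv, hvc, rfl⟩

theorem ab_mem {D : Subgroup G} (hD : Mem S D) : Ab D := by
  obtain ⟨v, ⟨-, z, g, hz, rfl⟩, hvc, rfl⟩ := hD
  exact h.central_or_ab hz.2.1 hvc

theorem self_mem {D : Subgroup G} (hD : Mem S D) : Self S D := by
  refine ⟨?_, h.ab_mem hD, ?_⟩
  all_goals obtain ⟨v, hv, hvc, rfl⟩ := hD
  · exact inf_le_left
  · exact fun x hx => ⟨hx.1, mem_cent_iff.2 (mem_centralizer_iff.1 hx.2 v ⟨hv.1, mem_cent_iff.2 rfl⟩).symm⟩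

/-- a self-centralising subgroup through a noncentral conjugate of a central involution is its centraliser -/
theorem eq_of_sig {U : Subgroup G} (hU : Self S U) {v : G} (hv : Sig S v)
    (hvc : v ∉ centralizer ((S : Subgroup G) : Set G)) (hvU : v ∈ U) :
    U = (S : Subgroup G) ⊓ centralizer {v} := by
  have hle : U ≤ (S : Subgroup G) ⊓ centralizer {v} :=
    le_inf hU.le fun x hx => mem_cent_iff.2 (hU.ab x hx v hvU)
  refine le_antisymm hle fun x hx => hU.cent ⟨hx.1, mem_centralizer_iff.2 fun y hy => ?_⟩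
  exact h.ab_mem (h.mem_of_sig hv hvc) y (hle hy) x hx

theorem zc_mem {U : Subgroup G} (hU : Self S U) {z : G} (hz : Zc S z) : z ∈ U :=
  hU.cent ⟨hz.1, mem_centralizer_iff.2 fun y hy => mem_centralizer_iff.1 hz.2.1 y (hU.le hy)⟩

theorem mem_conj {D : Subgroup G} (hD : Mem S D) {n : G} (hn : n ∈ normalizer ((S : Subgroup G) : Set G)) :
    Mem S (conjMap n D) := by
  obtain ⟨v, hv, hvc, rfl⟩ := hD
  refine ⟨n * v * n⁻¹, hv.conj (conj_mem_of_normalizer hn hv.1), fun hc => hvc (mem_centralizer_iff.2 fun s hs => ?_),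
    ?_⟩
  · have h1 := mem_centralizer_iff.1 hc _ (conj_mem_of_normalizer hn hs)
    calc s * v = n⁻¹ * (n * s * n⁻¹ * (n * v * n⁻¹)) * n := by group
      _ = n⁻¹ * (n * v * n⁻¹ * (n * s * n⁻¹)) * n := by rw [h1]
      _ = _ := by group
  · rw [Cfsg.Lib.Coprime.conjMap_inf, conjMap_eq_self hn]
    congr 1
    ext x
    rw [mem_conjMap, mem_cent_iff, mem_cent_iff]
    constructor
    · intro e
      calc x * (n * v * n⁻¹) = n * (n⁻¹ * x * n * v) * n⁻¹ := by group
        _ = n * (v * (n⁻¹ * x * n)) * n⁻¹ := by rw [e]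
        _ = _ := by group
    · intro e
      calc n⁻¹ * x * n * v = n⁻¹ * (x * (n * v * n⁻¹)) * n := by group
        _ = n⁻¹ * (n * v * n⁻¹ * x) * n := by rw [e]
        _ = _ := by group

theorem exists_mem [IsSimpleGroup G] (hG : ¬ IsMulCommutative G) : ∃ D, Mem S D := by
  by_contra hno
  simp only [Mem, not_exists, not_and] at hno
  let Z : Subgroup G :=
    { carrier := {x | Zc S x}
      one_mem' := ⟨one_mem _, one_mem _, one_mul _⟩
      mul_mem' := by
        rintro a b ⟨ha, hac, ha2⟩ ⟨hb, hbc, hb2⟩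
        refine ⟨mul_mem ha hb, mul_mem hac hbc, ?_⟩
        calc a * b * (a * b) = a * (b * a) * b := by group
          _ = a * (a * b) * b := by rw [mem_centralizer_iff.1 hac b hb]
          _ = (a * a) * (b * b) := by group
          _ = 1 := by rw [ha2, hb2, one_mul]
      inv_mem' := fun {a} ha => ⟨inv_mem ha.1, inv_mem ha.2.1, by rw [← mul_inv_rev, ha.2.2, inv_one]⟩ }
  obtain ⟨z, hz, hz1⟩ := h.exists_Zc
  refine h.not_stronglyClosed hG (A := Z) (fun e => hz1 (by simpa [e] using (show z ∈ Z from hz)))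
    (fun x hx y hy => (mem_centralizer_iff.1 hy.2.1 x hx.1))
    ⟨fun x hx => hx.1, fun x hx g hg => ⟨hg, ?_, (hx.sig.conj hg).sq⟩⟩
  by_contra hc
  exact hno _ _ (hx.sig.conj hg) hc rfl

end Hyp

end Cfsg.Lib.AbelianMeet
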