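import Cfsg.Agent.AbelianMeet.Basic
import Cfsg.Agent.Goldschmidt.Final
import Cfsg.Agent.BenderSE.Final
import Cfsg.Agent.BenderSE.Dependents.Rows
import Cfsg.Agent.S1132
import Cfsg.Agent.S1138

/-!
Sylow 2-subgroups of class above two in a simple group contain no strongly closed abelian subgroup.
-/

set_option autoImplicit false
set_option linter.style.haveILetI false

namespace Cfsg.Lib.AbelianMeet

open Subgroup

universe u

/-- the commutators of a Sylow 2-subgroup of a simple group with a strongly embedded subgroup are central -/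
theorem class_two_of_embedded {G : Type u} [Group G] [Finite G] [IsSimpleGroup G] (hna : ¬ IsMulCommutative G)
    {H : Subgroup G} (hH : Cfsg.IsStronglyEmbedded H) (S : Sylow 2 G) :
    ∀ a ∈ (S : Subgroup G), ∀ b ∈ (S : Subgroup G), ∀ c ∈ (S : Subgroup G),
      a * b * a⁻¹ * b⁻¹ * c = c * (a * b * a⁻¹ * b⁻¹) := by
  haveI : Fact (Nat.Prime 2) := ⟨Nat.prime_two⟩
  have h2 := BenderSE.comm_of_nonab hH hna
  have hS : BenderSE.Setting H := ⟨hH, Cfsg.Lib.BenderSE.normalCore_eq_bot_of_simple hH, h2⟩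
  obtain ⟨L, Q, F⟩ := BenderSE.exists_frame BenderSE.regProp hS
  obtain ⟨t, ht, ht2⟩ := Cfsg.Lib.BenderSuzuki.exists_invol_out H hH
  have hset := Cfsg.Lib.BenderSuzuki.embedded_setup H hH Q F.qle
    (normal_subgroupOf_of_le_normalizer F.qn) F.trans F.reg ht ht2
  haveI : FaithfulSMul G (G ⧸ H) := by
    constructor
    intro x y h
    have hk : y⁻¹ * x ∈ H.normalCore := by
      rw [Subgroup.normalCore_eq_ker, MonoidHom.mem_ker]
      refine Equiv.ext fun p => ?_
      show (y⁻¹ * x) • p = p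
      rw [mul_smul, h p, inv_smul_smul]
    rw [hS.core, mem_bot, inv_mul_eq_one] at hk
    exact hk.symm
  obtain ⟨p, q, hp, hq, hne, hc⟩ := h2
  have hne1 : ∀ {x : G}, orderOf x = 2 → x ≠ 1 := fun {x} hx e => by
    rw [e, orderOf_one] at hx; omega
  have hsq : ∀ {x : G}, orderOf x = 2 → x * x = 1 := fun {x} hx => by
    rw [← pow_two, ← hx, pow_orderOf_eq_one]
  obtain ⟨T, hT⟩ := (F.q2.of_equiv Subgroup.topEquiv.symm).exists_le_sylow
  have hTtop : ∀ x : Q, x ∈ (T : Subgroup Q) := fun x => hT (mem_top x)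
  have hQ : ∀ a ∈ Q, ∀ b ∈ Q, ∀ c ∈ Q, a * b * a⁻¹ * b⁻¹ * c = c * (a * b * a⁻¹ * b⁻¹) := by
    intro a ha b hb c hc'
    set A : (T : Subgroup Q) := ⟨⟨a, ha⟩, hTtop _⟩
    set B : (T : Subgroup Q) := ⟨⟨b, hb⟩, hTtop _⟩
    set C : (T : Subgroup Q) := ⟨⟨c, hc'⟩, hTtop _⟩
    have key : A * B * A⁻¹ * B⁻¹ * C = C * (A * B * A⁻¹ * B⁻¹) := by
      rcases Cfsg.Agent.S1132.result hset ⟨p, q, hne1 hp, hne1 hq, hne, hsq hp, hsq hq, hc⟩ T with hab | hsu
      · exact hab.is_comm.comm _ _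
      · have := (Cfsg.Agent.S1138.result hsu).2.1 A⁻¹ B⁻¹
        simp only [inv_inv] at this
        exact (mem_center_iff.1 this C).symm
    exact congrArg (fun z : (T : Subgroup Q) => ((z : Q) : G)) key
  obtain ⟨R, hR⟩ := F.sylow
  obtain ⟨g, hg⟩ := MulAction.exists_smul_eq G R S
  intro a ha b hb c hc'
  rw [← hg, smul_coe, Cfsg.Lib.Coprime.mem_conjMap, hR] at ha hb hc'
  have h := congrArg (fun z => g * z * g⁻¹) (hQ _ ha _ hb _ hc')
  simpa [mul_assoc] using h

namespace Hyp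

variable {G : Type u} [Group G] [Finite G] [IsSimpleGroup G] {S : Sylow 2 G}

theorem not_stronglyClosed (h : Hyp G S) (hna : ¬ IsMulCommutative G) {A : Subgroup G} (hA : A ≠ ⊥)
    (hab : Ab A) : ¬ Cfsg.IsStronglyClosed A (S : Subgroup G) := by
  intro hsc
  rcases Goldschmidt.goldProp G S A hA ⟨⟨fun x y => Subtype.ext (hab x x.2 y y.2)⟩⟩ hsc with hS | ⟨H, hH⟩
  · exact h.not_ab fun x hx y hy => congrArg Subtype.val (hS.is_comm.comm ⟨x, hx⟩ ⟨y, hy⟩)
  · exact h.big (class_two_of_embedded hna hH S)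

end Hyp

end Cfsg.Lib.AbelianMeet
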