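import Cfsg.Agent.AbelianMeet.Loc
import Cfsg.Agent.Coprime.Sylow

/-!
Two members normalised by the same part of `S`.
-/

set_option autoImplicit false
set_option linter.unusedSectionVars false
set_option linter.style.haveILetI false

namespace Cfsg.Lib.AbelianMeet

open Subgroup
open scoped IsMulCommutative
open Cfsg.Lib.Coprime (conjMap mem_conjMap conjMap_eq_self conjMap_eq_self_iff)

variable {G : Type*} [Group G] [Finite G]

/-- two members with the same normaliser in `S` -/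
structure Part (S : Sylow 2 G) (D D' : Subgroup G) : Prop where
  left : Mem S D
  right : Mem S D'
  ne : D' ≠ D
  norm : ∀ t ∈ (S : Subgroup G), t ∈ normalizer (D : Set G) ↔ t ∈ normalizer (D' : Set G)

variable {S : Sylow 2 G} {D D' : Subgroup G}

theorem Part.symm (p : Part S D D') : Part S D' D :=
  ⟨p.right, p.left, p.ne.symm, fun t ht => (p.norm t ht).symm⟩

theorem Part.trans {D'' : Subgroup G} (p : Part S D D') (p' : Part S D D'') (hne : D'' ≠ D') : Part S D' D'' :=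
  ⟨p.right, p'.right, hne, fun t ht => (p.norm t ht).symm.trans (p'.norm t ht)⟩

theorem isComm_omG {U : Subgroup G} (hab : Ab U) : IsMulCommutative ↥(omG U) :=
  ⟨⟨fun x y => Subtype.ext (hab x (omG_le U x.2) y (omG_le U y.2))⟩⟩

namespace Hyp

variable (h : Hyp G S)

include h

/-- an element fixing the involutions of a member centralises it -/
theorem ker_centralizes (hD : Mem S D) {k : normalizer (D : Set G)} (hk : toH D k = 1) :
    (k : G) ∈ centralizer (D : Set G) := by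
  haveI : Fact (Nat.Prime 2) := ⟨Nat.prime_two⟩
  have hself := h.self_mem hD
  obtain ⟨i, o, ho, hio⟩ := Nat.exists_eq_two_pow_mul_odd (orderOf_pos k).ne'
  have h1 : ((k ^ 2 ^ i : normalizer (D : Set G)) : G) ∈ centralizer (D : Set G) := by
    refine centralizes_of_omG (S.isPGroup'.to_le hself.le) hself.ab (k ^ 2 ^ i).2 ?_ fun u hu => ?_
    · rw [Subgroup.orderOf_coe, orderOf_pow_of_dvd (by positivity) (hio ▸ dvd_mul_right _ _), hio,
        Nat.mul_div_cancel_left _ (by positivity)]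
      exact ho
    · rw [toH_eq_one.1 (show toH D (k ^ 2 ^ i) = 1 by rw [map_pow, hk, one_pow]) u hu, mul_inv_cancel_right]
  have h2 : ((k ^ o : normalizer (D : Set G)) : G) ∈ centralizer (D : Set G) := by
    obtain ⟨P₀, hP₀⟩ := (S.isPGroup'.comap_of_injective (normalizer (D : Set G)).subtype
      (Subgroup.subtype_injective _)).exists_le_sylow
    have hp : IsPGroup 2 (zpowers (k ^ o)) := IsPGroup.of_card_dvd_pow (n := i) (by
      rw [Nat.card_zpowers, orderOf_dvd_iff_pow_eq_one, ← pow_mul, mul_comm, ← hio, pow_orderOf_eq_one])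
    obtain ⟨R, hR⟩ := hp.exists_le_sylow
    obtain ⟨g, hg⟩ := MulAction.exists_smul_eq (normalizer (D : Set G)) P₀ R
    have h0 : g⁻¹ * k ^ o * g ∈ (P₀ : Subgroup (normalizer (D : Set G))) := by
      have h3 := hR (mem_zpowers (k ^ o))
      rwa [← hg, smul_coe, mem_conjMap] at h3
    have h4 : ((g⁻¹ * k ^ o * g : normalizer (D : Set G)) : G) ∈ D := h.mem_of_toH hD
      (hself.pgroup_le h (P₀.isPGroup'.map (normalizer (D : Set G)).subtype)
        (fun x hx => ⟨⟨x, hx.2⟩, hP₀ hx.1, rfl⟩) ⟨_, h0, rfl⟩)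
      (by rw [map_mul, map_mul, map_pow, hk, one_pow, mul_one, map_inv, inv_mul_cancel])
    have h5 := conj_mem_of_normalizer g.2 h4
    exact hself.ab.le_centralizer (by simpa [mul_assoc] using h5)
  have hco : Nat.Coprime (2 ^ i) o := (Nat.coprime_two_left.2 ho).pow_left i
  have hbez := Nat.gcd_eq_gcd_ab (2 ^ i) o
  rw [hco.gcd_eq_one] at hbez
  have hk' : k = (k ^ 2 ^ i) ^ (Nat.gcdA (2 ^ i) o) * (k ^ o) ^ (Nat.gcdB (2 ^ i) o) := by
    rw [← zpow_natCast k (2 ^ i), ← zpow_natCast k o, ← zpow_mul, ← zpow_mul, ← zpow_add, ← hbez,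
      Nat.cast_one, zpow_one]
  rw [hk', Subgroup.coe_mul, SubgroupClass.coe_zpow, SubgroupClass.coe_zpow]
  exact mul_mem (zpow_mem h1 _) (zpow_mem h2 _)

theorem left_le_norm (p : Part S D D') : D ≤ normalizer (D' : Set G) := fun x hx =>
  (p.norm x ((h.self_mem p.left).le hx)).1 (le_normalizer hx)

theorem not_le_of_part (p : Part S D D') : ¬ D' ≤ D := fun hle => p.ne (le_antisymm hle fun x hx =>
  (h.self_mem p.right).cent ⟨(h.self_mem p.left).le hx,
    mem_centralizer_iff.2 fun y hy => (h.self_mem p.left).ab y (hle hy) x hx⟩)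

theorem comm_mem_inf (p : Part S D D') {x y : G} (hx : x ∈ D) (hy : y ∈ D') : y * x * y⁻¹ * x⁻¹ ∈ D ⊓ D' := by
  refine mem_inf.2 ⟨mul_mem (conj_mem_of_normalizer (h.left_le_norm p.symm hy) hx) (inv_mem hx), ?_⟩
  rw [show y * x * y⁻¹ * x⁻¹ = y * (x * y⁻¹ * x⁻¹) by group]
  exact mul_mem hy (conj_mem_of_normalizer (h.left_le_norm p hx) (inv_mem hy))

theorem inf_commute (p : Part S D D') {z t : G} (hz : z ∈ D ⊓ D') (ht : t ∈ D ∨ t ∈ D') : t * z = z * t :=
  ht.elim (fun ht => (h.self_mem p.left).ab t ht z hz.1) fun ht => (h.self_mem p.right).ab t ht z hz.2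

/-- the core statement, for the orientation with the larger member on the right -/
theorem pair_data (p : Part S D D') [IsMulCommutative ↥(omG D)] (hle : Nat.card D ≤ Nat.card D') :
    ∃ (P : Sylow 2 (HD D)) (A : Subgroup (HD D)),
      Act P {x : omG D | Sig S (x : G)} ∧
      (∀ q, q ∈ (P : Subgroup (HD D)) ↔ ∃ t : normalizer (D : Set G), (t : G) ∈ (S : Subgroup G) ∧ toH D t = q) ∧
      Quad P A ↥(omG D) ∧
      (∀ q, q ∈ A ↔ ∃ t : normalizer (D : Set G), (t : G) ∈ D' ∧ toH D t = q) ∧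
      (∀ v : omG D, v ∈ fixV A ↥(omG D) ↔ (v : G) ∈ D') ∧
      Nat.card A * Nat.card ↥(D ⊓ D') = Nat.card D' ∧
      Nat.card D = Nat.card D' ∧ omG D ⊔ (D ⊓ D') = D := by
  obtain ⟨P, hact, hP⟩ := h.exists_act p.left
  have hs := h.self_mem p.left
  have hs' := h.self_mem p.right
  have hD'N : D' ≤ normalizer (D : Set G) := h.left_le_norm p.symm
  set f : D' →* HD D := (toH D).comp (Subgroup.inclusion hD'N) with hf
  set A := f.range with hA
  have hAmem : ∀ q, q ∈ A ↔ ∃ t : normalizer (D : Set G), (t : G) ∈ D' ∧ toH D t = q := fun q =>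
    ⟨fun ⟨t, ht⟩ => ⟨⟨t, hD'N t.2⟩, t.2, ht⟩, fun ⟨t, ht, e⟩ => ⟨⟨t, ht⟩, e⟩⟩
  have hfix : ∀ v : omG D, v ∈ fixV A ↥(omG D) ↔ (v : G) ∈ D' := by
    intro v
    constructor
    · intro hv
      refine hs'.cent ⟨hs.le (omG_le D v.2), mem_centralizer_iff.2 fun t ht => ?_⟩
      have h1 := congrArg Subtype.val (hv (toH D ⟨t, hD'N ht⟩) ((hAmem _).2 ⟨_, ht, rfl⟩))
      rw [coe_smul] at h1
      calc t * (v : G) = t * v * t⁻¹ * t := by group
        _ = v * t := by rw [h1]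
    · intro hv q hq
      obtain ⟨t, ht, rfl⟩ := (hAmem q).1 hq
      refine Subtype.ext ?_
      rw [coe_smul, hs'.ab _ ht _ hv, mul_inv_cancel_right]
  have hcA : Nat.card A * Nat.card ↥(D ⊓ D') = Nat.card D' := by
    rw [card_eq_card_quotient_mul_card_subgroup f.ker,
      Nat.card_congr (QuotientGroup.quotientKerEquivRange f).toEquiv]
    congr 1
    refine Nat.card_congr ⟨fun z => ⟨⟨z, z.2.2⟩, MonoidHom.mem_ker.2 (toH_eq_one.2 fun v hv =>
      hs.ab _ z.2.1 v (omG_le D hv))⟩,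
      fun z => ⟨(z : D'), h.mem_of_toH p.left (t := ⟨((z : D') : G), hD'N (z : D').2⟩)
        (hs'.le (z : D').2) (MonoidHom.mem_ker.1 z.2), (z : D').2⟩, fun _ => rfl, fun _ => rfl⟩
  have hcfix : Nat.card (fixV A ↥(omG D)) = Nat.card ↥(omG D ⊓ (D ⊓ D')) :=
    Nat.card_congr ⟨fun v => ⟨(v : omG D), (v : omG D).2, omG_le D (v : omG D).2, (hfix _).1 v.2⟩,
      fun v => ⟨⟨v, v.2.1⟩, (hfix _).2 v.2.2.2⟩, fun _ => rfl, fun _ => rfl⟩
  have hnorm : D ⊓ D' ≤ normalizer (omG D : Set G) := fun z hz => mem_normalizer_of_conj_le fun x hx => by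
    rw [hs.ab z hz.1 x (omG_le D hx), mul_inv_cancel_right]; exact hx
  have hsup := Cfsg.Lib.Coprime.card_sup_mul_card_inf (N := omG D) (H := D ⊓ D') hnorm
  have hsupD : omG D ⊔ (D ⊓ D') ≤ D := sup_le (omG_le D) inf_le_left
  have h1 := Subgroup.card_le_of_le hsupD
  have hz : 0 < Nat.card ↥(D ⊓ D') := Nat.card_pos
  have hf0 : 0 < Nat.card ↥(omG D ⊓ (D ⊓ D')) := Nat.card_pos
  have hsmall : Nat.card ↥(omG D) ≤ Nat.card A * Nat.card (fixV A ↥(omG D)) := by
    rw [hcfix]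
    refine Nat.le_of_mul_le_mul_right ?_ hz
    calc Nat.card ↥(omG D) * Nat.card ↥(D ⊓ D') = _ := hsup.symm
      _ ≤ Nat.card D' * Nat.card ↥(omG D ⊓ (D ⊓ D')) := Nat.mul_le_mul_right _ (h1.trans hle)
      _ = _ := by rw [← hcA]; ring
  have hquad : Quad P A ↥(omG D) := by
    refine ⟨fun q hq => ?_, fun e => ?_, fun q hq v => ?_, hsmall⟩
    · obtain ⟨t, ht, rfl⟩ := (hAmem q).1 hq
      exact (hP _).2 ⟨t, hs'.le ht, rfl⟩
    · refine h.not_le_of_part p fun t ht => ?_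
      have h0 : toH D ⟨t, hD'N ht⟩ ∈ A := (hAmem _).2 ⟨_, ht, rfl⟩
      rw [e, mem_bot] at h0
      exact h.mem_of_toH p.left (hs'.le ht) h0
    · obtain ⟨t, ht, rfl⟩ := (hAmem q).1 hq
      rw [hfix, Subgroup.coe_mul, coe_smul]
      have h0 := (h.comm_mem_inf p (omG_le D v.2) ht).2
      have e : (v : G) * ((t : G) * v * (t : G)⁻¹) = (t : G) * v * (t : G)⁻¹ * (v : G)⁻¹ := by
        rw [inv_eq_of_mul_eq_one_right (sq_of_mem_omG hs.ab v.2)]
        exact hs.ab _ (omG_le D v.2) _ (conj_mem_of_normalizer t.2 (omG_le D v.2))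
      rw [e]; exact h0
  obtain ⟨heq, -⟩ := hact.quad_card_eq hquad
  rw [hcfix] at heq
  have h3 : Nat.card ↥(omG D ⊔ (D ⊓ D')) = Nat.card D' := by
    refine Nat.eq_of_mul_eq_mul_right hf0 ?_
    rw [hsup, heq, ← hcA]; ring
  have h4 : Nat.card D = Nat.card D' := le_antisymm hle (h3 ▸ h1)
  exact ⟨P, A, hact, hP, hquad, hAmem, hfix, hcA, h4, eq_of_le_of_card_ge hsupD (by rw [h3, h4])⟩

theorem card_eq_of_part (p : Part S D D') : Nat.card D = Nat.card D' := by
  rcases le_total (Nat.card D) (Nat.card D') with hle | hle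
  · haveI := isComm_omG (h.ab_mem p.left)
    obtain ⟨-, -, -, -, -, -, -, -, e, -⟩ := h.pair_data p hle
    exact e
  · haveI := isComm_omG (h.ab_mem p.right)
    obtain ⟨-, -, -, -, -, -, -, -, e, -⟩ := h.pair_data p.symm hle
    exact e.symm

theorem split (p : Part S D D') {d : G} (hd : d ∈ D) : ∃ v ∈ omG D, ∃ z ∈ D ⊓ D', v * z = d := by
  haveI := isComm_omG (h.ab_mem p.left)
  obtain ⟨-, -, -, -, -, -, -, -, -, e⟩ := h.pair_data p (h.card_eq_of_part p).le
  have hnorm : D ⊓ D' ≤ normalizer (omG D : Set G) := fun z hz => mem_normalizer_of_conj_le fun x hx => by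
    rw [(h.ab_mem p.left) z hz.1 x (omG_le D hx), mul_inv_cancel_right]; exact hx
  exact (Cfsg.Lib.Coprime.mem_sup_of_le_normalizer hnorm).1 (e.symm ▸ hd)

/-- the centraliser in one member of an element of the other outside it -/
theorem mem_of_comm (p : Part S D D') {d t : G} (hd : d ∈ D) (ht : t ∈ D') (htD : t ∉ D) (hc : t * d = d * t) :
    d ∈ D' := by
  obtain ⟨v, hv, z, hz, rfl⟩ := h.split p hd
  refine mul_mem ?_ hz.2
  haveI := isComm_omG (h.ab_mem p.left)
  obtain ⟨P, A, hact, -, hquad, hAmem, hfix, -, -, -⟩ := h.pair_data p (h.card_eq_of_part p).le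
  have htN : t ∈ normalizer (D : Set G) := h.left_le_norm p.symm ht
  have h1 : toH D ⟨t, htN⟩ ≠ 1 := fun e => htD (h.mem_of_toH p.left ((h.self_mem p.right).le ht) e)
  refine (hfix ⟨v, hv⟩).1 (hact.fix1_eq hquad ((hAmem _).2 ⟨_, ht, rfl⟩) h1 ▸ ?_)
  show toH D ⟨t, htN⟩ • (⟨v, hv⟩ : omG D) = ⟨v, hv⟩
  refine Subtype.ext ?_
  rw [coe_smul]
  have hcz := h.inf_commute p hz (Or.inr ht)
  have : t * v = v * t := by
    refine mul_right_cancel (b := z) ?_
    calc t * v * z = v * z * t := by rw [mul_assoc, hc]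
      _ = v * t * z := by rw [mul_assoc, ← hcz, ← mul_assoc]
  show t * v * t⁻¹ = v
  rw [this, mul_inv_cancel_right]

/-- commutators of the two members avoid the squares of their intersection -/
theorem comm_of_sq (p : Part S D D') {t v z : G} (ht : t ∈ D') (hv : v ∈ omG D) (hz : z ∈ D ⊓ D')
    (he : t * v * t⁻¹ * v⁻¹ = z * z) : t * v = v * t := by
  haveI := isComm_omG (h.ab_mem p.left)
  obtain ⟨P, A, hact, -, hquad, hAmem, hfix, -, -, -⟩ := h.pair_data p (h.card_eq_of_part p).le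
  have hs := h.self_mem p.left
  obtain ⟨k, x, hB⟩ := hact.exists_base hquad
  obtain ⟨g, rfl⟩ := toH_surjective D k
  have htN : t ∈ normalizer (D : Set G) := h.left_le_norm p.symm ht
  have h1 : ((⟨v, hv⟩ : omG D) * toH D ⟨t, htN⟩ • (⟨v, hv⟩ : omG D)) ∈ fixV (conjMap (toH D g) A) ↥(omG D) := by
    rw [fixV_conj]
    intro q hq
    obtain ⟨s, hs', rfl⟩ := (hAmem q).1 hq
    refine Subtype.ext ?_
    rw [coe_smul, ← map_inv, coe_smul, Subgroup.coe_mul, coe_smul]
    have e0 : v * (t * v * t⁻¹) = z * z := by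
      rw [← he, inv_eq_of_mul_eq_one_right (sq_of_mem_omG hs.ab hv)]
      exact hs.ab _ (omG_le D hv) _ (conj_mem_of_normalizer htN (omG_le D hv))
    rw [show ((⟨t, htN⟩ : normalizer (D : Set G)) : G) = t from rfl, e0]
    simp only [Subgroup.coe_inv, inv_inv]
    obtain ⟨u, hu, z', hz', e⟩ := h.split p (conj_mem_of_normalizer' g.2 hz.1)
    have e2 : (g : G)⁻¹ * (z * z) * g = z' * z' := by
      calc (g : G)⁻¹ * (z * z) * g = (g : G)⁻¹ * z * g * ((g : G)⁻¹ * z * g) := by group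
        _ = u * (z' * u) * z' := by rw [← e]; group
        _ = u * (u * z') * z' := by rw [hs.ab z' hz'.1 u (omG_le D hu)]
        _ = u * u * (z' * z') := by group
        _ = _ := by rw [sq_of_mem_omG hs.ab hu, one_mul]
    rw [e2, h.inf_commute p (mul_mem hz' hz') (Or.inr hs'), mul_inv_cancel_right]
  have h2 := congrArg Subtype.val (hact.comm_inf hquad hB ((hAmem _).2 ⟨⟨t, htN⟩, ht, rfl⟩) h1)
  rw [coe_smul] at h2
  calc t * v = t * v * t⁻¹ * t := by group
    _ = v * t := by rw [show t * v * t⁻¹ = v from h2]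

/-- involutions of `N_S(D)/D` are conjugate under `N(D) ∩ N(S)` -/
theorem conj_mod (hD : Mem S D) {s b : G} (hs : s ∈ (S : Subgroup G)) (hsN : s ∈ normalizer (D : Set G))
    (hs2 : s * s ∈ D) (hsD : s ∉ D) (hb : b ∈ (S : Subgroup G)) (hbN : b ∈ normalizer (D : Set G))
    (hb2 : b * b ∈ D) (hbD : b ∉ D) :
    ∃ n ∈ normalizer (D : Set G), n ∈ normalizer ((S : Subgroup G) : Set G) ∧ n * s * n⁻¹ * b⁻¹ ∈ D := by
  haveI := isComm_omG (h.ab_mem hD)
  have hself := h.self_mem hD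
  obtain ⟨P, hact, hP⟩ := h.exists_act hD
  have hsq : ∀ {t : G} (htN : t ∈ normalizer (D : Set G)), t * t ∈ D →
      toH D ⟨t, htN⟩ * toH D ⟨t, htN⟩ = 1 := fun {t} htN ht => by
    rw [← map_mul]; exact toH_eq_one.2 fun v hv => hself.ab _ ht v (omG_le D hv)
  have hs1 : toH D ⟨s, hsN⟩ ≠ 1 := fun e => hsD (h.mem_of_toH hD (t := ⟨s, hsN⟩) hs e)
  have hb1 : toH D ⟨b, hbN⟩ ≠ 1 := fun e => hbD (h.mem_of_toH hD (t := ⟨b, hbN⟩) hb e)
  obtain ⟨d, -, e⟩ := hact.ti.transitive hact.norm_ne_top ((hP _).2 ⟨⟨s, hsN⟩, hs, rfl⟩) hs1 (hsq hsN hs2)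
    ((hP _).2 ⟨⟨b, hbN⟩, hb, rfl⟩) hb1 (hsq hbN hb2)
  obtain ⟨g, rfl⟩ := toH_surjective D d
  obtain ⟨k, hk, hn⟩ := h.conj_eq_of_toH hD (t := ⟨b, hbN⟩) (s := ⟨s, hsN⟩) (g := g) hb hbD hs
    (by rw [map_mul, map_mul, map_inv]; exact e)
  refine ⟨((k⁻¹ * g : normalizer (D : Set G)) : G), (k⁻¹ * g).2, hn, ?_⟩
  refine h.mem_of_toH hD (t := k⁻¹ * g * ⟨s, hsN⟩ * (k⁻¹ * g)⁻¹ * ⟨b, hbN⟩⁻¹)
    (mul_mem (conj_mem_of_normalizer hn hs) (inv_mem hb)) ?_
  simp only [map_mul, map_inv, hk, inv_one, one_mul]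
  rw [e, mul_inv_cancel]

theorem sq_mem (p : Part S D D') {s : G} (hs : s ∈ D') : s * s ∈ D := by
  haveI := isComm_omG (h.ab_mem p.left)
  obtain ⟨P, A, hact, -, hquad, hAmem, -, -, -, -⟩ := h.pair_data p (h.card_eq_of_part p).le
  have hsN : s ∈ normalizer (D : Set G) := h.left_le_norm p.symm hs
  exact h.mem_of_toH p.left (t := ⟨s, hsN⟩ * ⟨s, hsN⟩)
    (mul_mem ((h.self_mem p.right).le hs) ((h.self_mem p.right).le hs))
    (by rw [map_mul]; exact hact.sq_one_of_quad hquad ((hAmem _).2 ⟨_, hs, rfl⟩))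

theorem part_conj (p : Part S D D') {n : G} (hn : n ∈ normalizer ((S : Subgroup G) : Set G))
    (hnD : n ∈ normalizer (D : Set G)) : Part S D (conjMap n D') := by
  refine ⟨p.left, h.mem_conj p.right hn, fun e => p.ne ?_, fun t ht => ?_⟩
  · rw [← Cfsg.Lib.Coprime.conjMap_inv_conjMap n D', e, conjMap_eq_self (inv_mem hnD)]
  · rw [Cfsg.Lib.Coprime.normalizer_conjMap, mem_conjMap, ← p.norm _ (conj_mem_of_normalizer' hn ht)]
    exact ⟨fun h1 => mul_mem (mul_mem (inv_mem hnD) h1) hnD, fun h1 => by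
      have := mul_mem (mul_mem hnD h1) (inv_mem hnD)
      simpa [mul_assoc] using this⟩

theorem card_inf_eq {D'' : Subgroup G} (p : Part S D D') (p' : Part S D D'') :
    Nat.card ↥(D ⊓ D') = Nat.card ↥(D ⊓ D'') := by
  suffices ∀ {E E' : Subgroup G}, Part S D E → Part S D E' → Nat.card ↥(D ⊓ E) ≤ Nat.card ↥(D ⊓ E') from
    le_antisymm (this p p') (this p' p)
  intro E E' q q'
  have hs := h.self_mem p.left
  obtain ⟨s, hs', hsD⟩ := SetLike.not_le_iff_exists.1 (h.not_le_of_part q)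
  obtain ⟨b, hb', hbD⟩ := SetLike.not_le_iff_exists.1 (h.not_le_of_part q')
  obtain ⟨n, hnD, hnS, hd⟩ := h.conj_mod p.left ((h.self_mem q.right).le hs') (h.left_le_norm q.symm hs')
    (h.sq_mem q hs') hsD ((h.self_mem q'.right).le hb') (h.left_le_norm q'.symm hb') (h.sq_mem q' hb') hbD
  rw [← Cfsg.Lib.Coprime.card_conjMap n]
  refine Subgroup.card_le_of_le fun u hu => ?_
  rw [mem_conjMap] at hu
  have huD : u ∈ D := by
    have := conj_mem_of_normalizer hnD (mem_inf.1 hu).1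
    simpa [mul_assoc] using this
  refine mem_inf.2 ⟨huD, h.mem_of_comm q' huD hb' hbD ?_⟩
  set d := n * s * n⁻¹ * b⁻¹ with hd'
  have hb : b = d⁻¹ * (n * s * n⁻¹) := by rw [hd']; group
  have h1 : s * (n⁻¹ * u * n) = n⁻¹ * u * n * s := h.inf_commute q hu (Or.inr hs')
  have h2 : d⁻¹ * u = u * d⁻¹ := hs.ab _ (inv_mem hd) _ huD
  rw [hb]
  calc d⁻¹ * (n * s * n⁻¹) * u = d⁻¹ * n * (s * (n⁻¹ * u * n)) * n⁻¹ := by group
    _ = d⁻¹ * n * (n⁻¹ * u * n * s) * n⁻¹ := by rw [h1]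
    _ = (d⁻¹ * u) * (n * s * n⁻¹) := by group
    _ = _ := by rw [h2]; group

/-- all members with the same normaliser meet a given one in the same subgroup -/
theorem inf_eq {D'' : Subgroup G} (p : Part S D D') (p' : Part S D D'') : D ⊓ D' = D ⊓ D'' := by
  rcases eq_or_ne D'' D' with rfl | hne
  · rfl
  have hs := h.self_mem p.left
  by_cases hcase : ∃ s ∈ D', s ∉ D ∧ ∃ r ∈ D'', r ∉ D ∧ s * r⁻¹ ∈ D
  · obtain ⟨s, hs', hsD, r, hr', hrD, hd⟩ := hcase
    refine eq_of_le_of_card_ge (fun u hu => mem_inf.2 ⟨hu.1, h.mem_of_comm p' hu.1 hr' hrD ?_⟩)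
      (h.card_inf_eq p p').ge
    have h1 := h.inf_commute p hu (Or.inr hs')
    have h2 : (s * r⁻¹) * u = u * (s * r⁻¹) := hs.ab _ hd _ hu.1
    calc r * u = (s * r⁻¹)⁻¹ * (s * u) := by group
      _ = (s * r⁻¹)⁻¹ * (u * (s * r⁻¹)) * r := by rw [h1]; group
      _ = (s * r⁻¹)⁻¹ * ((s * r⁻¹) * u) * r := by rw [h2]
      _ = _ := by group
  · push Not at hcase
    have hle : D' ⊓ D'' ≤ D := fun u hu => by
      by_contra huD
      exact hcase u hu.1 huD u hu.2 huD (by rw [mul_inv_cancel]; exact one_mem D)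
    have q := p.trans p' hne
    have e1 : D' ⊓ D'' = D ⊓ D' := eq_of_le_of_card_ge (fun u hu => mem_inf.2 ⟨hle hu, hu.1⟩)
      (by rw [← h.card_inf_eq p.symm q, inf_comm])
    have e2 : D' ⊓ D'' = D ⊓ D'' := eq_of_le_of_card_ge (fun u hu => mem_inf.2 ⟨hle hu, hu.2⟩)
      (by rw [← h.card_inf_eq p p', ← h.card_inf_eq p.symm q, inf_comm])
    rw [← e1, e2]

/-- `N_S(D)` is the product of the two members -/
theorem product (p : Part S D D') {t : G} (ht : t ∈ (S : Subgroup G)) (htN : t ∈ normalizer (D : Set G)) :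
    ∃ d' ∈ D', t * d'⁻¹ ∈ D := by
  haveI := isComm_omG (h.ab_mem p.left)
  have hs := h.self_mem p.left
  obtain ⟨P, A, hact, hP, hquad, hAmem, hfix, -, -, -⟩ := h.pair_data p (h.card_eq_of_part p).le
  let B : Subgroup (HD D) :=
    { carrier := {q | q ∈ (P : Subgroup (HD D)) ∧ q * q = 1}
      one_mem' := ⟨one_mem _, one_mul _⟩
      mul_mem' := fun {a b} ha hb => ⟨mul_mem ha.1 hb.1, by
        calc a * b * (a * b) = a * (b * a) * b := by group
          _ = a * (a * b) * b := by rw [hact.inv_central hb.1 hb.2 ha.1]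
          _ = (a * a) * (b * b) := by group
          _ = 1 := by rw [ha.2, hb.2, one_mul]⟩
      inv_mem' := fun {a} ha => ⟨inv_mem ha.1, by rw [← mul_inv_rev, ha.2, inv_one]⟩ }
  have hcent : ∀ b ∈ (S : Subgroup G), ∀ hbN : b ∈ normalizer (D : Set G), toH D ⟨b, hbN⟩ * toH D ⟨b, hbN⟩ = 1 →
      b ∉ D → ∀ u ∈ D, b * u = u * b ↔ u ∈ D' := by
    intro b hb hbN hb1 hbD u hu
    have hb2 : b * b ∈ D := h.mem_of_toH p.left (t := ⟨b, hbN⟩ * ⟨b, hbN⟩) (mul_mem hb hb)
      (by rw [map_mul]; exact hb1)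
    obtain ⟨s, hs', hsD⟩ := SetLike.not_le_iff_exists.1 (h.not_le_of_part p)
    obtain ⟨n, hnD, hnS, hd⟩ := h.conj_mod p.left ((h.self_mem p.right).le hs') (h.left_le_norm p.symm hs')
      (h.sq_mem p hs') hsD hb hbN hb2 hbD
    set p' := h.part_conj p hnS hnD
    have hn1 : n * s * n⁻¹ ∈ conjMap n D' := mem_conj_of_mem hs'
    have hn2 : n * s * n⁻¹ ∉ D := fun hc => hsD (by
      have := conj_mem_of_normalizer' hnD hc
      simpa [mul_assoc] using this)
    have hd' := hs.ab _ hd u hu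
    constructor
    · intro hbu
      have hu'' : u ∈ conjMap n D' := h.mem_of_comm p' hu hn1 hn2 (by
        calc n * s * n⁻¹ * u = n * s * n⁻¹ * b⁻¹ * (b * u) := by group
          _ = n * s * n⁻¹ * b⁻¹ * u * b := by rw [hbu]; group
          _ = u * (n * s * n⁻¹ * b⁻¹) * b := by rw [hd']
          _ = _ := by group)
      exact ((h.inf_eq p p').ge ⟨hu, hu''⟩).2
    · intro hu'
      have h1 := h.inf_commute p' ((h.inf_eq p p').le ⟨hu, hu'⟩) (Or.inr hn1)
      calc b * u = (n * s * n⁻¹ * b⁻¹)⁻¹ * (n * s * n⁻¹ * u) := by group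
        _ = (n * s * n⁻¹ * b⁻¹)⁻¹ * (u * (n * s * n⁻¹ * b⁻¹)) * b := by rw [h1]; group
        _ = (n * s * n⁻¹ * b⁻¹)⁻¹ * ((n * s * n⁻¹ * b⁻¹) * u) * b := by rw [hd']
        _ = _ := by group
  have hBA : ∀ q ∈ B, fixV A ↥(omG D) ≤ fix1 ↥(omG D) q := by
    rintro q ⟨hq, hq2⟩ v hv
    obtain ⟨b, hb, rfl⟩ := (hP q).1 hq
    refine mem_fix1.2 (Subtype.ext ?_)
    rw [coe_smul]
    by_cases hbD : (b : G) ∈ D
    · rw [hs.ab _ hbD _ (omG_le D v.2), mul_inv_cancel_right]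
    · rw [(hcent b hb b.2 hq2 hbD v (omG_le D v.2)).2 ((hfix v).1 hv), mul_inv_cancel_right]
  have hBq : ∀ q ∈ B, ∀ v : omG D, v * q • v ∈ fixV A ↥(omG D) := by
    rintro q ⟨hq, hq2⟩ v
    obtain ⟨b, hb, rfl⟩ := (hP q).1 hq
    by_cases hbD : (b : G) ∈ D
    · rw [toH_eq_one.2 fun u hu => hs.ab _ hbD u (omG_le D hu), one_smul, hact.exp]; exact one_mem _
    · refine (hfix _).2 ((hcent b hb b.2 hq2 hbD _ (omG_le D (Subtype.prop _))).1 ?_)
      have e : toH D b • (v * toH D b • v) = v * toH D b • v := by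
        rw [smul_mul', ← mul_smul, hq2, one_smul, mul_comm]
      have e' := congrArg Subtype.val e
      rw [coe_smul] at e'
      set u : G := ((v * toH D b • v : omG D) : G)
      calc (b : G) * u = b * u * (b : G)⁻¹ * b := by group
        _ = u * b := by rw [e']
  have hBeq : A = B := eq_of_le_of_card_ge (fun a ha => ⟨hquad.le ha, hact.sq_one_of_quad hquad ha⟩)
    (hact.card_le hquad (fun q hq => hq.1) (fun q hq => hq.2) hBA hBq)
  have hPA := hact.sylow_eq hquad fun q hq hq2 => hBeq ▸ (show q ∈ B from ⟨hq, hq2⟩)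
  have htA : toH D ⟨t, htN⟩ ∈ A := hPA ▸ (hP _).2 ⟨⟨t, htN⟩, ht, rfl⟩
  obtain ⟨d', hd', e⟩ := (hAmem _).1 htA
  refine ⟨d', hd', h.mem_of_toH p.left (t := ⟨t, htN⟩ * d'⁻¹)
    (mul_mem ht (inv_mem ((h.self_mem p.right).le hd'))) ?_⟩
  rw [map_mul, map_inv, e, mul_inv_cancel]

/-- an involution of `N_S(D)` lies in one of the two members -/
theorem involution_mem (p : Part S D D') {u : G} (hu : u ∈ (S : Subgroup G)) (huN : u ∈ normalizer (D : Set G))
    (hu2 : u * u = 1) : u ∈ D ∨ u ∈ D' := by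
  have hs := h.self_mem p.left
  have hs' := h.self_mem p.right
  obtain ⟨d', hd', hd⟩ := h.product p hu huN
  obtain ⟨v, hv, z, hz, e⟩ := h.split p hd
  obtain ⟨v', hv', z', hz', e'⟩ := h.split p.symm hd'
  set w := z * z' with hw
  have hwZ : w ∈ D ⊓ D' := mul_mem hz ⟨hz'.2, hz'.1⟩
  have hu' : u = v * v' * w := by
    calc u = u * d'⁻¹ * d' := by group
      _ = v * z * (v' * z') := by rw [e, e']
      _ = v * (z * v') * z' := by group
      _ = v * (v' * z) * z' := by rw [h.inf_commute p hz (Or.inr (omG_le D' hv'))]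
      _ = _ := by rw [hw]; group
  have hcv : v * w = w * v := h.inf_commute p hwZ (Or.inl (omG_le D hv))
  have hcv' : v' * w = w * v' := h.inf_commute p hwZ (Or.inr (omG_le D' hv'))
  have hv1 := sq_of_mem_omG hs.ab hv
  have hv'1 := sq_of_mem_omG hs'.ab hv'
  have key : v' * v * v'⁻¹ * v⁻¹ = w * w := by
    rw [inv_eq_of_mul_eq_one_right hv1, inv_eq_of_mul_eq_one_right hv'1]
    have h0 : (v * v') * (v * v') * (w * w) = 1 := by
      rw [← hu2, hu']
      calc v * v' * (v * v') * (w * w) = v * v' * (v * (v' * w)) * w := by group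
        _ = v * v' * (v * (w * v')) * w := by rw [hcv']
        _ = v * v' * (v * w) * v' * w := by group
        _ = v * v' * (w * v) * v' * w := by rw [hcv]
        _ = v * (v' * w) * v * v' * w := by group
        _ = _ := by group
    calc v' * v * v' * v = ((v * v') * (v * v'))⁻¹ := by
          rw [mul_inv_rev, mul_inv_rev, inv_eq_of_mul_eq_one_right hv1, inv_eq_of_mul_eq_one_right hv'1]; group
      _ = w * w := inv_eq_of_mul_eq_one_right h0
  have hvv := h.comm_of_sq p (omG_le D' hv') hv hwZ key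
  rw [hu']
  by_cases hv'D : v' ∈ D
  · exact Or.inl (mul_mem (mul_mem (omG_le D hv) hv'D) hwZ.1)
  · exact Or.inr (mul_mem (mul_mem (h.mem_of_comm p (omG_le D hv) (omG_le D' hv') hv'D hvv) (omG_le D' hv')) hwZ.2)

/-- an involution of one member outside the other has that member as centraliser -/
theorem centralizer_eq (p : Part S D D') {v : G} (hv : v ∈ omG D) (hv' : v ∉ D') :
    (S : Subgroup G) ⊓ centralizer {v} = D := by
  have hs := h.self_mem p.left
  have hle : D ≤ (S : Subgroup G) ⊓ centralizer {v} :=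
    le_inf hs.le fun x hx => mem_cent_iff.2 (hs.ab x hx v (omG_le D hv))
  refine le_antisymm (fun k hk => ?_) hle
  by_contra hkD
  obtain ⟨e, he, heD, heN⟩ := exists_norm_not_mem S.isPGroup' inf_le_left hle hk hkD
  obtain ⟨d', hd', hd⟩ := h.product p he.1 heN
  refine hv' (h.mem_of_comm p (omG_le D hv) hd' (fun hc => heD ?_) ?_)
  · have := mul_mem hd hc
    rwa [inv_mul_cancel_right] at this
  · have h1 := hs.ab _ hd v (omG_le D hv)
    have h2 := mem_cent_iff.1 he.2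
    calc d' * v = (e * d'⁻¹)⁻¹ * (e * v) := by group
      _ = (e * d'⁻¹)⁻¹ * (v * (e * d'⁻¹)) * d' := by rw [h2]; group
      _ = (e * d'⁻¹)⁻¹ * ((e * d'⁻¹) * v) * d' := by rw [h1]
      _ = _ := by group

end Hyp

end Cfsg.Lib.AbelianMeet
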