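import Cfsg.Agent.AbelianMeet.Basic
import Cfsg.Agent.S1225

/-!
A group with trivial intersection Sylow 2-subgroups acting on an elementary abelian 2-group with an orbit whose
point stabilisers meet each Sylow subgroup trivially or fully: involutions and quadratic subgroups.
-/

set_option autoImplicit false
set_option linter.unusedSectionVars false
set_option linter.style.haveILetI false

namespace Cfsg.Lib.AbelianMeet

open Subgroup
open Cfsg.Lib.Coprime (conjMap mem_conjMap)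

variable {H V : Type*} [Group H] [CommGroup V] [MulDistribMulAction H V]

/-- the points fixed by a subgroup -/
def fixV (X : Subgroup H) (V : Type*) [CommGroup V] [MulDistribMulAction H V] : Subgroup V where
  carrier := {v | ∀ a ∈ X, a • v = v}
  one_mem' := fun _ _ => smul_one _
  mul_mem' := fun hu hv a ha => by rw [smul_mul', hu a ha, hv a ha]
  inv_mem' := fun hu a ha => by rw [smul_inv', hu a ha]

theorem mem_fixV {X : Subgroup H} {v : V} : v ∈ fixV X V ↔ ∀ a ∈ X, a • v = v := Iff.rfl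

theorem fixV_conj {X : Subgroup H} {g : H} {v : V} : v ∈ fixV (conjMap g X) V ↔ g⁻¹ • v ∈ fixV X V := by
  constructor
  · intro hv a ha
    have h1 := hv _ (mem_conj_of_mem (g := g) ha)
    rw [mul_smul, mul_smul] at h1
    exact eq_inv_smul_iff.2 h1
  · rintro hv _ ⟨a, ha, rfl⟩
    show (g * a * g⁻¹) • v = v
    rw [mul_smul, mul_smul, hv a ha, smul_inv_smul]

theorem fixV_conj_eq_map (X : Subgroup H) (g : H) :
    fixV (conjMap g X) V = (fixV X V).map (MulDistribMulAction.toMulEquiv V g).toMonoidHom := by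
  ext v
  rw [fixV_conj, Subgroup.mem_map]
  exact ⟨fun h => ⟨g⁻¹ • v, h, smul_inv_smul g v⟩, fun ⟨y, hy, e⟩ => by
    rw [← e]; show g⁻¹ • (g • y) ∈ fixV X V; rwa [inv_smul_smul]⟩

theorem card_fixV_conj (X : Subgroup H) (g : H) : Nat.card (fixV (conjMap g X) V) = Nat.card (fixV X V) := by
  rw [fixV_conj_eq_map]
  exact card_map_of_injective (MulDistribMulAction.toMulEquiv V g).injective

section Sylow

theorem orderOf_conjugate (g s : H) : orderOf (g * s * g⁻¹) = orderOf s :=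
  MulEquiv.orderOf_eq (MulAut.conj g) s

variable [Finite H]

/-- Sylow 2-subgroups meet trivially -/
def TI (H : Type*) [Group H] : Prop := ∀ P Q : Sylow 2 H, ∀ a : H, a ∈ (P : Subgroup H) → a ∈ (Q : Subgroup H) →
  a ≠ 1 → P = Q

theorem mem_sylow_of_normalizes {Q : Sylow 2 H} {a : H} (h2 : IsPGroup 2 (zpowers a))
    (hn : a ∈ normalizer ((Q : Subgroup H) : Set H)) : a ∈ (Q : Subgroup H) := by
  haveI : Fact (Nat.Prime 2) := ⟨Nat.prime_two⟩
  exact (h2.inf_normalizer_sylow Q).le ⟨mem_zpowers a, hn⟩ |>.2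

theorem zpowers_pgroup {Q : Sylow 2 H} {a : H} (ha : a ∈ (Q : Subgroup H)) : IsPGroup 2 (zpowers a) :=
  Q.isPGroup'.to_le (zpowers_le.2 ha)

theorem TI.normalizes (hti : TI H) {P : Sylow 2 H} {a g : H} (ha : a ∈ (P : Subgroup H)) (h1 : a ≠ 1)
    (hg : g * a * g⁻¹ ∈ (P : Subgroup H)) : g ∈ normalizer ((P : Subgroup H) : Set H) := by
  refine smul_eq_self.1 ?_
  exact hti (g • P) P _ (conj_mem_smul ha) hg fun e => h1 (by simpa using e)

theorem TI.subgroup (hti : TI H) (M : Subgroup H) : TI M := by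
  intro P Q a hP hQ h1
  haveI : Fact (Nat.Prime 2) := ⟨Nat.prime_two⟩
  obtain ⟨P', hP'⟩ := (P.isPGroup'.map M.subtype).exists_le_sylow
  obtain ⟨Q', hQ'⟩ := (Q.isPGroup'.map M.subtype).exists_le_sylow
  have he := hti P' Q' (a : H) (hP' ⟨a, hP, rfl⟩) (hQ' ⟨a, hQ, rfl⟩) fun e => h1 (Subtype.ext e)
  have hp : IsPGroup 2 ((P' : Subgroup H).subgroupOf M) :=
    P'.isPGroup'.comap_of_injective M.subtype M.subtype_injective
  have e1 : (P' : Subgroup H).subgroupOf M = (P : Subgroup M) := P.is_maximal' hp fun x hx => hP' ⟨x, hx, rfl⟩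
  have e2 : (P' : Subgroup H).subgroupOf M = (Q : Subgroup M) := Q.is_maximal' hp fun x hx => by
    show (x : H) ∈ (P' : Subgroup H)
    rw [he]; exact hQ' ⟨x, hx, rfl⟩
  exact Sylow.ext (e1.symm.trans e2)

theorem TI.stronglyEmbedded (hti : TI H) {P : Sylow 2 H} {t : H} (ht : t ∈ (P : Subgroup H)) (ht1 : t ≠ 1)
    (hP : normalizer ((P : Subgroup H) : Set H) ≠ ⊤) :
    Cfsg.IsStronglyEmbedded (normalizer ((P : Subgroup H) : Set H)) := by
  haveI : Fact (Nat.Prime 2) := ⟨Nat.prime_two⟩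
  refine ⟨hP, ?_, fun g hg => ?_⟩
  · obtain ⟨k, hk⟩ := IsPGroup.iff_card.1 P.isPGroup'
    have hk0 : k ≠ 0 := by
      rintro rfl
      rw [pow_zero, card_eq_one] at hk
      rw [hk, mem_bot] at ht
      exact ht1 ht
    exact even_iff_two_dvd.2 (((dvd_pow_self 2 hk0).trans hk.symm.dvd).trans (card_dvd_of_le le_normalizer))
  · rw [← Nat.not_even_iff_odd]
    intro he
    obtain ⟨⟨a, haM⟩, hao⟩ := exists_prime_orderOf_dvd_card' 2 he.two_dvd
    rw [Subgroup.orderOf_mk] at hao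
    obtain ⟨ha1, ha2⟩ := mem_inf.1 haM
    rw [mem_conjMap] at ha2
    have h2a : IsPGroup 2 (zpowers a) := IsPGroup.of_card (n := 1) (by rw [Nat.card_zpowers, hao, pow_one])
    have h2b : IsPGroup 2 (zpowers (g⁻¹ * a * g)) := IsPGroup.of_card (n := 1) (by
      rw [Nat.card_zpowers, show g⁻¹ * a * g = MulAut.conj g⁻¹ a by simp, MulEquiv.orderOf_eq, hao, pow_one])
    refine hg (hti.normalizes (mem_sylow_of_normalizes h2b ha2) (fun e => ?_) (?_ : g * (g⁻¹ * a * g) * g⁻¹ ∈ _))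
    · rw [show a = g * (g⁻¹ * a * g) * g⁻¹ by group, e] at hao
      simp at hao
    · simpa [mul_assoc] using mem_sylow_of_normalizes h2a ha1

theorem TI.transitive (hti : TI H) {P : Sylow 2 H} (hP : normalizer ((P : Subgroup H) : Set H) ≠ ⊤) {s t : H}
    (hs : s ∈ (P : Subgroup H)) (hs1 : s ≠ 1) (hs2 : s * s = 1) (ht : t ∈ (P : Subgroup H)) (ht1 : t ≠ 1)
    (ht2 : t * t = 1) : ∃ d ∈ normalizer ((P : Subgroup H) : Set H), d * s * d⁻¹ = t := by
  have ho : ∀ {x : H}, x ≠ 1 → x * x = 1 → orderOf x = 2 := fun h1 h2 =>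
    orderOf_eq_prime (by rw [pow_two, h2]) h1
  obtain ⟨g, -, hg⟩ := SetLike.exists_of_lt (lt_top_iff_ne_top.2 hP)
  have hu : g * s * g⁻¹ ∉ normalizer ((P : Subgroup H) : Set H) := fun hu => by
    refine hg (hti.normalizes hs hs1 (mem_sylow_of_normalizes (IsPGroup.of_card (n := 1) ?_) hu))
    rw [Nat.card_zpowers, orderOf_conjugate, ho hs1 hs2, pow_one]
  obtain ⟨⟨d, hd, e⟩, -⟩ := Cfsg.Agent.S1225.result _ (hti.stronglyEmbedded hs hs1 hP) (g * s * g⁻¹)
    (by rw [orderOf_conjugate, ho hs1 hs2]) hu s t (ho hs1 hs2) (le_normalizer hs) (ho ht1 ht2) (le_normalizer ht)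
  exact ⟨d, hd.1, e⟩

theorem TI.central (hti : TI H) {P : Sylow 2 H} (hP : normalizer ((P : Subgroup H) : Set H) ≠ ⊤) {s b : H}
    (hs : s ∈ (P : Subgroup H)) (hs2 : s * s = 1) (hb : b ∈ (P : Subgroup H)) : s * b = b * s := by
  haveI : Fact (Nat.Prime 2) := ⟨Nat.prime_two⟩
  rcases eq_or_ne s 1 with rfl | hs1
  · simp
  haveI : Nontrivial (P : Subgroup H) := ⟨⟨⟨s, hs⟩, 1, fun e => hs1 (congrArg Subtype.val e)⟩⟩
  haveI := IsPGroup.center_nontrivial P.isPGroup'
  obtain ⟨k, hk⟩ := IsPGroup.iff_card.1 (P.isPGroup'.to_subgroup (center (P : Subgroup H)))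
  have hk0 : k ≠ 0 := by
    rintro rfl
    rw [pow_zero] at hk
    exact absurd hk (Finite.one_lt_card (α := center (P : Subgroup H))).ne'
  obtain ⟨⟨c, hc⟩, hco⟩ := exists_prime_orderOf_dvd_card' (G := center (P : Subgroup H)) 2 (hk ▸ dvd_pow_self 2 hk0)
  rw [Subgroup.orderOf_mk, ← Subgroup.orderOf_coe] at hco
  have hc1 : (c : H) ≠ 1 := fun e => by rw [e, orderOf_one] at hco; omega
  obtain ⟨d, hd, e⟩ := hti.transitive hP c.2 hc1 (by
    have e2 := pow_orderOf_eq_one ((c : (P : Subgroup H)) : H)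
    rwa [hco, pow_two] at e2) hs hs1 hs2
  have hb' := conj_mem_of_normalizer' hd hb
  have hcomm : (c : H) * (d⁻¹ * b * d) = d⁻¹ * b * d * c :=
    congrArg Subtype.val (mem_center_iff.1 hc ⟨_, hb'⟩).symm
  rw [← e]
  calc d * (c : H) * d⁻¹ * b = d * ((c : H) * (d⁻¹ * b * d)) * d⁻¹ := by group
    _ = d * (d⁻¹ * b * d * c) * d⁻¹ := by rw [hcomm]
    _ = _ := by group

end Sylow

variable [Finite H] [Finite V]

/-- the standing hypotheses on the action -/
structure Act (P : Sylow 2 H) (O : Set V) : Prop where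
  ti : TI H
  exp : ∀ v : V, v * v = 1
  faithful : ∀ g : H, (∀ v : V, g • v = v) → g = 1
  orb : ∀ g : H, ∀ x ∈ O, g • x ∈ O
  stab : ∀ x ∈ O, ∀ a ∈ (P : Subgroup H), a ≠ 1 → a • x = x → ∀ b ∈ (P : Subgroup H), b • x = x
  moved : ∃ x ∈ O, ∃ g : H, (∀ b ∈ (P : Subgroup H), (g * b * g⁻¹) • x = x) ∧ ∃ b ∈ (P : Subgroup H), b • x ≠ x

/-- the hypotheses on the quadratic subgroup -/
structure Quad (P : Sylow 2 H) (A : Subgroup H) (V : Type*) [CommGroup V] [MulDistribMulAction H V] : Prop where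
  le : A ≤ (P : Subgroup H)
  ne : A ≠ ⊥
  quad : ∀ a ∈ A, ∀ v : V, v * a • v ∈ fixV A V
  small : Nat.card V ≤ Nat.card A * Nat.card (fixV A V)

namespace Act

variable {P : Sylow 2 H} {O : Set V} (h : Act P O)

include h

theorem norm_ne_top : normalizer ((P : Subgroup H) : Set H) ≠ ⊤ := by
  obtain ⟨x, -, g, hg, b, hb, hbx⟩ := h.moved
  intro e
  have hg' : g ∈ normalizer ((P : Subgroup H) : Set H) := e ▸ mem_top g
  refine hbx ?_
  have := hg _ (conj_mem_of_normalizer' hg' hb)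
  rwa [show g * (g⁻¹ * b * g) * g⁻¹ = b by group] at this

theorem inv_central {s b : H} (hs : s ∈ (P : Subgroup H)) (hs2 : s * s = 1) (hb : b ∈ (P : Subgroup H)) :
    s * b = b * s := h.ti.central h.norm_ne_top hs hs2 hb

theorem stab_conj {x : V} (hx : x ∈ O) {g a : H} (ha : a ∈ (P : Subgroup H)) (ha1 : a ≠ 1)
    (hax : (g * a * g⁻¹) • x = x) {b : H} (hb : b ∈ (P : Subgroup H)) : (g * b * g⁻¹) • x = x := by
  have h1 := h.stab _ (h.orb g⁻¹ x hx) a ha ha1 (by
    rw [mul_smul, mul_smul] at hax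
    exact eq_inv_smul_iff.2 hax) b hb
  rw [mul_smul, mul_smul, h1, smul_inv_smul]

theorem sq_one_of_quad {A : Subgroup H} (hA : Quad P A V) {a : H} (ha : a ∈ A) : a * a = 1 := by
  refine h.faithful _ fun v => ?_
  have h1 := hA.quad a ha v a ha
  rw [smul_mul', ← mul_smul, mul_comm v] at h1
  exact mul_left_cancel h1

/-- `h₁, h₂` give a pair of conjugates of `A` told apart by a point of `O` -/
def Told (A : Subgroup H) (O : Set V) (k₁ k₂ : H) : Prop :=
  ∃ x ∈ O, x ∈ fixV (conjMap k₂ A) V ∧ x ∉ fixV (conjMap k₁ A) V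

theorem exists_best {A : Subgroup H} (hA : Quad P A V) : ∃ g : H, ∃ x ∈ O, x ∈ fixV (conjMap g A) V ∧
    x ∉ fixV A V ∧ ∀ k₁ k₂ : H, Told A O k₁ k₂ →
      Nat.card ↥(fixV (conjMap k₁ A) V ⊓ fixV (conjMap k₂ A) V) ≤
        Nat.card ↥(fixV A V ⊓ fixV (conjMap g A) V) := by
  classical
  haveI : Fintype H := Fintype.ofFinite H
  obtain ⟨x, hx, g, hg, b, hb, hbx⟩ := h.moved
  have hne : (Finset.univ.filter fun k : H × H => Told A O k.1 k.2).Nonempty := by
    refine ⟨(1, g), Finset.mem_filter.2 ⟨Finset.mem_univ _, x, hx, ?_, fun h1 => ?_⟩⟩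
    · exact fixV_conj.2 fun a ha => by
        have := hg a (hA.le ha)
        rw [mul_smul, mul_smul] at this
        exact eq_inv_smul_iff.2 this
    · rw [Cfsg.Lib.Coprime.conjMap_one] at h1
      obtain ⟨⟨a, ha⟩, ha1⟩ := ne_bot_iff_exists_ne_one.1 hA.ne
      exact hbx (h.stab x hx a (hA.le ha) (fun e => ha1 (Subtype.ext e)) (h1 a ha) b hb)
  obtain ⟨⟨k₁, k₂⟩, hk, hmax⟩ := Finset.exists_max_image _
    (fun k : H × H => Nat.card ↥(fixV (conjMap k.1 A) V ⊓ fixV (conjMap k.2 A) V)) hne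
  obtain ⟨y, hy, hy2, hy1⟩ := (Finset.mem_filter.1 hk).2
  have hmax' : ∀ l₁ l₂ : H, Told A O l₁ l₂ → Nat.card ↥(fixV (conjMap l₁ A) V ⊓ fixV (conjMap l₂ A) V) ≤
      Nat.card ↥(fixV (conjMap k₁ A) V ⊓ fixV (conjMap k₂ A) V) := fun l₁ l₂ hl =>
    hmax (l₁, l₂) (Finset.mem_filter.2 ⟨Finset.mem_univ _, hl⟩)
  refine ⟨k₁⁻¹ * k₂, k₁⁻¹ • y, h.orb _ _ hy, ?_, fun e => hy1 (fixV_conj.2 e), fun l₁ l₂ hl => ?_⟩
  · rw [fixV_conj, ← mul_smul, mul_inv_rev, inv_inv, mul_inv_cancel_right]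
    exact fixV_conj.1 hy2
  · refine (hmax' l₁ l₂ hl).trans_eq ?_
    have e : fixV (conjMap k₁ A) V ⊓ fixV (conjMap k₂ A) V =
        (fixV A V ⊓ fixV (conjMap (k₁⁻¹ * k₂) A) V).map (MulDistribMulAction.toMulEquiv V k₁).toMonoidHom := by
      rw [Subgroup.map_inf _ _ (MulDistribMulAction.toMulEquiv V k₁).toMonoidHom
        (MulDistribMulAction.toMulEquiv V k₁).injective, ← fixV_conj_eq_map,
        ← fixV_conj_eq_map, Cfsg.Lib.Coprime.conjMap_mul, mul_inv_cancel_left]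
    rw [e]
    exact card_map_of_injective (MulDistribMulAction.toMulEquiv V k₁).injective

/-- an involution of `P` does not preserve the points of `O` fixed by another Sylow subgroup -/
theorem told_of_involution {A : Subgroup H} (hA : Quad P A V) {g a : H} (haP : a ∈ (P : Subgroup H))
    (ha2 : a * a = 1) {x : V} (hx : x ∈ O) (hxg : x ∈ fixV (conjMap g A) V) (hax : a • x ≠ x) :
    Told A O (a * g) g := by
  haveI : Fact (Nat.Prime 2) := ⟨Nat.prime_two⟩
  by_contra hnot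
  simp only [Told, not_exists, not_and, not_not] at hnot
  have ha' : a⁻¹ = a := inv_eq_of_mul_eq_one_right ha2
  set O₂ : Set V := {y | y ∈ O ∧ y ∈ fixV (conjMap g A) V}
  have hO₂ : ∀ y ∈ O₂, a • y ∈ O₂ := fun y hy => ⟨h.orb a y hy.1, fixV_conj.2 (by
    have := fixV_conj.1 (hnot y hy.1 hy.2)
    rwa [mul_inv_rev, mul_smul, ha'] at this)⟩
  let K : Subgroup H :=
    { carrier := {k | ∀ y ∈ O₂, k • y = y}
      one_mem' := fun y _ => one_smul H y
      mul_mem' := fun hk hl y hy => by rw [mul_smul, hl y hy, hk y hy]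
      inv_mem' := fun hk y hy => inv_smul_eq_iff.2 (hk y hy).symm }
  have haK : a ∈ normalizer (K : Set H) := mem_normalizer_of_conj_le fun k hk y hy => by
    rw [mul_smul, mul_smul, ha', hk _ (hO₂ y hy), ← mul_smul, ha2, one_smul]
  obtain ⟨⟨a₀, ha₀⟩, ha₁⟩ := ne_bot_iff_exists_ne_one.1 hA.ne
  have hgP : conjMap g (P : Subgroup H) ≤ K := by
    rintro _ ⟨b, hb, rfl⟩ y hy
    exact h.stab_conj hy.1 (hA.le ha₀) (fun e => ha₁ (Subtype.ext e)) (hy.2 _ (mem_conj_of_mem ha₀)) hb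
  let X := {Q : Sylow 2 H // (Q : Subgroup H) ≤ K}
  have hXmem : ∀ (k : normalizer (K : Set H)) (Q : X), ((((k : H) • Q.1 : Sylow 2 H)) : Subgroup H) ≤ K := by
    rintro ⟨k, hk⟩ Q _ ⟨z, hz, rfl⟩
    exact conj_mem_of_normalizer hk (Q.2 hz)
  letI : MulAction (normalizer (K : Set H)) X :=
    { smul := fun k Q => ⟨(k : H) • Q.1, hXmem k Q⟩
      one_smul := fun Q => Subtype.ext (one_smul H Q.1)
      mul_smul := fun k l Q => Subtype.ext (mul_smul (k : H) (l : H) Q.1) }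
  set R : Subgroup (normalizer (K : Set H)) := (conjMap g (P : Subgroup H)).subgroupOf _ with hR
  have hR2 : IsPGroup 2 R :=
    (P.isPGroup'.map (MulAut.conj g).toMonoidHom).comap_of_injective _ (Subgroup.subtype_injective _)
  set Q₀ : X := ⟨g • P, by rw [smul_coe]; exact hgP⟩
  have hfix : MulAction.fixedPoints R X = {Q₀} := by
    refine Set.eq_singleton_iff_unique_mem.2 ⟨fun r => Subtype.ext ?_, fun Q hQ => Subtype.ext ?_⟩
    · show ((r : normalizer (K : Set H)) : H) • (g • P) = g • P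
      refine smul_eq_self.2 (le_normalizer ?_)
      rw [smul_coe]; exact r.2
    · have hbK : g * a₀ * g⁻¹ ∈ normalizer (K : Set H) :=
        le_normalizer (hgP (mem_conj_of_mem (hA.le ha₀)))
      have hb := congrArg Subtype.val (hQ ⟨⟨_, hbK⟩, mem_conj_of_mem (hA.le ha₀)⟩)
      have hb' : g * a₀ * g⁻¹ ∈ normalizer ((Q.1 : Subgroup H) : Set H) := smul_eq_self.1 hb
      exact h.ti Q.1 (g • P) _ (mem_sylow_of_normalizes (zpowers_pgroup (conj_mem_smul (hA.le ha₀))) hb')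
        (conj_mem_smul (hA.le ha₀)) fun e => ha₁ (Subtype.ext (by simpa using e))
  have hodd : ¬ 2 ∣ Nat.card X := by
    have h1 := hR2.card_modEq_card_fixedPoints X
    rw [hfix, Nat.card_coe_set_eq ({Q₀} : Set X), Set.ncard_singleton] at h1
    intro hd
    have h2 := (Nat.modEq_zero_iff_dvd.2 hd).symm.trans h1
    exact absurd h2 (by decide)
  obtain ⟨Q, hQ⟩ := (show IsPGroup 2 (zpowers (⟨a, haK⟩ : normalizer (K : Set H))) from
    IsPGroup.of_card_dvd_pow (n := 1) (by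
      rw [Nat.card_zpowers, pow_one, orderOf_dvd_iff_pow_eq_one, pow_two]
      exact Subtype.ext ha2)).nonempty_fixed_point_of_prime_not_dvd_card X hodd
  have hQa := smul_eq_self.1 (congrArg Subtype.val (hQ ⟨_, mem_zpowers _⟩))
  exact hax (Q.2 (mem_sylow_of_normalizes (zpowers_pgroup haP) hQa) x ⟨hx, hxg⟩)

end Act

end Cfsg.Lib.AbelianMeet
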