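import Cfsg.Agent.AbelianMeet.Quad
import Cfsg.Agent.Coprime.Sylow

/-!
The fixed points of a quadratic subgroup and of its conjugate told apart by an orbit point.
-/

set_option autoImplicit false
set_option linter.unusedSectionVars false
set_option linter.style.haveILetI false

namespace Cfsg.Lib.AbelianMeet

open Subgroup
open Cfsg.Lib.Coprime (conjMap mem_conjMap conjMap_mul)

/-- the points fixed by one element -/
def fix1 {H : Type*} [Group H] (V : Type*) [CommGroup V] [MulDistribMulAction H V] (a : H) : Subgroup V where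
  carrier := {v | a • v = v}
  one_mem' := smul_one _
  mul_mem' := fun {u v} (hu : a • u = u) (hv : a • v = v) => show a • (u * v) = u * v by rw [smul_mul', hu, hv]
  inv_mem' := fun {u} (hu : a • u = u) => show a • u⁻¹ = u⁻¹ by rw [smul_inv', hu]

variable {H V : Type*} [Group H] [CommGroup V] [MulDistribMulAction H V]

theorem mem_fix1 {a : H} {v : V} : v ∈ fix1 V a ↔ a • v = v := Iff.rfl

theorem fixV_le_fix1 {X : Subgroup H} {a : H} (ha : a ∈ X) : fixV X V ≤ fix1 V a := fun _ hv => hv a ha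

variable [Finite H] [Finite V] {P : Sylow 2 H} {O : Set V}

/-- the data extracted from a pair of conjugates told apart, with as many common fixed points as possible -/
structure Base (P : Sylow 2 H) (O : Set V) (A : Subgroup H) (g : H) (x : V) : Prop where
  orbit : x ∈ O
  fixed : x ∈ fixV (conjMap g A) V
  not_fixed : x ∉ fixV A V
  maximal : ∀ k₁ k₂ : H, Act.Told A O k₁ k₂ →
    Nat.card ↥(fixV (conjMap k₁ A) V ⊓ fixV (conjMap k₂ A) V) ≤ Nat.card ↥(fixV A V ⊓ fixV (conjMap g A) V)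

namespace Act

variable (h : Act P O) {A : Subgroup H} (hA : Quad P A V)

include h hA

theorem exists_base : ∃ g x, Base P O A g x := by
  obtain ⟨g, x, h1, h2, h3, h4⟩ := h.exists_best hA
  exact ⟨g, x, h1, h2, h3, h4⟩

theorem no_fix {x : V} (hx : x ∈ O) (hxA : x ∉ fixV A V) {b : H} (hb : b ∈ (P : Subgroup H)) (hb1 : b ≠ 1) :
    b • x ≠ x := fun e => hxA fun a ha => h.stab x hx b hb hb1 e a (hA.le ha)

theorem inf_conj_le {g : H} {x : V} (hB : Base P O A g x) {b : H} (hbP : b ∈ (P : Subgroup H)) (hb2 : b * b = 1)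
    (hb1 : b ≠ 1) (hbA : fixV A V ≤ fix1 V b) :
    fixV (conjMap g A) V ⊓ fixV (conjMap (b * g) A) V ≤ fixV A V ⊓ fixV (conjMap g A) V := by
  have hle : fixV A V ⊓ fixV (conjMap g A) V ≤ fixV (conjMap g A) V ⊓ fixV (conjMap (b * g) A) V :=
    fun v hv => mem_inf.2 ⟨hv.2, fixV_conj.2 (by
      rw [mul_inv_rev, mul_smul, inv_smul_eq_iff.2 (hbA hv.1).symm]
      exact fixV_conj.1 hv.2)⟩
  have hmax := hB.maximal _ _ (h.told_of_involution hA hbP hb2 hB.orbit hB.fixed
    (h.no_fix hA hB.orbit hB.not_fixed hbP hb1))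
  rw [inf_comm (fixV (conjMap (b * g) A) V)] at hmax
  exact (eq_of_le_of_card_ge hle hmax).ge

theorem fix1_inf {g : H} {x : V} (hB : Base P O A g x) {b : H} (hbP : b ∈ (P : Subgroup H)) (hb2 : b * b = 1)
    (hb1 : b ≠ 1) (hbA : fixV A V ≤ fix1 V b) :
    fix1 V b ⊓ fixV (conjMap g A) V ≤ fixV A V ⊓ fixV (conjMap g A) V := fun v hv =>
  h.inf_conj_le hA hB hbP hb2 hb1 hbA (mem_inf.2 ⟨hv.2, fixV_conj.2 (by
    rw [mul_inv_rev, mul_smul, inv_smul_eq_iff.2 (show b • v = v from hv.1).symm]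
    exact fixV_conj.1 hv.2)⟩)

theorem card_prod {g : H} :
    Nat.card (fixV A V) * Nat.card (fixV A V) =
      Nat.card ↥(fixV A V ⊔ fixV (conjMap g A) V) * Nat.card ↥(fixV A V ⊓ fixV (conjMap g A) V) := by
  have h1 := Cfsg.Lib.Coprime.card_sup_mul_card_inf (N := fixV A V) (H := fixV (conjMap g A) V)
    (fun v _ => le_normalizer_of_normal (mem_top v))
  rw [card_fixV_conj] at h1
  exact h1.symm

theorem mul_le_card {g : H} {x : V} (hB : Base P O A g x) {B : Subgroup H} (hBP : B ≤ (P : Subgroup H))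
    (hB2 : ∀ b ∈ B, b * b = 1) (hBA : ∀ b ∈ B, fixV A V ≤ fix1 V b)
    (hBq : ∀ b ∈ B, ∀ v : V, v * b • v ∈ fixV A V) :
    Nat.card B * Nat.card ↥(fixV A V ⊓ fixV (conjMap g A) V) ≤ Nat.card (fixV A V) := by
  set F := fixV A V
  set F' := fixV (conjMap g A) V
  have hinv : ∀ v : V, v⁻¹ = v := fun v => inv_eq_of_mul_eq_one_right (h.exp v)
  let f : B → F ⧸ (F ⊓ F').subgroupOf F := fun b =>
    QuotientGroup.mk ⟨x * (b : H) • x, hBq b b.2 x⟩
  have hf : Function.Injective f := by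
    rintro ⟨b, hb⟩ ⟨c, hc⟩ e
    have e' : (x * b • x)⁻¹ * (x * c • x) ∈ F ⊓ F' := mem_subgroupOf.1 (QuotientGroup.eq.1 e)
    refine Subtype.ext (inv_mul_eq_one.1 ?_)
    by_contra hne
    have hd : b⁻¹ * c ∈ B := mul_mem (inv_mem hb) hc
    have hb' : b⁻¹ = b := inv_eq_of_mul_eq_one_right (hB2 b hb)
    have key : x * (b⁻¹ * c) • x = (x * b • x)⁻¹ * (x * c • x) := by
      have h1 : b • (x * c • x) = x * c • x := hBA b hb (hBq c hc x)
      rw [smul_mul', ← mul_smul] at h1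
      rw [hb', hinv]
      calc x * (b * c) • x = x * ((b • x)⁻¹ * (b • x * (b * c) • x)) := by rw [inv_mul_cancel_left]
        _ = _ := by rw [h1, hinv, ← mul_assoc]
    have hxF : x * (b⁻¹ * c) • x ∈ F ⊓ F' := key ▸ e'
    have hmove : (b⁻¹ * c) • x ∈ F' := by
      have := mul_mem hB.fixed (mem_inf.1 hxF).2
      rwa [← mul_assoc, h.exp, one_mul] at this
    refine hB.not_fixed (mem_inf.1 (h.inf_conj_le hA hB (hBP hd) (hB2 _ hd) (fun e0 => hne e0) (hBA _ hd)
      (mem_inf.2 ⟨hB.fixed, fixV_conj.2 ?_⟩))).1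
    rw [mul_inv_rev, mul_smul, inv_eq_of_mul_eq_one_right (hB2 _ hd)]
    exact fixV_conj.1 hmove
  have h1 := Nat.card_le_card_of_injective f hf
  rw [card_eq_card_quotient_mul_card_subgroup ((F ⊓ F').subgroupOf F)]
  rw [Nat.card_congr (subgroupOfEquivOfLe (inf_le_left : F ⊓ F' ≤ F)).toEquiv]
  exact Nat.mul_le_mul_right _ h1

theorem quad_card_eq : Nat.card V = Nat.card A * Nat.card (fixV A V) ∧
    ∀ g x, Base P O A g x → fixV A V ⊔ fixV (conjMap g A) V = ⊤ := by
  have key : ∀ g x, Base P O A g x → Nat.card V = Nat.card A * Nat.card (fixV A V) ∧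
      fixV A V ⊔ fixV (conjMap g A) V = ⊤ := by
    intro g x hB
    set cF := Nat.card (fixV A V)
    set cC := Nat.card ↥(fixV A V ⊓ fixV (conjMap g A) V)
    set cJ := Nat.card ↥(fixV A V ⊔ fixV (conjMap g A) V)
    have h1 : Nat.card A * cC ≤ cF := h.mul_le_card hA hB hA.le (fun a ha => h.sq_one_of_quad hA ha)
      (fun a ha => fixV_le_fix1 ha) hA.quad
    have h2 : cF * cF = cJ * cC := h.card_prod hA
    have h3 : cJ ≤ Nat.card V := Nat.card_le_card_of_injective _ Subtype.val_injective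
    have h4 : Nat.card V ≤ Nat.card A * cF := hA.small
    have hC : 0 < cC := Nat.card_pos
    have h5 : cJ * cC ≤ Nat.card V * cC := Nat.mul_le_mul_right _ h3
    have h6 : Nat.card V * cC ≤ Nat.card A * cF * cC := Nat.mul_le_mul_right _ h4
    have h7 : Nat.card A * cC * cF ≤ cF * cF := Nat.mul_le_mul_right _ h1
    have h8 : Nat.card V * cC = cJ * cC := by nlinarith
    have h9 : cJ = Nat.card V := (Nat.eq_of_mul_eq_mul_right hC h8).symm
    refine ⟨Nat.eq_of_mul_eq_mul_right hC ?_, eq_top_of_card_eq _ h9⟩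
    nlinarith
  obtain ⟨g, x, hB⟩ := h.exists_base hA
  exact ⟨(key g x hB).1, fun g x hB => (key g x hB).2⟩

/-- quadratic involutions with no fewer fixed points are no more than `A` -/
theorem card_le {B : Subgroup H} (hBP : B ≤ (P : Subgroup H))
    (hB2 : ∀ b ∈ B, b * b = 1) (hBA : ∀ b ∈ B, fixV A V ≤ fix1 V b)
    (hBq : ∀ b ∈ B, ∀ v : V, v * b • v ∈ fixV A V) : Nat.card B ≤ Nat.card A := by
  obtain ⟨g, x, hB⟩ := h.exists_base hA
  have h1 := h.mul_le_card hA hB hBP hB2 hBA hBq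
  obtain ⟨hV, htop⟩ := h.quad_card_eq hA
  have h2 := h.card_prod hA (g := g)
  rw [htop g x hB, card_top, hV] at h2
  have hF : 0 < Nat.card (fixV A V) := Nat.card_pos
  have hC : 0 < Nat.card ↥(fixV A V ⊓ fixV (conjMap g A) V) := Nat.card_pos
  have h3 : Nat.card (fixV A V) = Nat.card A * Nat.card ↥(fixV A V ⊓ fixV (conjMap g A) V) :=
    Nat.eq_of_mul_eq_mul_left hF (by linarith)
  rw [h3] at h1
  exact Nat.le_of_mul_le_mul_right h1 hC

theorem decompose {g : H} {x : V} (hB : Base P O A g x) (v : V) :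
    ∃ u ∈ fixV A V, ∃ w ∈ fixV (conjMap g A) V, u * w = v :=
  mem_sup.1 ((h.quad_card_eq hA).2 g x hB ▸ mem_top v)

theorem fix1_eq {a : H} (ha : a ∈ A) (ha1 : a ≠ 1) : fix1 V a = fixV A V := by
  refine le_antisymm (fun v hv => ?_) (fixV_le_fix1 ha)
  obtain ⟨g, x, hB⟩ := h.exists_base hA
  obtain ⟨u, hu, w, hw, rfl⟩ := h.decompose hA hB v
  have hwa : w ∈ fix1 V a := by
    have h0 : a • (u * w) = u * w := hv
    rw [smul_mul', hu a ha] at h0
    exact mul_left_cancel h0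
  exact mul_mem hu (h.fix1_inf hA hB (hA.le ha) (h.sq_one_of_quad hA ha) ha1 (fixV_le_fix1 ha)
    (mem_inf.2 ⟨hwa, hw⟩)).1

/-- a commutator with `A` fixed by the conjugate of `A` is trivial -/
theorem comm_inf {g : H} {x : V} (hB : Base P O A g x) {a : H} (ha : a ∈ A) {v : V}
    (hv : v * a • v ∈ fixV (conjMap g A) V) : a • v = v := by
  rcases eq_or_ne a 1 with rfl | ha1
  · rw [one_smul]
  obtain ⟨u, hu, w, hw, rfl⟩ := h.decompose hA hB v
  rw [smul_mul', hu a ha, mul_mul_mul_comm, h.exp, one_mul] at hv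
  have haw : a • w ∈ fixV (conjMap g A) V := by
    have := mul_mem hw hv
    rwa [← mul_assoc, h.exp, one_mul] at this
  have hwC := h.inf_conj_le hA hB (hA.le ha) (h.sq_one_of_quad hA ha) ha1 (fixV_le_fix1 ha)
    (mem_inf.2 ⟨hw, fixV_conj.2 (by
      rw [mul_inv_rev, mul_smul, inv_eq_of_mul_eq_one_right (h.sq_one_of_quad hA ha)]
      exact fixV_conj.1 haw)⟩)
  rw [smul_mul', hu a ha, (mem_inf.1 hwC).1 a ha]

end Act

end Cfsg.Lib.AbelianMeet
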