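import Cfsg.Agent.AbelianMeet.Cases

/-!
Members with index two over the intersection with their partner: the group they induce on their involutions has
three involutions, and a member is a four-group times the part fixed by all of them.
-/

set_option autoImplicit false
set_option linter.unusedSectionVars false
set_option linter.style.haveILetI false

namespace Cfsg.Lib.AbelianMeet

open Subgroup
open scoped IsMulCommutative
open Cfsg.Lib.Coprime (conjMap mem_conjMap conjMap_eq_self conjMap_eq_self_iff)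

variable {G : Type*} [Group G] [Finite G]

/-- the conjugates in `N(D)` of the elements of `N_S(D)` -/
def conjT (S : Sylow 2 G) (D : Subgroup G) : Set G :=
  {x | ∃ g ∈ normalizer (D : Set G), ∃ t ∈ (S : Subgroup G) ⊓ normalizer (D : Set G), x = g * t * g⁻¹}

/-- the part of `D` fixed by them -/
def KD (S : Sylow 2 G) (D : Subgroup G) : Subgroup G := D ⊓ centralizer (conjT S D)

/-- their commutators with `D` -/
def WD (S : Sylow 2 G) (D : Subgroup G) : Subgroup G :=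
  closure {y | ∃ x ∈ conjT S D, ∃ d ∈ D, y = x * d * x⁻¹ * d⁻¹}

/-- a noncentral involution of a member's four-group having that member as centraliser -/
def Spec (S : Sylow 2 G) (a : G) : Prop :=
  ∃ D, Mem S D ∧ a ∈ WD S D ∧ (S : Subgroup G) ⊓ centralizer {a} = D

variable {S : Sylow 2 G} {D : Subgroup G}

theorem conjT_sub {x : G} (hx : x ∈ conjT S D) : x ∈ normalizer (D : Set G) := by
  obtain ⟨g, hg, t, ht, rfl⟩ := hx
  exact mul_mem (mul_mem hg ht.2) (inv_mem hg)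

theorem mem_conjT {t : G} (ht : t ∈ (S : Subgroup G)) (htN : t ∈ normalizer (D : Set G)) : t ∈ conjT S D :=
  ⟨1, one_mem _, t, ⟨ht, htN⟩, by group⟩

theorem conjT_map {n : G} (hn : n ∈ normalizer ((S : Subgroup G) : Set G)) {x : G} (hx : x ∈ conjT S D) :
    n * x * n⁻¹ ∈ conjT S (conjMap n D) := by
  obtain ⟨g, hg, t, ht, rfl⟩ := hx
  refine ⟨n * g * n⁻¹, ?_, n * t * n⁻¹, mem_inf.2 ⟨conj_mem_of_normalizer hn ht.1, ?_⟩, by group⟩
  · rw [Cfsg.Lib.Coprime.normalizer_conjMap]; exact mem_conj_of_mem hg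
  · rw [Cfsg.Lib.Coprime.normalizer_conjMap]; exact mem_conj_of_mem ht.2

theorem conjT_conj {g x : G} (hg : g ∈ normalizer (D : Set G)) (hx : x ∈ conjT S D) :
    g * x * g⁻¹ ∈ conjT S D := by
  obtain ⟨k, hk, t, ht, rfl⟩ := hx
  exact ⟨g * k, mul_mem hg hk, t, ht, by group⟩

theorem KD_conj {g k : G} (hg : g ∈ normalizer (D : Set G)) (hk : k ∈ KD S D) : g * k * g⁻¹ ∈ KD S D := by
  refine mem_inf.2 ⟨conj_mem_of_normalizer hg hk.1, mem_centralizer_iff.2 fun x hx => ?_⟩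
  have h1 := mem_centralizer_iff.1 hk.2 _ (conjT_conj (inv_mem hg) hx)
  calc x * (g * k * g⁻¹) = g * (g⁻¹ * x * g⁻¹⁻¹ * k) * g⁻¹ := by group
    _ = g * (k * (g⁻¹ * x * g⁻¹⁻¹)) * g⁻¹ := by rw [h1]
    _ = _ := by group

theorem WD_map {n : G} (hn : n ∈ normalizer ((S : Subgroup G) : Set G)) {u : G} (hu : u ∈ WD S D) :
    n * u * n⁻¹ ∈ WD S (conjMap n D) := by
  refine closure_induction (fun y hy => ?_) ?_ (fun a b _ _ ha hb => ?_) (fun a _ ha => ?_) hu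
  · obtain ⟨x, hx, d, hd, rfl⟩ := hy
    exact subset_closure ⟨_, conjT_map hn hx, _, mem_conj_of_mem hd, by group⟩
  · simp
  · rw [show n * (a * b) * n⁻¹ = n * a * n⁻¹ * (n * b * n⁻¹) by group]; exact mul_mem ha hb
  · rw [show n * a⁻¹ * n⁻¹ = (n * a * n⁻¹)⁻¹ by group]; exact inv_mem ha

theorem Spec.sub {a : G} (ha : Spec S a) : a ∈ (S : Subgroup G) := by
  obtain ⟨D, hD, ha, hC⟩ := ha
  obtain ⟨v, hv, -, rfl⟩ := hD
  refine mem_inf.1 (show a ∈ (S : Subgroup G) ⊓ centralizer {v} from ?_) |>.1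
  refine (closure_le _).2 ?_ ha
  rintro _ ⟨x, hx, d, hd, rfl⟩
  exact mul_mem (conj_mem_of_normalizer (conjT_sub hx) hd) (inv_mem hd)

theorem Spec.conj_normalizer (h : Hyp G S) {a n : G} (hn : n ∈ normalizer ((S : Subgroup G) : Set G))
    (ha : Spec S a) : Spec S (n * a * n⁻¹) := by
  obtain ⟨D, hD, hW, hC⟩ := ha
  refine ⟨conjMap n D, h.mem_conj hD hn, WD_map hn hW, ?_⟩
  rw [← hC, Cfsg.Lib.Coprime.conjMap_inf, conjMap_eq_self hn]
  congr 1
  ext x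
  rw [mem_conjMap, mem_cent_iff, mem_cent_iff]
  constructor
  · intro e
    calc n⁻¹ * x * n * a = n⁻¹ * (x * (n * a * n⁻¹)) * n := by group
      _ = n⁻¹ * (n * a * n⁻¹ * x) * n := by rw [e]
      _ = _ := by group
  · intro e
    calc x * (n * a * n⁻¹) = n * (n⁻¹ * x * n * a) * n⁻¹ := by group
      _ = n * (a * (n⁻¹ * x * n)) * n⁻¹ := by rw [e]
      _ = _ := by group

/-- the structure of a member with a partner of index two over the intersection -/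
structure SmallData (S : Sylow 2 G) (D D' : Subgroup G) (w a : G) : Prop where
  part : Part S D D'
  w_inf : w ∈ D ⊓ D'
  w_one : w ≠ 1
  w_sq : w * w = 1
  w_mem : w ∈ WD S D
  a_mem : a ∈ WD S D
  a_sq : a * a = 1
  a_out : a ∉ D'
  a_cent : (S : Subgroup G) ⊓ centralizer {a} = D
  cover : ∀ u ∈ WD S D, u = 1 ∨ u = w ∨ u = a ∨ u = a * w
  shift : ∀ t ∈ (S : Subgroup G), t ∈ normalizer (D : Set G) → t ∉ D → t * a * t⁻¹ = a * w
  compl : ∀ u ∈ WD S D, u ∈ KD S D → u = 1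
  split : ∀ d ∈ D, ∃ u ∈ WD S D, ∃ k ∈ KD S D, d = u * k
  fix_le : KD S D ≤ D'
  fact : ∀ m ∈ normalizer (D : Set G), ∃ x ∈ conjT S D, ∃ k ∈ centralizer (D : Set G),
    ∃ n ∈ normalizer (D : Set G), n ∈ normalizer ((S : Subgroup G) : Set G) ∧ m = x * k * n

namespace Hyp

variable (h : Hyp G S)

include h

theorem small_data {D' : Subgroup G} (p : Part S D D') (hq : Nat.card D ≤ 2 * Nat.card ↥(D ⊓ D')) :
    ∃ w a, SmallData S D D' w a := by
  haveI := isComm_omG (h.ab_mem p.left)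
  have hs := h.self_mem p.left
  have hs' := h.self_mem p.right
  obtain ⟨P, A, hact, hP, hquad, hAmem, hfix, hcA, -, -⟩ := h.pair_data p (h.card_eq_of_part p).le
  have hA1 : 1 < Nat.card A := (one_lt_card_iff_ne_bot _).2 hquad.ne
  have hz0 : 0 < Nat.card ↥(D ⊓ D') := Nat.card_pos
  have hA2 : Nat.card A = 2 := by
    have hle : Nat.card A ≤ 2 := Nat.le_of_mul_le_mul_right
      (hcA.trans_le ((h.card_eq_of_part p).ge.trans hq)) hz0
    omega
  have hPA : ∀ q ∈ (P : Subgroup (HD D)), q ∈ A := by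
    intro q hq'
    obtain ⟨t, ht, rfl⟩ := (hP q).1 hq'
    obtain ⟨d', hd', hd⟩ := h.product p ht t.2
    refine (hAmem _).2 ⟨⟨d', h.left_le_norm p.symm hd'⟩, hd', ?_⟩
    symm
    rw [← mul_inv_eq_one, ← map_inv, ← map_mul]
    exact toH_eq_one.2 fun v hv => hs.ab _ hd v (omG_le D hv)
  have hJ : ∀ b ∈ (P : Subgroup (HD D)), b * b = 1 → b ∈ A := fun b hb _ => hPA b hb
  have heq : ∀ {x y : normalizer (D : Set G)}, toH D x = toH D y → ∀ d ∈ D,
      (x : G) * d * (x : G)⁻¹ = y * d * (y : G)⁻¹ := by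
    intro x y e d hd
    have hk := h.ker_centralizes p.left (k := y⁻¹ * x) (by rw [map_mul, map_inv, e, inv_mul_cancel])
    have h1 := mem_centralizer_iff.1 hk d hd
    simp only [Subgroup.coe_mul, Subgroup.coe_inv] at h1
    calc (x : G) * d * (x : G)⁻¹ = y * ((y : G)⁻¹ * x * d) * (x : G)⁻¹ := by group
      _ = y * (d * ((y : G)⁻¹ * x)) * (x : G)⁻¹ := by rw [h1]
      _ = _ := by group
  obtain ⟨t₀, ht₀, ht₀D⟩ := SetLike.not_le_iff_exists.1 (h.not_le_of_part p)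
  have ht₀N : t₀ ∈ normalizer (D : Set G) := h.left_le_norm p.symm ht₀
  set α := toH D ⟨t₀, ht₀N⟩ with hα
  have hαA : α ∈ A := (hAmem _).2 ⟨⟨t₀, ht₀N⟩, ht₀, rfl⟩
  have hα1 : α ≠ 1 := fun e => ht₀D (h.mem_of_toH p.left (hs'.le ht₀) e)
  have hα2 : α * α = 1 := hact.sq_one_of_quad hquad hαA
  obtain ⟨g, x₀, hB⟩ := hact.exists_base hquad
  obtain ⟨g₀, rfl⟩ := toH_surjective D g
  set t₁ : normalizer (D : Set G) := g₀ * ⟨t₀, ht₀N⟩ * g₀⁻¹ with ht₁
  set β := toH D t₁ with hβ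
  have hβe : β = toH D g₀ * α * (toH D g₀)⁻¹ := by rw [hβ, ht₁, map_mul, map_mul, map_inv]
  have hβ1 : β ≠ 1 := fun e => hα1 (by
    rw [hβe, mul_inv_eq_one, mul_eq_left] at e; exact e)
  have hβ2 : β * β = 1 := by
    rw [hβe, show toH D g₀ * α * (toH D g₀)⁻¹ * (toH D g₀ * α * (toH D g₀)⁻¹) =
      toH D g₀ * (α * α) * (toH D g₀)⁻¹ by group, hα2, mul_one, mul_inv_cancel]
  have three : ∀ c : HD D, c ≠ 1 → c * c = 1 → c = α ∨ c = β ∨ c = β * α * β := by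
    intro c hc1 hc2
    have := hact.three_involutions hquad hJ hA2 hB hαA hα1 c hc1 hc2
    rwa [← hβe] at this
  have hαβ : α ≠ β := fun e => hact.no_fix hquad hB.orbit hB.not_fixed (hquad.le hαA) hα1 (by
    rw [e, hβe]; exact hB.fixed _ (mem_conj_of_mem hαA))
  have hbraid : α * β * α = β * α * β := by
    rcases three (α * β * α) (fun e => hβ1 (by
        calc β = α * α * β * (α * α) := by rw [hα2, one_mul, mul_one]
          _ = α * (α * β * α) * α := by group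
          _ = 1 := by rw [e, mul_one, hα2]))
      (by rw [show α * β * α * (α * β * α) = α * β * (α * α) * β * α by group, hα2, mul_one,
        mul_assoc α β β, hβ2, mul_one, hα2]) with e | e | e
    · exfalso
      refine hαβ ?_
      calc α = α * (α * β * α) * α := by rw [e, hα2, one_mul]
        _ = α * α * β * (α * α) := by group
        _ = β := by rw [hα2, one_mul, mul_one]
    · exfalso
      refine hαβ (hact.eq_of_commute hquad hJ hA2 hα1 hα2 hβ1 hβ2 ?_)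
      calc α * β = α * β * α * α := by rw [mul_assoc, hα2, mul_one]
        _ = β * α := by rw [e]
    · exact e
  -- commutators with `t₀`
  have htS := hs'.le ht₀
  have hcomm0 : ∀ z ∈ D ⊓ D', t₀ * z * t₀⁻¹ * z⁻¹ = 1 := fun z hz => by
    rw [h.inf_commute p hz (Or.inr ht₀)]; group
  obtain ⟨v, hv, hv'⟩ : ∃ v ∈ omG D, v ∉ D' := by
    by_contra hno
    push Not at hno
    refine h.not_le_of_part p.symm fun d hd => ?_
    obtain ⟨v, hv, z, hz, rfl⟩ := h.split p hd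
    exact mul_mem (hno v hv) hz.2
  have hv2 := sq_of_mem_omG hs.ab hv
  have hidx : ∀ d ∈ D, d ∉ D' → d * v ∈ D' := by
    have hc1 := (D'.subgroupOf D).card_mul_index
    have hc2 : Nat.card (D'.subgroupOf D) = Nat.card ↥(D ⊓ D') := by
      rw [← inf_subgroupOf_right D' D, inf_comm]
      exact Nat.card_congr (subgroupOfEquivOfLe (inf_le_left : D ⊓ D' ≤ D)).toEquiv
    rw [hc2] at hc1
    have hne1 : (D'.subgroupOf D).index ≠ 1 := fun e => hv' (by
      have := index_eq_one.1 e ▸ mem_top (⟨v, omG_le D hv⟩ : D)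
      exact this)
    have h2 : (D'.subgroupOf D).index = 2 := by
      have hle : (D'.subgroupOf D).index ≤ 2 :=
        Nat.le_of_mul_le_mul_left (hc1.le.trans (by linarith)) hz0
      have h0 : (D'.subgroupOf D).index ≠ 0 := index_ne_zero_of_finite
      omega
    intro d hd hd'
    exact (mul_mem_iff_of_index_two h2 (a := ⟨d, hd⟩) (b := (⟨v, omG_le D hv⟩ : D))).2
      ⟨fun h0 => absurd h0 hd', fun h0 => absurd h0 hv'⟩
  set w := t₀ * v * t₀⁻¹ * v⁻¹ with hw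
  have hwom : w ∈ omG D :=
    mul_mem (conj_mem_of_normalizer (normalizer_le_omG D ht₀N) hv) (inv_mem hv)
  have hwinf : w ∈ D ⊓ D' := h.comm_mem_inf p (omG_le D hv) ht₀
  have hw1 : w ≠ 1 := fun e => hv' (h.mem_of_comm p (omG_le D hv) ht₀ ht₀D (by
    rw [hw, mul_inv_eq_one, mul_inv_eq_iff_eq_mul] at e; exact e))
  have hw2 := sq_of_mem_omG hs.ab hwom
  -- the commutator with `t₀` is bilinear
  have hcv : ∀ d ∈ D, t₀ * d * t₀⁻¹ * d⁻¹ = 1 ∧ d ∈ D' ∨ t₀ * d * t₀⁻¹ * d⁻¹ = w ∧ d ∉ D' := by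
    intro d hd
    by_cases hd' : d ∈ D'
    · exact Or.inl ⟨hcomm0 d ⟨hd, hd'⟩, hd'⟩
    refine Or.inr ⟨?_, hd'⟩
    have hz : d * v ∈ D ⊓ D' := mem_inf.2 ⟨mul_mem hd (omG_le D hv), hidx d hd hd'⟩
    have e1 := h.inf_commute p hz (Or.inr ht₀)
    calc t₀ * d * t₀⁻¹ * d⁻¹ = t₀ * (d * v) * t₀⁻¹ * (t₀ * v⁻¹ * t₀⁻¹) * d⁻¹ := by group
      _ = d * v * (t₀ * v⁻¹ * t₀⁻¹) * d⁻¹ := by rw [e1]; group
      _ = d * (v * (t₀ * v⁻¹ * t₀⁻¹)) * d⁻¹ := by group
      _ = d * w * d⁻¹ := by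
        rw [hw, hs.ab _ (omG_le D hv) _ (conj_mem_of_normalizer ht₀N (inv_mem (omG_le D hv))),
          inv_eq_of_mul_eq_one_right hv2]
      _ = w := by rw [hs.ab d hd w (omG_le D hwom)]; group
  set a := (g₀ : G) * w * (g₀ : G)⁻¹ with ha
  have haom : a ∈ omG D := conj_mem_of_normalizer (normalizer_le_omG D g₀.2) hwom
  have ha1 : a ≠ 1 := fun e => hw1 (by rw [ha] at e; simpa using e)
  have ha2 := sq_of_mem_omG hs.ab haom
  have hc1v : ∀ d ∈ D, (t₁ : G) * d * (t₁ : G)⁻¹ * d⁻¹ = 1 ∨ (t₁ : G) * d * (t₁ : G)⁻¹ * d⁻¹ = a := by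
    intro d hd
    have e : (t₁ : G) * d * (t₁ : G)⁻¹ * d⁻¹ = g₀ * (t₀ * ((g₀ : G)⁻¹ * d * g₀) * t₀⁻¹ *
        ((g₀ : G)⁻¹ * d * g₀)⁻¹) * (g₀ : G)⁻¹ := by
      simp only [ht₁, Subgroup.coe_mul, Subgroup.coe_inv]; group
    rw [e]
    rcases hcv _ (conj_mem_of_normalizer' g₀.2 hd) with ⟨e1, -⟩ | ⟨e1, -⟩ <;> rw [e1]
    · left; group
    · right; rfl
  -- neither `t₀` fixes `a` nor `t₁` fixes `w`
  have hsm : ∀ (t : normalizer (D : Set G)) (u : omG D),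
      (((u * toH D t • u : omG D)) : G) = (t : G) * u * (t : G)⁻¹ * (u : G)⁻¹ := fun t u => by
    rw [Subgroup.coe_mul, coe_smul, inv_eq_of_mul_eq_one_right (sq_of_mem_omG hs.ab u.2)]
    exact hs.ab _ (omG_le D u.2) _ (conj_mem_of_normalizer t.2 (omG_le D u.2))
  have hmoved : ∀ (t : normalizer (D : Set G)) (u : omG D),
      (t : G) * u * (t : G)⁻¹ * (u : G)⁻¹ ≠ 1 → toH D t • u ≠ u := fun t u hne e => hne (by
    rw [← coe_smul t u, e, mul_inv_cancel])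
  have haD' : a ∉ D' := by
    intro haD'
    set v₁ : omG D := ⟨(g₀ : G) * v * (g₀ : G)⁻¹, conj_mem_of_normalizer (normalizer_le_omG D g₀.2) hv⟩
    have e : (t₁ : G) * v₁ * (t₁ : G)⁻¹ * (v₁ : G)⁻¹ = a := by
      simp only [ht₁, v₁, ha, hw, Subgroup.coe_mul, Subgroup.coe_inv]; group
    refine hact.comm_not_fixed hquad hJ hA2 hα1 hα2 hβ1 hβ2 hαβ (hmoved t₁ v₁ (e ▸ ha1)) (Subtype.ext ?_)
    rw [hα, coe_smul, hsm, e, h.inf_commute p ⟨omG_le D haom, haD'⟩ (Or.inr ht₀), mul_inv_cancel_right]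
  have ht₀a : t₀ * a * t₀⁻¹ = a * w := by
    rcases hcv a (omG_le D haom) with ⟨-, e⟩ | ⟨e, -⟩
    · exact absurd e haD'
    · rw [hs.ab a (omG_le D haom) w (omG_le D hwom), ← e]; group
  have ht₁w : (t₁ : G) * w * (t₁ : G)⁻¹ = a * w := by
    rcases hc1v w (omG_le D hwom) with e | e
    · exfalso
      refine hact.comm_not_fixed hquad hJ hA2 hβ1 hβ2 hα1 hα2 (Ne.symm hαβ)
        (hmoved ⟨t₀, ht₀N⟩ ⟨v, hv⟩ hw1) (Subtype.ext ?_)
      rw [hβ, coe_smul, hα, hsm]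
      exact mul_inv_eq_one.1 e
    · rw [← e]; group
  have htr : ∀ x ∈ conjT S D, ∃ c : normalizer (D : Set G), (c = 1 ∨ c = ⟨t₀, ht₀N⟩ ∨ c = t₁ ∨
      c = t₁ * ⟨t₀, ht₀N⟩ * t₁⁻¹) ∧ ∀ d ∈ D, x * d * x⁻¹ = c * d * (c : G)⁻¹ := by
    intro x hx
    have hxN := conjT_sub hx
    obtain ⟨g, hg, t, ht, rfl⟩ := hx
    have hq1 : toH D ⟨g * t * g⁻¹, hxN⟩ = toH D ⟨g, hg⟩ * toH D ⟨t, ht.2⟩ * (toH D ⟨g, hg⟩)⁻¹ := by
      rw [← map_inv, ← map_mul, ← map_mul]; rfl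
    have htA := hPA _ ((hP _).2 ⟨⟨t, ht.2⟩, ht.1, rfl⟩)
    by_cases h1 : toH D ⟨g * t * g⁻¹, hxN⟩ = 1
    · exact ⟨1, Or.inl rfl, fun d hd => heq (x := ⟨g * t * g⁻¹, hxN⟩) (y := 1) (by rw [h1, map_one]) d hd⟩
    have h2 : toH D ⟨g * t * g⁻¹, hxN⟩ * toH D ⟨g * t * g⁻¹, hxN⟩ = 1 := by
      rw [hq1, show toH D ⟨g, hg⟩ * toH D ⟨t, ht.2⟩ * (toH D ⟨g, hg⟩)⁻¹ *
        (toH D ⟨g, hg⟩ * toH D ⟨t, ht.2⟩ * (toH D ⟨g, hg⟩)⁻¹) =
        toH D ⟨g, hg⟩ * (toH D ⟨t, ht.2⟩ * toH D ⟨t, ht.2⟩) * (toH D ⟨g, hg⟩)⁻¹ by group,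
        hact.sq_one_of_quad hquad htA, mul_one, mul_inv_cancel]
    rcases three _ h1 h2 with e | e | e
    · exact ⟨_, Or.inr (Or.inl rfl), fun d hd => heq (x := ⟨g * t * g⁻¹, hxN⟩) e d hd⟩
    · exact ⟨_, Or.inr (Or.inr (Or.inl rfl)), fun d hd => heq (x := ⟨g * t * g⁻¹, hxN⟩) e d hd⟩
    · refine ⟨_, Or.inr (Or.inr (Or.inr rfl)), fun d hd => heq (x := ⟨g * t * g⁻¹, hxN⟩) ?_ d hd⟩
      rw [e, map_mul, map_mul, map_inv, ← hβ, ← hα, inv_eq_of_mul_eq_one_right hβ2]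
  have hwg : ∀ {u : G}, u ∈ omG D → u⁻¹ = u := fun hu => inv_eq_of_mul_eq_one_right (sq_of_mem_omG hs.ab hu)
  have haw : a * w = w * a := hs.ab _ (omG_le D haom) _ (omG_le D hwom)
  have hval : ∀ x ∈ conjT S D, ∀ d ∈ D, x * d * x⁻¹ * d⁻¹ = 1 ∨ x * d * x⁻¹ * d⁻¹ = w ∨
      x * d * x⁻¹ * d⁻¹ = a ∨ x * d * x⁻¹ * d⁻¹ = a * w := by
    intro x hx d hd
    obtain ⟨c, hc, e⟩ := htr x hx
    rw [e d hd]
    rcases hc with rfl | rfl | rfl | rfl
    · left; simp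
    · rcases hcv d hd with ⟨e1, -⟩ | ⟨e1, -⟩
      · exact Or.inl e1
      · exact Or.inr (Or.inl e1)
    · rcases hc1v d hd with e1 | e1
      · exact Or.inl e1
      · exact Or.inr (Or.inr (Or.inl e1))
    · rw [show ((t₁ * ⟨t₀, ht₀N⟩ * t₁⁻¹ : normalizer (D : Set G)) : G) * d *
        ((t₁ * ⟨t₀, ht₀N⟩ * t₁⁻¹ : normalizer (D : Set G)) : G)⁻¹ * d⁻¹ = (t₁ : G) *
          (t₀ * ((t₁ : G)⁻¹ * d * t₁) * t₀⁻¹ * ((t₁ : G)⁻¹ * d * t₁)⁻¹) * (t₁ : G)⁻¹ by
          simp only [Subgroup.coe_mul, Subgroup.coe_inv]; group]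
      rcases hcv _ (conj_mem_of_normalizer' t₁.2 hd) with ⟨e1, -⟩ | ⟨e1, -⟩ <;> rw [e1]
      · left; group
      · exact Or.inr (Or.inr (Or.inr ht₁w))
  have hcover : ∀ u ∈ WD S D, u = 1 ∨ u = w ∨ u = a ∨ u = a * w := by
    intro u hu
    refine closure_induction (fun y hy => ?_) (Or.inl rfl) (fun y z _ _ hy hz => ?_) (fun y _ hy => ?_) hu
    · obtain ⟨x, hx, d, hd, rfl⟩ := hy
      exact hval x hx d hd
    · have e1 : w * (a * w) = a := by rw [haw, ← mul_assoc, hw2, one_mul]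
      have e2 : a * (a * w) = w := by rw [← mul_assoc, ha2, one_mul]
      have e3 : a * w * w = a := by rw [mul_assoc, hw2, mul_one]
      have e4 : a * w * a = w := by rw [haw, mul_assoc, ha2, mul_one]
      have e5 : a * w * (a * w) = 1 := by rw [mul_assoc, e1, ha2]
      rcases hy with rfl | rfl | rfl | rfl <;> rcases hz with rfl | rfl | rfl | rfl <;>
        simp only [one_mul, mul_one, hw2, ha2, e1, e2, e3, e4, e5, ← haw, true_or, or_true]
    · rcases hy with rfl | rfl | rfl | rfl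
      · left; exact inv_one
      · exact Or.inr (Or.inl (hwg hwom))
      · exact Or.inr (Or.inr (Or.inl (hwg haom)))
      · exact Or.inr (Or.inr (Or.inr (hwg (mul_mem haom hwom))))
  have hT0 : t₀ ∈ conjT S D := mem_conjT htS ht₀N
  have hT1 : (t₁ : G) ∈ conjT S D := ⟨g₀, g₀.2, t₀, ⟨htS, ht₀N⟩, rfl⟩
  have hwW : w ∈ WD S D := subset_closure ⟨t₀, hT0, v, omG_le D hv, rfl⟩
  have haW : a ∈ WD S D := subset_closure ⟨t₁, hT1, (g₀ : G) * v * (g₀ : G)⁻¹,
    conj_mem_of_normalizer g₀.2 (omG_le D hv), by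
      simp only [ht₁, ha, hw, Subgroup.coe_mul, Subgroup.coe_inv]; group⟩
  have hKle : KD S D ≤ D' := fun k hk => by
    rcases hcv k hk.1 with ⟨-, e⟩ | ⟨e, -⟩
    · exact e
    · exact absurd (by rw [mem_centralizer_iff.1 hk.2 t₀ hT0]; group : t₀ * k * t₀⁻¹ * k⁻¹ = 1) (e ▸ hw1)
  refine ⟨w, a, p, hwinf, hw1, hw2, hwW, haW, ha2, haD', h.centralizer_eq p haom haD', hcover, ?_, ?_, ?_, hKle, ?_⟩
  · intro t ht htN htD
    have h1 : toH D ⟨t, htN⟩ = α := hact.eq_of_mem hquad hJ hA2 (hPA _ ((hP _).2 ⟨⟨t, htN⟩, ht, rfl⟩))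
      (fun e => htD (h.mem_of_toH p.left (t := ⟨t, htN⟩) ht e)) hαA hα1
    exact (heq h1 a (omG_le D haom)).trans ht₀a
  · intro u hu huK
    rcases hcover u hu with rfl | rfl | rfl | rfl
    · rfl
    · exfalso
      have h1 := mem_centralizer_iff.1 huK.2 _ hT1
      rw [h1, mul_inv_cancel_right] at ht₁w
      exact ha1 (mul_eq_right.1 ht₁w.symm)
    · exact absurd (hKle huK) haD'
    · exact absurd (by
        have := mul_mem (hKle huK) hwinf.2
        rwa [mul_assoc, hw2, mul_one] at this) haD'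
  · intro d hd
    obtain ⟨u, hu, hd1, hd1'⟩ : ∃ u ∈ WD S D, u * d ∈ D ∧ u * d ∈ D' := by
      rcases hcv d hd with ⟨-, e⟩ | ⟨-, e⟩
      · exact ⟨1, one_mem _, by rwa [one_mul], by rwa [one_mul]⟩
      · refine ⟨a, haW, mul_mem (omG_le D haom) hd, ?_⟩
        have h1 := hidx d hd e
        have h2 := hidx a (omG_le D haom) haD'
        have h3 := mul_mem h2 h1
        have hvd := hs.ab v (omG_le D hv) d hd
        rwa [show a * v * (d * v) = a * (v * d) * v by group, hvd,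
          show a * (d * v) * v = a * d * (v * v) by group, hv2, mul_one] at h3
    have hK : ∀ k ∈ D, k ∈ D' → (t₁ : G) * k * (t₁ : G)⁻¹ = k → k ∈ KD S D := by
      intro k hk hk' hk1
      refine mem_inf.2 ⟨hk, mem_centralizer_iff.2 fun x hx => ?_⟩
      obtain ⟨c, hc, e⟩ := htr x hx
      have hk0 : t₀ * k * t₀⁻¹ = k := by rw [h.inf_commute p ⟨hk, hk'⟩ (Or.inr ht₀), mul_inv_cancel_right]
      have hfix : (c : G) * k * (c : G)⁻¹ = k := by
        rcases hc with rfl | rfl | rfl | rfl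
        · simp
        · exact hk0
        · exact hk1
        · simp only [Subgroup.coe_mul, Subgroup.coe_inv]
          calc (t₁ : G) * t₀ * (t₁ : G)⁻¹ * k * ((t₁ : G) * t₀ * (t₁ : G)⁻¹)⁻¹
              = (t₁ : G) * t₀ * ((t₁ : G)⁻¹ * k * t₁) * t₀⁻¹ * (t₁ : G)⁻¹ := by group
            _ = (t₁ : G) * (t₀ * k * t₀⁻¹) * (t₁ : G)⁻¹ := by
              have h2 : (t₁ : G)⁻¹ * k * t₁ = k := by
                calc (t₁ : G)⁻¹ * k * t₁ = (t₁ : G)⁻¹ * ((t₁ : G) * k * (t₁ : G)⁻¹) * t₁ := by rw [hk1]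
                  _ = k := by group
              rw [h2]; group
            _ = k := by rw [hk0, hk1]
      calc x * k = x * k * x⁻¹ * x := by group
        _ = k * x := by rw [e k hk, hfix]
    rcases hc1v _ hd1 with e | e
    · refine ⟨u⁻¹, inv_mem hu, u * d, hK _ hd1 hd1' (mul_inv_eq_one.1 e), by group⟩
    · refine ⟨(w * u)⁻¹, inv_mem (mul_mem hwW hu), w * u * d, ?_, by group⟩
      rw [mul_assoc]
      refine hK _ (mul_mem hwinf.1 hd1) (mul_mem hwinf.2 hd1') ?_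
      calc (t₁ : G) * (w * (u * d)) * (t₁ : G)⁻¹ =
            (t₁ : G) * w * (t₁ : G)⁻¹ * ((t₁ : G) * (u * d) * (t₁ : G)⁻¹ * (u * d)⁻¹) * (u * d) := by group
        _ = a * (w * a) * (u * d) := by rw [e, ht₁w]; group
        _ = w * (u * d) := by rw [← haw, ← mul_assoc a a w, ha2, one_mul]
  · intro m hm
    set μ := toH D ⟨m, hm⟩ with hμ
    obtain ⟨c, hc, hce⟩ : ∃ c : normalizer (D : Set G), (c : G) ∈ conjT S D ∧
        toH D c * α * (toH D c)⁻¹ = μ * α * μ⁻¹ := by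
      rcases three (μ * α * μ⁻¹) (fun e => hα1 (by rwa [mul_inv_eq_one, mul_eq_left] at e))
        (by rw [show μ * α * μ⁻¹ * (μ * α * μ⁻¹) = μ * (α * α) * μ⁻¹ by group, hα2, mul_one,
          mul_inv_cancel]) with e | e | e
      · exact ⟨1, mem_conjT (one_mem _) (one_mem _), by rw [e, map_one]; group⟩
      · refine ⟨t₁ * ⟨t₀, ht₀N⟩ * t₁⁻¹, conjT_conj t₁.2 hT0, ?_⟩
        rw [e, map_mul, map_mul, map_inv, ← hβ, ← hα, inv_eq_of_mul_eq_one_right hβ2, ← hbraid]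
        have hinv : (α * β * α)⁻¹ = α * β * α := by
          rw [mul_inv_rev, mul_inv_rev, inv_eq_of_mul_eq_one_right hα2, inv_eq_of_mul_eq_one_right hβ2]; group
        rw [hinv]
        calc α * β * α * α * (α * β * α) = α * β * (α * α) * α * β * α := by group
          _ = α * (β * α * β) * α := by rw [hα2, mul_one]; group
          _ = (α * α) * β * (α * α) := by rw [← hbraid]; group
          _ = β := by rw [hα2, one_mul, mul_one]
      · exact ⟨t₁, hT1, by rw [e, ← hβ, inv_eq_of_mul_eq_one_right hβ2]⟩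
    obtain ⟨k, hk, hn⟩ := h.conj_eq_of_toH p.left (t := ⟨t₀, ht₀N⟩) (s := ⟨t₀, ht₀N⟩) (g := c⁻¹ * ⟨m, hm⟩)
      htS ht₀D htS (by
        rw [map_mul, map_mul, map_inv, map_mul, map_inv, ← hμ, ← hα]
        calc (toH D c)⁻¹ * μ * α * ((toH D c)⁻¹ * μ)⁻¹ = (toH D c)⁻¹ * (μ * α * μ⁻¹) * toH D c := by group
          _ = α := by rw [← hce]; group)
    refine ⟨c, hc, k, h.ker_centralizes p.left hk, _, (k⁻¹ * (c⁻¹ * ⟨m, hm⟩)).2, hn, ?_⟩
    simp only [Subgroup.coe_mul, Subgroup.coe_inv]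
    group

/-- every member has such data -/
theorem exists_data [IsSimpleGroup G] (hG : ¬ IsMulCommutative G) (hD : Mem S D) :
    ∃ D' w a, SmallData S D D' w a := by
  obtain ⟨s, hs, hsD, hsT, p⟩ := h.exists_partner hD (h.nonnormal hG hD)
  refine ⟨_, h.small_data p ?_⟩
  by_contra hlt
  exact h.large_false hG hD hs hsD hsT p (by omega)

end Hyp

end Cfsg.Lib.AbelianMeet
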