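import Cfsg.Agent.AbelianMeet.QuadCount

/-!
A quadratic subgroup of order two: there are three involutions and the Sylow subgroup has order two.
-/

set_option autoImplicit false
set_option linter.unusedSectionVars false
set_option linter.style.haveILetI false

namespace Cfsg.Lib.AbelianMeet

open Subgroup
open Cfsg.Lib.Coprime (conjMap mem_conjMap)

variable {H V : Type*} [Group H] [CommGroup V] [MulDistribMulAction H V] [Finite H] [Finite V]
  {P : Sylow 2 H} {O : Set V}

/-- the commutator of an involution fixing a hyperplane -/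
theorem transvection {a : H} (hexp : ∀ v : V, v * v = 1) (hidx : Nat.card V = 2 * Nat.card (fix1 V a)) {u v : V}
    (hu : a • u ≠ u) (hv : a • v ≠ v) : v * a • v = u * a • u := by
  have hrel : (fix1 V a).index = 2 := by
    have := (fix1 V a).card_mul_index
    rw [hidx, mul_comm 2] at this
    exact Nat.eq_of_mul_eq_mul_left Nat.card_pos this
  have hf : u * v ∈ fix1 V a := (mul_mem_iff_of_index_two hrel).2
    ⟨fun h => absurd h hu, fun h => absurd h hv⟩
  have h1 : a • u * a • v = u * v := by rw [← smul_mul']; exact hf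
  calc v * a • v = u * (u * v) * a • v := by rw [← mul_assoc u, hexp, one_mul]
    _ = u * (a • u * a • v) * a • v := by rw [h1]
    _ = u * a • u * (a • v * a • v) := by simp only [mul_assoc]
    _ = _ := by rw [hexp, mul_one]

namespace Act

variable (h : Act P O) {A : Subgroup H} (hA : Quad P A V)
  (hJ : ∀ b ∈ (P : Subgroup H), b * b = 1 → b ∈ A) (hA2 : Nat.card A = 2)

include h hA hJ hA2

theorem eq_of_mem {a b : H} (ha : a ∈ A) (ha1 : a ≠ 1) (hb : b ∈ A) (hb1 : b ≠ 1) : a = b := by
  obtain ⟨⟨y, hy⟩, -, huniq⟩ := Nat.card_eq_two_iff' (1 : A) |>.1 hA2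
  have e1 := huniq ⟨a, ha⟩ fun e => ha1 (congrArg Subtype.val e)
  have e2 := huniq ⟨b, hb⟩ fun e => hb1 (congrArg Subtype.val e)
  exact (congrArg Subtype.val e1).trans (congrArg Subtype.val e2).symm

theorem involution_facts {c : H} (hc1 : c ≠ 1) (hc2 : c * c = 1) :
    ∃ k : H, c ∈ conjMap k (P : Subgroup H) ∧ Nat.card V = 2 * Nat.card (fix1 V c) ∧
      ∀ v : V, v * c • v ∈ fix1 V c := by
  haveI : Fact (Nat.Prime 2) := ⟨Nat.prime_two⟩
  obtain ⟨Q, hQ⟩ := (IsPGroup.of_card_dvd_pow (G := zpowers c) (p := 2) (n := 1) (by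
    rw [Nat.card_zpowers, pow_one, orderOf_dvd_iff_pow_eq_one, pow_two, hc2])).exists_le_sylow
  obtain ⟨k, rfl⟩ := MulAction.exists_smul_eq H P Q
  have hck : k⁻¹ * c * k ∈ (P : Subgroup H) := mem_conjMap.1 (hQ (mem_zpowers c))
  have ha : k⁻¹ * c * k ∈ A := hJ _ hck (by
    calc k⁻¹ * c * k * (k⁻¹ * c * k) = k⁻¹ * (c * c) * k := by group
      _ = 1 := by rw [hc2]; group)
  have ha1 : k⁻¹ * c * k ≠ 1 := fun e => hc1 (by
    rw [show c = k * (k⁻¹ * c * k) * k⁻¹ by group, e]; group)
  have hfix : fix1 V c = (fix1 V (k⁻¹ * c * k)).map (MulDistribMulAction.toMulEquiv V k).toMonoidHom := by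
    ext v
    rw [Subgroup.mem_map]
    constructor
    · intro hv
      refine ⟨k⁻¹ • v, ?_, smul_inv_smul k v⟩
      show (k⁻¹ * c * k) • k⁻¹ • v = k⁻¹ • v
      rw [← mul_smul, mul_inv_cancel_right, mul_smul, show c • v = v from hv]
    · rintro ⟨y, hy, rfl⟩
      show c • k • y = k • y
      have : (k⁻¹ * c * k) • y = y := hy
      rw [mul_smul, mul_smul, inv_smul_eq_iff] at this
      exact this
  refine ⟨k, hQ (mem_zpowers c), ?_, fun v => ?_⟩
  · rw [hfix]
    refine Eq.trans ?_ (congrArg (2 * ·) (card_map_of_injective (MulDistribMulAction.toMulEquiv V k).injective)).symm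
    show Nat.card V = 2 * Nat.card (fix1 V (k⁻¹ * c * k))
    rw [h.fix1_eq hA ha ha1, (h.quad_card_eq hA).1, hA2]
  · show c • (v * c • v) = v * c • v
    rw [smul_mul', ← mul_smul, hc2, one_smul, mul_comm]

/-- two distinct involutions do not commute -/
theorem eq_of_commute {c d : H} (hc1 : c ≠ 1) (hc2 : c * c = 1) (hd1 : d ≠ 1) (hd2 : d * d = 1)
    (hcd : c * d = d * c) : c = d := by
  obtain ⟨k, hc, -, -⟩ := h.involution_facts hA hJ hA2 hc1 hc2
  have hc' : c ∈ ((k • P : Sylow 2 H) : Subgroup H) := hc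
  have hdn : d ∈ normalizer (((k • P : Sylow 2 H) : Subgroup H) : Set H) :=
    h.ti.normalizes hc' hc1 (by rwa [← hcd, mul_inv_cancel_right])
  have hd' := mem_sylow_of_normalizes (IsPGroup.of_card_dvd_pow (n := 1) (by
    rw [Nat.card_zpowers, pow_one, orderOf_dvd_iff_pow_eq_one, pow_two, hd2])) hdn
  rw [smul_coe, mem_conjMap] at hc' hd'
  have key : ∀ {e : H}, e ≠ 1 → e * e = 1 → k⁻¹ * e * k ∈ (P : Subgroup H) →
      k⁻¹ * e * k ∈ A ∧ k⁻¹ * e * k ≠ 1 := fun {e} he1 he2 he =>
    ⟨hJ _ he (by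
      calc k⁻¹ * e * k * (k⁻¹ * e * k) = k⁻¹ * (e * e) * k := by group
        _ = 1 := by rw [he2]; group),
      fun e0 => he1 (by rw [show e = k * (k⁻¹ * e * k) * k⁻¹ by group, e0]; group)⟩
  have := h.eq_of_mem hA hJ hA2 (key hc1 hc2 hc').1 (key hc1 hc2 hc').2 (key hd1 hd2 hd').1 (key hd1 hd2 hd').2
  exact mul_left_cancel (mul_right_cancel this)

theorem comm_not_fixed {c d : H} (hc1 : c ≠ 1) (hc2 : c * c = 1) (hd1 : d ≠ 1) (hd2 : d * d = 1)
    (hne : c ≠ d) {v : V} (hv : d • v ≠ v) : c • (v * d • v) ≠ v * d • v := by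
  intro hcw
  have hdinv : d⁻¹ = d := inv_eq_of_mul_eq_one_right hd2
  obtain ⟨-, -, hcd, hcq⟩ := h.involution_facts hA hJ hA2 hc1 hc2
  obtain ⟨-, -, hdd, -⟩ := h.involution_facts hA hJ hA2 hd1 hd2
  -- `d` maps the fixed points of `c` to themselves
  have hdF : ∀ y : V, c • y = y → c • d • y = d • y := by
    intro y hy
    by_cases hdy : d • y = y
    · rw [hdy, hy]
    · have e := transvection h.exp hdd hv hdy
      have : d • y = y * (y * d • y) := by rw [← mul_assoc, h.exp, one_mul]
      rw [this, e, smul_mul', hy, hcw]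
  obtain ⟨e, he⟩ : ∃ e, e = d * c * d := ⟨_, rfl⟩
  have he1 : e ≠ 1 := fun h0 => hc1 (by
    rw [show c = d⁻¹ * (d * c * d) * d⁻¹ by group, ← he, h0, mul_one, ← mul_inv_rev, hd2, inv_one])
  have he2 : e * e = 1 := by
    rw [he, show d * c * d * (d * c * d) = d * c * (d * d) * c * d by group, hd2, mul_one,
      mul_assoc d c c, hc2, mul_one, hd2]
  have hsame : ∀ y : V, e • y = y ↔ c • y = y := by
    intro y
    rw [he, mul_smul, mul_smul]
    constructor
    · intro h0
      have h1 : c • d • y = d • y := by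
        have := congrArg (d • ·) h0
        simpa [← mul_smul, hd2, ← mul_assoc] using this
      have := hdF _ h1
      rwa [← mul_smul d d, hd2, one_smul] at this
    · intro h0
      rw [hdF y h0, ← mul_smul, hd2, one_smul]
  obtain ⟨-, -, -, heq⟩ := h.involution_facts hA hJ hA2 he1 he2
  have hce : c * e = e * c := by
    refine inv_mul_eq_one.1 (h.faithful _ fun y => ?_)
    rw [mul_smul, inv_smul_eq_iff, mul_smul, mul_smul]
    have e1 : e • y = y * (y * e • y) := by rw [← mul_assoc, h.exp, one_mul]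
    have c1 : c • y = y * (y * c • y) := by rw [← mul_assoc, h.exp, one_mul]
    have e3 : c • (y * e • y) = y * e • y := (hsame _).1 (heq y)
    have c3 : e • (y * c • y) = y * c • y := (hsame _).2 (hcq y)
    calc e • c • y = e • (y * (y * c • y)) := by rw [← c1]
      _ = e • y * (y * c • y) := by rw [smul_mul', c3]
      _ = c • y * (y * e • y) := by simp only [mul_assoc, mul_left_comm, mul_comm]
      _ = c • (y * (y * e • y)) := by rw [smul_mul', e3]
      _ = c • e • y := by rw [← e1]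
  have hec := h.eq_of_commute hA hJ hA2 hc1 hc2 he1 he2 hce
  refine hne (h.eq_of_commute hA hJ hA2 hc1 hc2 hd1 hd2 ?_)
  calc c * d = d * c * d * d := by rw [← he, ← hec]
    _ = d * c := by rw [mul_assoc (d * c), hd2, mul_one]

theorem three_involutions {g : H} {x : V} (hB : Base P O A g x) {a : H} (ha : a ∈ A) (ha1 : a ≠ 1) :
    ∀ c : H, c ≠ 1 → c * c = 1 → c = a ∨ c = g * a * g⁻¹ ∨ c = g * a * g⁻¹ * a * (g * a * g⁻¹) := by
  intro c hc1 hc2
  set b := g * a * g⁻¹ with hb
  have ha2 := h.sq_one_of_quad hA ha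
  have hbA : b ∈ conjMap g A := mem_conj_of_mem ha
  have hb2 : b * b = 1 := by
    rw [hb, show g * a * g⁻¹ * (g * a * g⁻¹) = g * (a * a) * g⁻¹ by group, ha2]; group
  have hb1 : b ≠ 1 := fun e => ha1 (by simpa [hb] using e)
  have hab : a ≠ b := fun e => h.no_fix hA hB.orbit hB.not_fixed (hA.le ha) ha1 (e ▸ hB.fixed b hbA)
  by_cases hca : c = a
  · exact Or.inl hca
  by_cases hcb : c = b
  · exact Or.inr (Or.inl hcb)
  refine Or.inr (Or.inr ?_)
  set a' := b * a * b with ha'
  have ha'1 : a' ≠ 1 := fun e => ha1 (by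
    rw [show a = b⁻¹ * (b * a * b) * b⁻¹ by group, ← ha', e, mul_one, ← mul_inv_rev, hb2, inv_one])
  have ha'2 : a' * a' = 1 := by
    rw [ha', show b * a * b * (b * a * b) = b * a * (b * b) * a * b by group, hb2, mul_one,
      mul_assoc b a a, ha2, mul_one, hb2]
  -- the three commutators
  obtain ⟨v, hv⟩ : ∃ v : V, c • v ≠ v := by
    by_contra hno
    push Not at hno
    exact hc1 (h.faithful c hno)
  set wc := v * c • v with hwc
  have hac : a • wc ≠ wc := h.comm_not_fixed hA hJ hA2 ha1 ha2 hc1 hc2 (fun e => hca e.symm) hv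
  have hbc : b • wc ≠ wc := h.comm_not_fixed hA hJ hA2 hb1 hb2 hc1 hc2 (fun e => hcb e.symm) hv
  have hxa : a • x ≠ x := h.no_fix hA hB.orbit hB.not_fixed (hA.le ha) ha1
  obtain ⟨-, -, hidxa, -⟩ := h.involution_facts hA hJ hA2 ha1 ha2
  obtain ⟨-, -, hidxb, -⟩ := h.involution_facts hA hJ hA2 hb1 hb2
  set w := x * a • x with hw
  have hbw : b • w ≠ w := h.comm_not_fixed hA hJ hA2 hb1 hb2 ha1 ha2 (fun e => hab e.symm) hxa
  have haw1 : a • (w * b • w) ≠ w * b • w := h.comm_not_fixed hA hJ hA2 ha1 ha2 hb1 hb2 hab hbw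
  have hfix : a • (b • wc) = b • wc := by
    have e1 : b • wc = wc * (wc * b • wc) := by rw [← mul_assoc, h.exp, one_mul]
    rw [e1, transvection h.exp hidxb hbw hbc, smul_mul']
    have e2 : a • wc = wc * w := by
      rw [hw, ← transvection h.exp hidxa hxa hac, ← mul_assoc, h.exp, one_mul]
    have e3 : a • (w * b • w) = w * b • w * w := by
      have e4 := transvection h.exp hidxa hxa haw1
      calc a • (w * b • w) = w * b • w * (w * b • w * a • (w * b • w)) := by rw [← mul_assoc, h.exp, one_mul]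
        _ = w * b • w * w := by rw [e4]
    rw [e2, e3]
    calc wc * w * (w * b • w * w) = wc * (w * b • w) * (w * w) := by
          simp only [mul_assoc, mul_left_comm, mul_comm]
      _ = _ := by rw [h.exp, mul_one]
  by_contra hne
  refine h.comm_not_fixed hA hJ hA2 ha'1 ha'2 hc1 hc2 (fun e => hne e.symm) hv ?_
  show (b * a * b) • wc = wc
  rw [mul_smul, mul_smul, hfix, ← mul_smul, hb2, one_smul]

theorem sylow_eq_of_two : (P : Subgroup H) = A := by
  haveI : Fact (Nat.Prime 2) := ⟨Nat.prime_two⟩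
  refine le_antisymm (fun t ht => ?_) hA.le
  obtain ⟨g, x, hB⟩ := h.exists_base hA
  obtain ⟨⟨a, ha⟩, ha1'⟩ := ne_bot_iff_exists_ne_one.1 hA.ne
  have ha1 : a ≠ 1 := fun e => ha1' (Subtype.ext e)
  have ha2 := h.sq_one_of_quad hA ha
  set b := g * a * g⁻¹ with hb
  have hb1 : b ≠ 1 := fun e => ha1 (by simpa [hb] using e)
  have hb2 : b * b = 1 := by
    rw [hb, show g * a * g⁻¹ * (g * a * g⁻¹) = g * (a * a) * g⁻¹ by group, ha2]; group
  have hbP : b ∈ ((g • P : Sylow 2 H) : Subgroup H) := conj_mem_smul (hA.le ha)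
  have hab : a ≠ b := fun e => h.no_fix hA hB.orbit hB.not_fixed (hA.le ha) ha1
    (e ▸ hB.fixed b (mem_conj_of_mem ha))
  have three := h.three_involutions hA hJ hA2 hB ha ha1
  have hnba : b * a ≠ a * b := fun e => hab (h.eq_of_commute hA hJ hA2 ha1 ha2 hb1 hb2 e.symm)
  -- an element of `P` fixing `b` is trivial
  have key : ∀ s ∈ (P : Subgroup H), s * b * s⁻¹ = b → s = 1 := by
    intro s hs hsb
    by_contra hs1
    have hn : s ∈ normalizer (((g • P : Sylow 2 H) : Subgroup H) : Set H) :=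
      h.ti.normalizes hbP hb1 (hsb.symm ▸ hbP)
    have he := h.ti P (g • P) s hs (mem_sylow_of_normalizes (zpowers_pgroup hs) hn) hs1
    exact hnba (h.inv_central (hA.le ha) ha2 (he ▸ hbP)).symm
  have hcb : ∀ s ∈ (P : Subgroup H), s * b * s⁻¹ = b ∨ s * b * s⁻¹ = b * a * b := by
    intro s hs
    rcases three (s * b * s⁻¹) (fun e => hb1 (by simpa using e))
      (by rw [show s * b * s⁻¹ * (s * b * s⁻¹) = s * (b * b) * s⁻¹ by group, hb2]; group) with e | e | e
    · refine absurd ?_ hab.symm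
      calc b = s⁻¹ * (s * b * s⁻¹) * s := by group
        _ = s⁻¹ * (a * s) := by rw [e, mul_assoc]
        _ = a := by rw [h.inv_central (hA.le ha) ha2 hs, inv_mul_cancel_left]
    · exact Or.inl e
    · exact Or.inr e
  rcases hcb t ht with e | e
  · rw [key t ht e]; exact one_mem _
  · rcases hcb a (hA.le ha) with e' | e'
    · exact absurd (key a (hA.le ha) e') ha1
    · have hba : b * a * b = a * b * a := by rw [← e', inv_eq_of_mul_eq_one_right ha2]
      have hfin : b * a * b * a * (b * a * b) = b := by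
        calc b * a * b * a * (b * a * b) = a * b * a * a * (a * b * a) := by rw [hba]
          _ = a * b * (a * a) * a * b * a := by group
          _ = a * (b * a * b) * a := by rw [ha2, mul_one]; group
          _ = (a * a) * b * (a * a) := by rw [hba]; group
          _ = b := by rw [ha2, one_mul, mul_one]
      have : t * a⁻¹ = 1 := key _ (mul_mem ht (inv_mem (hA.le ha))) (by
        calc t * a⁻¹ * b * (t * a⁻¹)⁻¹ = t * (a⁻¹ * b * a) * t⁻¹ := by group
          _ = t * (a * b * a⁻¹) * t⁻¹ := by rw [inv_eq_of_mul_eq_one_right ha2]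
          _ = t * (b * a * b) * t⁻¹ := by rw [e']
          _ = t * b * t⁻¹ * (t * a * t⁻¹) * (t * b * t⁻¹) := by group
          _ = b * a * b * a * (b * a * b) := by
            rw [e, show t * a * t⁻¹ = a by rw [← h.inv_central (hA.le ha) ha2 ht, mul_inv_cancel_right]]
          _ = b := hfin)
      rw [mul_inv_eq_one.1 this]; exact ha

end Act

end Cfsg.Lib.AbelianMeet
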