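import Cfsg.Agent.AbelianMeet.Basic
import Cfsg.Agent.InvolCalc.Dihedral

/-!
An invariant set of involutions of a 2-group, with two commuting members differing by a fixed central involution,
generates a dihedral group.
-/

set_option autoImplicit false
set_option linter.unusedSectionVars false
set_option linter.style.haveILetI false

namespace Cfsg.Lib.AbelianMeet

open Subgroup Cfsg.Lib.InvolCalc

variable {G : Type*} [Group G] [Finite G]

/-- a cyclic group has at most one involution -/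
theorem zpow_sq_cases {r x w : G} (hx : x ∈ zpowers r) (hx2 : x * x = 1) (hw : w ∈ zpowers r) (hw2 : w * w = 1)
    (hw1 : w ≠ 1) : x = 1 ∨ x = w := by
  obtain ⟨m, rfl⟩ := hx
  obtain ⟨l, rfl⟩ := hw
  simp only at hx2 hw2 hw1 ⊢
  rw [← zpow_add, ← orderOf_dvd_iff_zpow_eq_one] at hx2 hw2
  obtain ⟨k, hk⟩ := hx2
  obtain ⟨k', hk'⟩ := hw2
  rcases Int.even_or_odd k with ⟨p, rfl⟩ | ⟨p, rfl⟩
  · refine Or.inl (orderOf_dvd_iff_zpow_eq_one.1 ⟨p, ?_⟩)
    linarith
  rcases Int.even_or_odd k' with ⟨q, rfl⟩ | ⟨q, rfl⟩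
  · exact absurd (orderOf_dvd_iff_zpow_eq_one.1 ⟨q, by linarith⟩) hw1
  refine Or.inr ?_
  have h1 : r ^ (m - l) = 1 := orderOf_dvd_iff_zpow_eq_one.1 ⟨p - q, by linarith⟩
  rwa [zpow_sub, mul_inv_eq_one] at h1

/-- the hypotheses on the set of involutions -/
structure InvSet (S : Subgroup G) (Sg : Set G) (w : G) : Prop where
  pgroup : IsPGroup 2 S
  sub : ∀ a ∈ Sg, a ∈ S
  sq : ∀ a ∈ Sg, a * a = 1
  conj : ∀ s ∈ S, ∀ a ∈ Sg, s * a * s⁻¹ ∈ Sg
  central : ∀ s ∈ S, s * w = w * s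
  wsq : w * w = 1
  comm : ∀ a ∈ Sg, ∀ b ∈ Sg, a * b = b * a → b = a ∨ b = a * w
  rot : ∀ a ∈ Sg, ∀ b ∈ Sg, a * b ≠ b * a → w ∈ zpowers (a * b)
  not_sq : ∀ a ∈ Sg, ∀ d ∈ S, d * a = a * d → d * d ≠ w
  pair : ∃ a ∈ Sg, ∃ b ∈ Sg, a * b ≠ b * a

namespace InvSet

variable {S : Subgroup G} {Sg : Set G} {w : G} (h : InvSet S Sg w)

include h

theorem order_two_of_noncomm {a b : G} (ha : a ∈ Sg) (hab : a * b ≠ b * a) : orderOf a = 2 :=
  order_two_of_mul_self (h.sq a ha) fun e => hab (by rw [e, one_mul, mul_one])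

theorem exists_out {H : Subgroup G} (hH : H ≤ S) (hgen : H ≤ closure {x | x ∈ Sg ∧ x ∈ H})
    (hne : ¬ ∀ a ∈ Sg, a ∈ H) : ∃ c ∈ Sg, c ∉ H ∧ c ∈ normalizer (H : Set G) := by
  by_contra hno
  simp only [not_exists, not_and] at hno
  set K := S ⊓ normalizer (H : Set G)
  have hle : S ≤ K := by
    by_contra hnot
    obtain ⟨k, hk, hkK⟩ := SetLike.not_le_iff_exists.1 hnot
    obtain ⟨e, he, heK, heN⟩ := exists_norm_not_mem h.pgroup le_rfl (inf_le_left : K ≤ S) hk hkK
    refine heK ⟨he, mem_normalizer_of_conj_le fun x hx => ?_⟩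
    refine closure_induction (fun y hy => ?_) ?_ (fun u v _ _ hu hv => ?_) (fun u _ hu => ?_) (hgen hx)
    · by_contra hout
      have h1 : e * y * e⁻¹ ∈ K := conj_mem_of_normalizer heN ⟨hH hy.2, le_normalizer hy.2⟩
      exact hno _ (h.conj e he y hy.1) hout h1.2
    · simp
    · rw [show e * (u * v) * e⁻¹ = e * u * e⁻¹ * (e * v * e⁻¹) by group]; exact mul_mem hu hv
    · rw [show e * u⁻¹ * e⁻¹ = (e * u * e⁻¹)⁻¹ by group]; exact inv_mem hu
  refine hne fun a ha => ?_
  by_contra hout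
  exact hno a ha hout (hle (h.sub a ha)).2

theorem dihedral : ∃ a ∈ Sg, ∃ b ∈ Sg, a * b ≠ b * a ∧ closure Sg = closure {a, b} := by
  classical
  haveI : Fintype G := Fintype.ofFinite G
  obtain ⟨a₀, ha₀, b₀, hb₀, hab₀⟩ := h.pair
  obtain ⟨⟨a, b⟩, hmem, hmax⟩ := Finset.exists_max_image
    (Finset.univ.filter fun q : G × G => q.1 ∈ Sg ∧ q.2 ∈ Sg ∧ q.1 * q.2 ≠ q.2 * q.1)
    (fun q => orderOf (q.1 * q.2)) ⟨(a₀, b₀), by simp [ha₀, hb₀, hab₀]⟩
  obtain ⟨ha, hb, hab⟩ := (Finset.mem_filter.1 hmem).2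
  simp only at ha hb hab
  refine ⟨a, ha, b, hb, hab, ?_⟩
  have hao := h.order_two_of_noncomm ha hab
  have hbo := h.order_two_of_noncomm hb (Ne.symm hab)
  have hne : a ≠ b := fun e => hab (by rw [e])
  set H := closure ({a, b} : Set G) with hH
  have haH : a ∈ H := subset_closure (by simp)
  have hbH : b ∈ H := subset_closure (by simp)
  have hHS : H ≤ S := (closure_le S).2 (by
    rintro x (rfl | rfl); exacts [h.sub _ ha, h.sub _ hb])
  refine le_antisymm ((closure_le H).2 ?_) ((closure_le _).2 ?_)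
  swap
  · rintro x (rfl | rfl); exacts [subset_closure ha, subset_closure hb]
  by_contra hnot
  obtain ⟨c, hc, hcH, hcN⟩ := h.exists_out hHS ((closure_le _).2 (by
    rintro x (rfl | rfl); exacts [subset_closure ⟨ha, haH⟩, subset_closure ⟨hb, hbH⟩])) hnot
  set ρ := a * b with hρ
  have hwρ := h.rot a ha b hb hab
  have hρS : ∀ i : ℤ, ρ ^ i ∈ S := fun i => hHS (zpow_mem_closure_pair i)
  have hwH : w ∈ H := zpowers_le.2 (mul_mem haH hbH) hwρ
  have hwne : ∀ {u v : G}, u ∈ Sg → v ∈ Sg → u * v ≠ v * u → u ≠ w := fun {u v} hu hv huv e =>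
    huv (by rw [e]; exact (h.central v (h.sub v hv)).symm)
  have haw : a * w = w * a := h.central a (h.sub a ha)
  have hflip : ∀ i : ℤ, a * ρ ^ i = ρ ^ (-i) * a := fun i => flip_zpow hao hbo i
  have hw1 : w ≠ 1 := fun e => h.not_sq a ha 1 (one_mem S) (by rw [one_mul, mul_one]) (by rw [one_mul, e])
  have hbρ : b = a * ρ := by rw [hρ, ← mul_assoc, h.sq a ha, one_mul]
  -- the reflections are in `Sg`
  have hrefl : ∀ k : ℤ, a * ρ ^ k ∈ Sg := by
    intro k
    have hcj : ∀ e : ℤ, a * ρ ^ e ∈ Sg → ∀ m : ℤ, a * ρ ^ (2 * m + e) ∈ Sg := by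
      intro e he m
      have h1 := h.conj _ (hρS (-m)) _ he
      have e1 : ρ ^ (-m) * (a * ρ ^ e) * (ρ ^ (-m))⁻¹ = a * ρ ^ (2 * m + e) := by
        rw [← mul_assoc, ← hflip, ← zpow_neg, neg_neg, mul_assoc, mul_assoc, ← zpow_add, ← zpow_add]
        congr 2; ring
      rwa [e1] at h1
    rcases Int.even_or_odd k with ⟨m, rfl⟩ | ⟨m, rfl⟩
    · have := hcj 0 (by rw [zpow_zero, mul_one]; exact ha) m
      rwa [show 2 * m + 0 = m + m by ring] at this
    · exact hcj 1 (by rw [zpow_one, ← hbρ]; exact hb) m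
  -- an involution of `H` in `Sg` is a reflection
  have hrot : ∀ x ∈ Sg, x ∈ H → ∃ i : ℤ, x = a * ρ ^ i := by
    intro x hx hxH
    rcases mem_closure_pair hao hbo hxH with ⟨i, hi⟩ | ⟨i, hi⟩
    · exfalso
      have h2 : ρ ^ i * ρ ^ i = 1 := by rw [hρ, ← hi]; exact h.sq _ hx
      have e : a * x = x * a := by
        rw [hi, ← hρ, hflip, zpow_neg, inv_eq_of_mul_eq_one_right h2]
      have hxρ : x ∈ zpowers (a * b) := ⟨i, hi.symm⟩
      refine not_mem_zpowers hao hbo hne ?_
      rcases h.comm a ha x hx e with e1 | e1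
      · rwa [e1] at hxρ
      · have h3 := mul_mem hxρ (inv_mem hwρ)
        rwa [e1, mul_inv_cancel_right] at h3
    · exact ⟨i, hi⟩
  have hcc := h.sq c hc
  have hci : c⁻¹ = c := inv_eq_of_mul_eq_one_right hcc
  have hcH' : ∀ x ∈ Sg, x ∈ H → ∃ i : ℤ, c * x * c = a * ρ ^ i := fun x hx hxH => by
    refine hrot _ ?_ ?_
    · have := h.conj c (h.sub c hc) x hx
      rwa [hci] at this
    · have := conj_mem_of_normalizer hcN hxH
      rwa [hci] at this
  obtain ⟨i, hi⟩ := hcH' a ha haH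
  obtain ⟨k, hk⟩ := hcH' b hb hbH
  have hca : a * c ≠ c * a := fun e => by
    rcases h.comm a ha c hc e with e1 | e1
    · exact hcH (e1 ▸ haH)
    · exact hcH (e1 ▸ mul_mem haH hwH)
  have hρc : c * ρ * c⁻¹ ∈ zpowers ρ := by
    refine ⟨-i + k, ?_⟩
    show ρ ^ (-i + k) = c * ρ * c⁻¹
    have e : c * ρ * c⁻¹ = c * a * c * (c * b * c) := by
      rw [hci, hρ, show c * a * c * (c * b * c) = c * a * (c * c) * b * c by group, hcc]; group
    rw [e, hi, hk, hflip i, zpow_add]
    rw [mul_assoc (ρ ^ (-i)), ← mul_assoc a a, h.sq a ha, one_mul]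
  rcases Int.even_or_odd i with ⟨j, rfl⟩ | ⟨j, rfl⟩
  · -- the classes are preserved: some reflection is centralised
    set δ := ρ ^ j with hδ
    have hcac2 : c * a * c = a * δ * δ := by rw [hi, zpow_add, mul_assoc]
    have hda : δ⁻¹ * a = a * δ := by rw [hflip, zpow_neg]
    have hcomm : δ * c * a = a * (δ * c) := by
      calc δ * c * a = δ * (c * a * c) * c := by
            rw [show δ * (c * a * c) * c = δ * c * a * (c * c) by group, hcc, mul_one]
        _ = δ * (a * δ) * δ * c := by rw [hcac2]; group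
        _ = δ * (δ⁻¹ * a) * δ * c := by rw [hda]
        _ = _ := by group
    have hρj : c * δ * c⁻¹ ∈ zpowers ρ := by
      rw [hδ, ← conj_zpow]
      exact zpow_mem hρc j
    set x := δ * c * (δ * c) with hx
    have hxρ : x ∈ zpowers ρ := by
      rw [hx, show δ * c * (δ * c) = δ * (c * δ * c) by group]
      rw [hci] at hρj
      exact mul_mem (zpow_mem (mem_zpowers ρ) j) hρj
    have hxa : a * x = x * a := by
      rw [hx, ← mul_assoc, ← hcomm, mul_assoc, ← hcomm, ← mul_assoc]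
    have hx2 : x * x = 1 := by
      obtain ⟨m, hm⟩ := hxρ
      have hm : ρ ^ m = x := hm
      have e1 : x⁻¹ = x := by
        have h1 := hxa
        rw [← hm, hflip, zpow_neg] at h1
        rw [← hm]
        exact mul_right_cancel h1
      exact inv_eq_iff_mul_eq_one.1 e1
    have hx1 : x = 1 := by
      refine (zpow_sq_cases hxρ hx2 hwρ h.wsq hw1).resolve_right fun e => ?_
      exact h.not_sq a ha (δ * c) (mul_mem (hρS j) (h.sub c hc)) hcomm e
    have hcδ : c * δ * c = δ⁻¹ := by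
      refine eq_inv_of_mul_eq_one_right ?_
      rw [← hx1, hx]; group
    have hfix : c * (a * δ) * c = a * δ := by
      rw [show c * (a * δ) * c = c * a * δ * c by group]
      calc c * a * δ * c = c * a * (c * c) * δ * c := by rw [hcc, mul_one]
        _ = (c * a * c) * (c * δ * c) := by group
        _ = a * δ := by rw [hcac2, hcδ, mul_inv_cancel_right]
    have hcom : a * δ * c = c * (a * δ) := by
      calc a * δ * c = c * (a * δ) * c * c := by rw [hfix]
        _ = c * (a * δ) := by rw [mul_assoc _ c c, hcc, mul_one]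
    have haδH : a * δ ∈ H := mul_mem haH (zpow_mem_closure_pair j)
    rcases h.comm _ (hrefl j) c hc hcom with e1 | e1
    · exact hcH (by rw [e1]; exact haδH)
    · exact hcH (by rw [e1]; exact mul_mem haδH hwH)
  · -- the classes are interchanged: a larger pair
    have hco : orderOf c = 2 := h.order_two_of_noncomm hc (Ne.symm hca)
    set K := closure ({a, c} : Set G) with hK
    have haK : a ∈ K := subset_closure (by simp)
    have hcK : c ∈ K := subset_closure (by simp)
    have hodd : ρ ^ (2 * j + 1) ∈ K := by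
      have h1 : a * (c * a * c) ∈ K := mul_mem haK (mul_mem (mul_mem hcK haK) hcK)
      rwa [hi, ← mul_assoc, h.sq a ha, one_mul] at h1
    have hρK : ρ ∈ K := by
      obtain ⟨n, hn⟩ := h.pgroup ⟨ρ, by simpa using hρS 1⟩
      have hn' : ρ ^ ((2 : ℤ) ^ n) = 1 := by
        have h1 := congrArg Subtype.val hn
        rw [show ((2 : ℤ) ^ n) = ((2 ^ n : ℕ) : ℤ) by push_cast; rfl, zpow_natCast]
        exact h1
      obtain ⟨u, v, huv⟩ := (show IsCoprime (2 * j + 1) (2 : ℤ) from ⟨1, -j, by ring⟩).pow_right (n := n)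
      have h1 : ρ = (ρ ^ (2 * j + 1)) ^ u := by
        conv_lhs => rw [← zpow_one ρ, ← huv, zpow_add, mul_comm v, zpow_mul ρ _ v, hn', one_zpow, mul_one,
          mul_comm u, zpow_mul]
      rw [h1]
      exact zpow_mem hodd u
    have hHK : H ≤ K := (closure_le K).2 (by
      rintro x (rfl | rfl)
      exacts [haK, by rw [hbρ]; exact mul_mem haK hρK])
    have hord : orderOf (a * c) ≤ orderOf ρ :=
      hmax (a, c) (Finset.mem_filter.2 ⟨Finset.mem_univ _, ha, hc, hca⟩)
    obtain ⟨eH⟩ := exists_dihedral_equiv hao hbo hne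
    obtain ⟨eK⟩ := exists_dihedral_equiv hao hco fun e => hca (by rw [e])
    have hHc : Nat.card H = 2 * orderOf ρ := by
      rw [Nat.card_congr eH.toEquiv, DihedralGroup.nat_card]
    have hKc : Nat.card K = 2 * orderOf (a * c) := by
      rw [Nat.card_congr eK.toEquiv, DihedralGroup.nat_card]
    have heq : H = K := eq_of_le_of_card_ge hHK (by omega)
    exact hcH (heq ▸ hcK)

end InvSet

end Cfsg.Lib.AbelianMeet
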