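import Cfsg.Agent.AbelianMeet.Small
import Cfsg.Agent.AbelianMeet.TwoGroup

/-!
The special involutions of the members share one central involution.
-/

set_option autoImplicit false
set_option linter.unusedSectionVars false
set_option linter.style.haveILetI false

namespace Cfsg.Lib.AbelianMeet

open Subgroup Cfsg.Lib.InvolCalc
open Cfsg.Lib.Coprime (conjMap mem_conjMap conjMap_eq_self conjMap_eq_self_iff)

variable {G : Type*} [Group G] [Finite G] {S : Sylow 2 G}

/-- the value of the commutator of a special involution with the normaliser of its member -/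
def Wval (S : Sylow 2 G) (e w : G) : Prop :=
  ∀ t ∈ (S : Subgroup G), t ∈ normalizer (((S : Subgroup G) ⊓ centralizer {e} : Subgroup G) : Set G) →
    t ∉ (S : Subgroup G) ⊓ centralizer {e} → t * e * t⁻¹ = e * w

theorem SmallData.spec {D D' : Subgroup G} {w a : G} (d : SmallData S D D' w a) : Spec S a :=
  ⟨D, d.part.left, d.a_mem, d.a_cent⟩

theorem SmallData.le_member {D D' : Subgroup G} {w a : G} (d : SmallData S D D' w a) :
    WD S D ≤ D := (closure_le _).2 (by
  rintro _ ⟨x, hx, y, hy, rfl⟩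
  exact mul_mem (conj_mem_of_normalizer (conjT_sub hx) hy) (inv_mem hy))

namespace Hyp

variable (h : Hyp G S)

include h

theorem spec_data [IsSimpleGroup G] (hG : ¬ IsMulCommutative G) {e : G} (he : Spec S e) :
    ∃ D D' w a, SmallData S D D' w a ∧ (S : Subgroup G) ⊓ centralizer {e} = D ∧ e ∈ WD S D ∧ e * e = 1 ∧
      e ∉ D' ∧ Wval S e w := by
  obtain ⟨D, hD, hW, hC⟩ := he
  obtain ⟨D', w, a, d⟩ := h.exists_data hG hD
  have hw : ∀ t ∈ (S : Subgroup G), t ∈ normalizer (D : Set G) → t * w = w * t := by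
    intro t ht htN
    obtain ⟨d', hd', hd⟩ := h.product d.part ht htN
    calc t * w = t * d'⁻¹ * (d' * w) := by group
      _ = (t * d'⁻¹ * w) * d' := by rw [h.inf_commute d.part d.w_inf (Or.inr hd')]; group
      _ = (w * (t * d'⁻¹)) * d' := by rw [h.inf_commute d.part d.w_inf (Or.inl hd)]
      _ = _ := by group
  have hcases : e = a ∨ e = a * w := by
    have hnot : e ∉ D ⊓ D' := h.not_mem_inf_of_ab d.part (by rw [hC]; exact h.ab_mem hD)
    rcases d.cover e hW with rfl | rfl | e1 | e1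
    · exact absurd (one_mem _) hnot
    · exact absurd d.w_inf hnot
    · exact Or.inl e1
    · exact Or.inr e1
  have haD : a ∈ D := d.le_member d.a_mem
  have haw : a * w = w * a := h.ab_mem hD _ haD _ d.w_inf.1
  refine ⟨D, D', w, a, d, hC, hW, ?_, ?_, ?_⟩
  · rcases hcases with rfl | rfl
    · exact d.a_sq
    · rw [show a * w * (a * w) = a * (w * a) * w by group, ← haw,
        show a * (a * w) * w = (a * a) * (w * w) by group, d.a_sq, d.w_sq, one_mul]
  · rcases hcases with rfl | rfl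
    · exact d.a_out
    · intro hc
      have := mul_mem hc d.w_inf.2
      rw [mul_assoc, d.w_sq, mul_one] at this
      exact d.a_out this
  · intro t ht htN htD
    rw [hC] at htN htD
    have h1 := d.shift t ht htN htD
    rcases hcases with rfl | rfl
    · exact h1
    · calc t * (a * w) * t⁻¹ = t * a * t⁻¹ * (t * w * t⁻¹) := by group
        _ = a * w * w := by rw [h1, hw t ht htN, mul_inv_cancel_right]

theorem wval_unique [IsSimpleGroup G] (hG : ¬ IsMulCommutative G) {e w w' : G} (he : Spec S e)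
    (hw : Wval S e w) (hw' : Wval S e w') : w = w' := by
  obtain ⟨D, _, _, _, d, hC, -⟩ := h.spec_data hG he
  obtain ⟨t, ht, htD, htN⟩ := (h.self_mem d.part.left).exists_out h
  exact mul_left_cancel ((hw t ht (hC.symm ▸ htN) (hC.symm ▸ htD)).symm.trans
    (hw' t ht (hC.symm ▸ htN) (hC.symm ▸ htD)))

/-- commuting special involutions have one member -/
theorem spec_commute [IsSimpleGroup G] (hG : ¬ IsMulCommutative G) {e f w : G} (he : Spec S e) (hf : Spec S f)
    (hw : Wval S e w) (hc : e * f = f * e) :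
    (S : Subgroup G) ⊓ centralizer {e} = (S : Subgroup G) ⊓ centralizer {f} ∧ (f = e ∨ f = e * w) := by
  obtain ⟨D, D', w₁, a, d, hC, hW, he2, heout, hw1⟩ := h.spec_data hG he
  obtain ⟨E, E', w₂, b, d₂, hCf, hWf, hf2, hfout, hw2⟩ := h.spec_data hG hf
  obtain rfl := h.wval_unique hG he hw hw1
  have hfD : f ∈ D := hC ▸ ⟨Spec.sub hf, mem_cent_iff.2 hc.symm⟩
  have hle : D ≤ E := hCf ▸ le_inf (h.self_mem d.part.left).le fun x hx =>
    mem_cent_iff.2 (h.ab_mem d.part.left x hx f hfD)
  have hDE : D = E := h.eq_of_comm (h.self_mem d.part.left) (h.self_mem d₂.part.left) hle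
  subst hDE
  refine ⟨hC.trans hCf.symm, ?_⟩
  have hnot : ∀ {u : G}, u ∈ D ⊓ D' → u ≠ e ∧ u ≠ f := fun {u} hu =>
    ⟨fun e1 => h.not_mem_inf_of_ab d.part (u := e) (hC.symm ▸ h.ab_mem d.part.left) (e1 ▸ hu),
      fun e1 => h.not_mem_inf_of_ab d.part (u := f) (hCf.symm ▸ h.ab_mem d.part.left) (e1 ▸ hu)⟩
  obtain ⟨n1e, n1f⟩ := hnot (one_mem _)
  obtain ⟨nwe, nwf⟩ := hnot d.w_inf
  rcases d.cover e hW with e1 | e1 | rfl | rfl
  · exact absurd e1.symm n1e
  · exact absurd e1.symm nwe
  · rcases d.cover f hWf with f1 | f1 | f1 | f1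
    · exact absurd f1.symm n1f
    · exact absurd f1.symm nwf
    · exact Or.inl f1
    · exact Or.inr f1
  · rcases d.cover f hWf with f1 | f1 | f1 | f1
    · exact absurd f1.symm n1f
    · exact absurd f1.symm nwf
    · exact Or.inr (by rw [f1, mul_assoc, d.w_sq, mul_one])
    · exact Or.inl f1

/-- the commutator value of a pair of noncommuting special involutions is their central involution -/
theorem spec_noncommute [IsSimpleGroup G] (hG : ¬ IsMulCommutative G) {e f : G} (he : Spec S e)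
    (hf : Spec S f) (hef : e * f ≠ f * e) {w : G} (hw : Wval S e w) :
    Wval S f w ∧ w ∈ zpowers (e * f) := by
  obtain ⟨D, D', w₁, a, d, hC, hW, he2, heout, hw1⟩ := h.spec_data hG he
  obtain ⟨E, E', w₂, b, d₂, hCf, hWf, hf2, hfout, hw2⟩ := h.spec_data hG hf
  obtain rfl := h.wval_unique hG he hw hw1
  have heo : orderOf e = 2 := order_two_of_mul_self he2 fun e0 => hef (by rw [e0, one_mul, mul_one])
  have hfo : orderOf f = 2 := order_two_of_mul_self hf2 fun e0 => hef (by rw [e0, one_mul, mul_one])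
  set ρ := e * f with hρ
  haveI : Fact (Nat.Prime 2) := ⟨Nat.prime_two⟩
  have heS := Spec.sub he
  have hfS := Spec.sub hf
  have hρS : ρ ∈ (S : Subgroup G) := mul_mem heS hfS
  obtain ⟨k, hk⟩ : ∃ k, orderOf ρ = 2 ^ (k + 2) := by
    obtain ⟨k, hk⟩ := IsPGroup.iff_orderOf.1 S.isPGroup' ⟨ρ, hρS⟩
    rw [Subgroup.orderOf_mk] at hk
    rcases k with _ | _ | k
    · exfalso
      rw [pow_zero, orderOf_eq_one_iff] at hk
      exact hef (by rw [← mul_inv_eq_one, mul_inv_rev, inv_of_order_two heo, inv_of_order_two hfo, ← hρ, hk, one_mul])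
    · exfalso
      have h2 : ρ * ρ = 1 := by
        have := pow_orderOf_eq_one ρ
        rwa [hk, pow_one, pow_two] at this
      refine hef ?_
      calc e * f = ρ⁻¹ := (inv_eq_of_mul_eq_one_right h2).symm
        _ = f * e := by rw [hρ, mul_inv_rev, inv_of_order_two heo, inv_of_order_two hfo]
    · exact ⟨k, hk⟩
  set r := ρ ^ ((2 ^ k : ℕ) : ℤ) with hr
  set c := r * r with hc
  have hc1 : c ≠ 1 := fun e0 => by
    rw [hc, hr, ← zpow_add, ← orderOf_dvd_iff_zpow_eq_one, ← Nat.cast_add, Int.natCast_dvd_natCast, hk] at e0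
    have := Nat.le_of_dvd (by positivity) e0
    rw [pow_add] at this
    have : 0 < 2 ^ k := by positivity
    omega
  have hcc : c * c = 1 := by
    rw [hc, hr, ← zpow_add, ← zpow_add, ← orderOf_dvd_iff_zpow_eq_one, hk]
    exact ⟨1, by push_cast; ring⟩
  have hci : c⁻¹ = c := inv_eq_of_mul_eq_one_right hcc
  have hrS : r ∈ (S : Subgroup G) := zpow_mem hρS _
  have hcρ : c ∈ zpowers ρ := mul_mem ⟨_, rfl⟩ ⟨_, rfl⟩
  have hce : ∀ {u : G}, u = e ∨ u = f → u * c = c * u := by
    have h1 : e * c = c * e := by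
      rw [hc, hr, ← zpow_add, flip_zpow heo hfo, zpow_neg]
      rw [zpow_add, ← hr, ← hc, hci]
    rintro u (hu | hu) <;> rw [hu]
    · exact h1
    · obtain ⟨i, hi⟩ := hcρ
      have hi : ρ ^ i = c := hi
      have h2 : Commute ρ c := by rw [← hi]; exact (Commute.refl ρ).zpow_right i
      have : f = e * ρ := snd_eq heo
      rw [this, mul_assoc, h2.eq, ← mul_assoc, h1, mul_assoc]
  have hcS : c ∈ (S : Subgroup G) := mul_mem hrS hrS
  have hcD : c ∈ D := hC ▸ ⟨hcS, mem_cent_iff.2 (hce (Or.inl rfl)).symm⟩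
  have hcZ : c ∈ D' := by
    by_contra hcZ
    have := h.centralizer_eq d.part (mem_omG_of hcD hcc) hcZ
    have hfD : f ∈ D := this ▸ ⟨hfS, mem_cent_iff.2 (hce (Or.inr rfl))⟩
    rw [← hC] at hfD
    exact hef (mem_cent_iff.1 hfD.2).symm
  have hre : r * e * r⁻¹ = c * e := by
    rw [hc, hr, conj_rot heo hfo, ← zpow_add, two_mul]
  have heD : e ∈ D := d.le_member hW
  have hDc : (S : Subgroup G) ⊓ centralizer {c * e} = D := by
    refine h.centralizer_eq d.part (mul_mem (mem_omG_of hcD hcc) (mem_omG_of heD he2)) fun hmem => heout ?_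
    have := mul_mem (inv_mem hcZ) hmem
    rwa [inv_mul_cancel_left] at this
  have hrN : r ∈ normalizer (D : Set G) := mem_normalizer_of_conj_le fun x hx => by
    rw [← hDc]
    refine mem_inf.2 ⟨mul_mem (mul_mem hrS ((h.self_mem d.part.left).le hx)) (inv_mem hrS), mem_cent_iff.2 ?_⟩
    have h1 := h.ab_mem d.part.left x hx e heD
    rw [← hre]
    calc r * x * r⁻¹ * (r * e * r⁻¹) = r * (x * e) * r⁻¹ := by group
      _ = r * (e * x) * r⁻¹ := by rw [h1]
      _ = _ := by group
  have hrD : r ∉ D := fun hc' => hc1 (by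
    rw [h.ab_mem d.part.left r hc' e heD, mul_inv_cancel_right] at hre
    exact mul_eq_right.1 hre.symm)
  have h1 := hw r hrS (hC.symm ▸ hrN) (hC.symm ▸ hrD)
  rw [hre, ← hce (Or.inl rfl)] at h1
  have hcw : c = w := mul_left_cancel h1
  refine ⟨?_, hcw ▸ hcρ⟩
  -- the same element for `f`
  have hcE : c ∈ E := hCf ▸ ⟨hcS, mem_cent_iff.2 (hce (Or.inr rfl)).symm⟩
  have hcZ' : c ∈ E' := by
    by_contra hcZ
    have := h.centralizer_eq d₂.part (mem_omG_of hcE hcc) hcZ
    have heE : e ∈ E := this ▸ ⟨heS, mem_cent_iff.2 (hce (Or.inl rfl))⟩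
    rw [← hCf] at heE
    exact hef (mem_cent_iff.1 heE.2)
  have hrf : r * f * r⁻¹ = c * f := by
    have e1 : f = e * ρ := snd_eq heo
    have h2 : Commute ρ r := (Commute.refl ρ).zpow_right _
    calc r * f * r⁻¹ = r * e * r⁻¹ * (r * ρ * r⁻¹) := by rw [e1]; group
      _ = c * e * ρ := by rw [hre, ← h2.eq, mul_inv_cancel_right]
      _ = c * f := by rw [e1, mul_assoc]
  have hfE : f ∈ E := d₂.le_member hWf
  have hEc : (S : Subgroup G) ⊓ centralizer {c * f} = E := by
    refine h.centralizer_eq d₂.part (mul_mem (mem_omG_of hcE hcc) (mem_omG_of hfE hf2)) fun hmem => hfout ?_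
    have := mul_mem (inv_mem hcZ') hmem
    rwa [inv_mul_cancel_left] at this
  have hrN' : r ∈ normalizer (E : Set G) := mem_normalizer_of_conj_le fun x hx => by
    rw [← hEc]
    refine mem_inf.2 ⟨mul_mem (mul_mem hrS ((h.self_mem d₂.part.left).le hx)) (inv_mem hrS), mem_cent_iff.2 ?_⟩
    have h1 := h.ab_mem d₂.part.left x hx f hfE
    rw [← hrf]
    calc r * x * r⁻¹ * (r * f * r⁻¹) = r * (x * f) * r⁻¹ := by group
      _ = r * (f * x) * r⁻¹ := by rw [h1]
      _ = _ := by group
  have hrE : r ∉ E := fun hc' => hc1 (by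
    rw [h.ab_mem d₂.part.left r hc' f hfE, mul_inv_cancel_right] at hrf
    exact mul_eq_right.1 hrf.symm)
  have h2 := hw2 r hrS (hCf.symm ▸ hrN') (hCf.symm ▸ hrE)
  rw [hrf, ← hce (Or.inr rfl)] at h2
  rw [← hcw, mul_left_cancel h2]
  exact hw2

theorem wval_all [IsSimpleGroup G] (hG : ¬ IsMulCommutative G) {e f w : G} (he : Spec S e) (hf : Spec S f)
    (hw : Wval S e w) : Wval S f w := by
  by_cases hc : e * f = f * e
  · obtain ⟨hCeq, hor⟩ := h.spec_commute hG he hf hw hc
    obtain ⟨D, D', w₁, a, d, hC, -, -, -, hw1⟩ := h.spec_data hG he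
    obtain rfl := h.wval_unique hG he hw hw1
    intro t ht htN htD
    rw [← hCeq] at htN htD
    have h1 := hw t ht htN htD
    rcases hor with rfl | rfl
    · exact h1
    · rw [hC] at htN
      have hwc : t * w * t⁻¹ = w := by
        obtain ⟨d', hd', hd⟩ := h.product d.part ht htN
        calc t * w * t⁻¹ = t * d'⁻¹ * (d' * w) * t⁻¹ := by group
          _ = (t * d'⁻¹ * w) * (d' * t⁻¹) := by rw [h.inf_commute d.part d.w_inf (Or.inr hd')]; group
          _ = w := by rw [h.inf_commute d.part d.w_inf (Or.inl hd)]; group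
      calc t * (e * w) * t⁻¹ = t * e * t⁻¹ * (t * w * t⁻¹) := by group
        _ = _ := by rw [h1, hwc]
  · exact (h.spec_noncommute hG he hf hc hw).1

/-- the one central involution, and the special involutions as an invariant set -/
theorem exists_invSet [IsSimpleGroup G] (hG : ¬ IsMulCommutative G) :
    ∃ w, InvSet (S : Subgroup G) {e | Spec S e} w ∧ w ≠ 1 ∧ Zc S w ∧
      (∀ n ∈ normalizer ((S : Subgroup G) : Set G), n * w * n⁻¹ = w) ∧
      ∀ D, Mem S D → ∃ D' a, SmallData S D D' w a ∧ Spec S a := by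
  obtain ⟨D, hD⟩ := h.exists_mem hG
  obtain ⟨D', w₀, a₀, d₀⟩ := h.exists_data hG hD
  obtain ⟨_, D₁', w, a, d, hC, hW, -, -, hw⟩ := h.spec_data hG d₀.spec
  have hall : ∀ e, Spec S e → Wval S e w := fun e he => h.wval_all hG d₀.spec he hw
  have hfix : ∀ n ∈ normalizer ((S : Subgroup G) : Set G), n * w * n⁻¹ = w := by
    intro n hn
    obtain ⟨t, ht, htD, htN⟩ := (h.self_mem d.part.left).exists_out h
    have h1 := hw t ht (hC.symm ▸ htN) (hC.symm ▸ htD)
    have he' : Spec S (n * a₀ * n⁻¹) := d₀.spec.conj_normalizer h hn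
    have hC' : (S : Subgroup G) ⊓ centralizer {n * a₀ * n⁻¹} =
        conjMap n ((S : Subgroup G) ⊓ centralizer {a₀}) := by
      rw [Cfsg.Lib.Coprime.conjMap_inf, conjMap_eq_self hn]
      congr 1
      ext x
      rw [mem_conjMap, mem_cent_iff, mem_cent_iff]
      constructor
      · intro e
        calc n⁻¹ * x * n * a₀ = n⁻¹ * (x * (n * a₀ * n⁻¹)) * n := by group
          _ = n⁻¹ * (n * a₀ * n⁻¹ * x) * n := by rw [e]
          _ = _ := by group
      · intro e
        calc x * (n * a₀ * n⁻¹) = n * (n⁻¹ * x * n * a₀) * n⁻¹ := by group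
          _ = n * (a₀ * (n⁻¹ * x * n)) * n⁻¹ := by rw [e]
          _ = _ := by group
    rw [hC] at hC'
    have h2 := hall _ he' (n * t * n⁻¹) (conj_mem_of_normalizer hn ht)
      (by rw [hC', Cfsg.Lib.Coprime.normalizer_conjMap]; exact mem_conj_of_mem htN)
      (fun hc' => htD (by
        rw [hC', mem_conjMap] at hc'
        rwa [show n⁻¹ * (n * t * n⁻¹) * n = t by group] at hc'))
    rw [show n * t * n⁻¹ * (n * a₀ * n⁻¹) * (n * t * n⁻¹)⁻¹ = n * (t * a₀ * t⁻¹) * n⁻¹ by group, h1,
      show n * (a₀ * w) * n⁻¹ = n * a₀ * n⁻¹ * (n * w * n⁻¹) by group] at h2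
    exact mul_left_cancel h2
  have hwS : w ∈ (S : Subgroup G) := (h.self_mem d.part.left).le d.w_inf.1
  have hcen : ∀ s ∈ (S : Subgroup G), s * w = w * s := fun s hs => by
    calc s * w = s * w * s⁻¹ * s := by group
      _ = w * s := by rw [hfix s (le_normalizer hs)]
  have hdata : ∀ E, Mem S E → ∃ E' b, SmallData S E E' w b ∧ Spec S b := by
    intro E hE
    obtain ⟨E', w', b, d'⟩ := h.exists_data hG hE
    have hw' : Wval S b w' := fun t ht htN htD => by
      rw [d'.a_cent] at htN htD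
      exact d'.shift t ht htN htD
    obtain rfl := h.wval_unique hG d'.spec hw' (hall b d'.spec)
    exact ⟨E', b, d', d'.spec⟩
  refine ⟨w, ⟨S.isPGroup', fun e he => Spec.sub he, fun e he => ?_, fun s hs e he =>
    Spec.conj_normalizer h (le_normalizer hs) he, hcen, d.w_sq, fun e he f hf hc =>
      (h.spec_commute hG he hf (hall e he) hc).2,
    fun e he f hf hc => (h.spec_noncommute hG he hf hc (hall e he)).2, fun e he x hx hxe hsq => ?_, ?_⟩,
    d.w_one, ⟨hwS, mem_centralizer_iff.2 hcen, d.w_sq⟩, hfix, hdata⟩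
  · obtain ⟨_, _, _, _, _, -, -, he2, -⟩ := h.spec_data hG he
    exact he2
  · obtain ⟨E, E', w', b, d', hCe, -, -, -, hw'⟩ := h.spec_data hG he
    obtain rfl := h.wval_unique hG he (hall e he) hw'
    have hxE : x ∈ E := hCe ▸ ⟨hx, mem_cent_iff.2 hxe⟩
    obtain ⟨u, hu, k, hk, rfl⟩ := d'.split x hxE
    have hab := h.ab_mem d'.part.left
    have hu2 : u * u = 1 := by
      rcases d'.cover u hu with rfl | rfl | rfl | rfl
      · exact one_mul 1
      · exact d'.w_sq
      · exact d'.a_sq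
      · rw [show b * w * (b * w) = b * (w * b) * w by group, hab w d'.w_inf.1 b (d'.le_member d'.a_mem),
          show b * (b * w) * w = (b * b) * (w * w) by group, d'.a_sq, d'.w_sq, one_mul]
    refine d'.w_one (d'.compl w d'.w_mem ?_)
    rw [← hsq, show u * k * (u * k) = u * (k * u) * k by group, hab k hk.1 u (d'.le_member hu),
      show u * (u * k) * k = (u * u) * (k * k) by group, hu2, one_mul]
    exact mul_mem hk hk
  · obtain ⟨s, hs, hsN⟩ := SetLike.not_le_iff_exists.1 (h.nonnormal hG d.part.left)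
    refine ⟨a₀, d₀.spec, s * a₀ * s⁻¹, d₀.spec.conj_normalizer h (le_normalizer hs), fun hc => hsN ?_⟩
    obtain ⟨e1, -⟩ := h.spec_commute hG d₀.spec (d₀.spec.conj_normalizer h (le_normalizer hs)) hw hc
    refine mem_normalizer_of_conj_le fun x hx => ?_
    rw [← hC] at hx
    rw [← hC, e1]
    refine mem_inf.2 ⟨mul_mem (mul_mem hs hx.1) (inv_mem hs), mem_cent_iff.2 ?_⟩
    calc s * x * s⁻¹ * (s * a₀ * s⁻¹) = s * (x * a₀) * s⁻¹ := by group
      _ = s * (a₀ * x) * s⁻¹ := by rw [mem_cent_iff.1 hx.2]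
      _ = _ := by group

end Hyp

end Cfsg.Lib.AbelianMeet
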